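import Groth.Agent.Lib.Helper38.DiagBaseChange
import Groth.Agent.S6401
import Groth.Agent.S12779
import Groth.Agent.S12782

/-!
# Properties of the diagonal are stable under base change (algebraic stacks)
-/

set_option autoImplicit false
universe u

namespace Groth.Agent.Lib.Helper38.DBCAlgSt

open CategoryTheory AlgebraicGeometry FibCat AlgSt
open Groth.Agent.Lib.Helper38.DBC

theorem isEquivOver_id {S : Scheme.{u}} (𝒜 : AlgSt.Cat S) :
    FibCat.IsEquivOver (BasedFunctor.id 𝒜) :=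
  ⟨BasedFunctor.id 𝒜, ⟨Iso.refl _⟩, ⟨Iso.refl _⟩⟩

/-- If the diagonal of `f` is representable by algebraic spaces with property `P`, so is the diagonal
of every base change of `f` (no condition on `P`). -/
theorem repByAlgSpWith_diag_fpFst {S : Scheme.{u}} {𝒳 𝒴 𝒵 : AlgSt.Cat S}
    (h𝒳 : FibCat.IsFibGrpd 𝒳.p) (h𝒴 : FibCat.IsFibGrpd 𝒴.p) (h𝒵 : FibCat.IsFibGrpd 𝒵.p)
    (P : MorphismProperty (AlgSp.Sp S)) (f : 𝒳 ⥤ᵇ 𝒴) (g : 𝒵 ⥤ᵇ 𝒴)
    (h : AlgSt.RepByAlgSpWith P (FibCat.diag f)) :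
    AlgSt.RepByAlgSpWith P (FibCat.diag (FibCat.fpFst g f)) := by
  have hX' : FibCat.IsFibGrpd (FibCat.fp g f).p := Groth.Agent.S6401.result g f h𝒵 h𝒳 h𝒴
  have hP : FibCat.IsFibGrpd (FibCat.fp f f).p := Groth.Agent.S6401.result f f h𝒳 h𝒳 h𝒴
  have hP' : FibCat.IsFibGrpd (FibCat.fp (FibCat.fpFst g f) (FibCat.fpFst g f)).p :=
    Groth.Agent.S6401.result _ _ hX' hX' h𝒵
  have h1 : AlgSt.RepByAlgSpWith P (FibCat.fpFst (c g f) (FibCat.diag f)) :=
    Groth.Agent.S12779.result h𝒳 hP hP' P (FibCat.diag f) (c g f) h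
  exact Groth.Agent.S12782.fwd P (FibCat.fpFst (c g f) (FibCat.diag f))
    (FibCat.diag (FibCat.fpFst g f)) (a g f) (BasedFunctor.id _) (a_isEquivOver g f)
    (isEquivOver_id _) (Iso.refl _) h1

end Groth.Agent.Lib.Helper38.DBCAlgSt
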