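import Mathlib

/-!
# Power series over a Noetherian normal domain are normal (Stacks 0BI0) (helper38)
-/

set_option autoImplicit false
universe u

namespace Groth.Agent.Lib.Helper38.PowerSeriesNormal

open PowerSeries HahnSeries

variable (R : Type*) [CommRing R] [IsDomain R] (K : Type*) [Field K] [Algebra R K]
  [IsFractionRing R K]

/-- The embedding `R⟦X⟧ → LaurentSeries K`. -/
noncomputable def psi : R⟦X⟧ →+* LaurentSeries K :=
  (HahnSeries.ofPowerSeries ℤ K).comp (PowerSeries.map (algebraMap R K))

omit [IsDomain R] [IsFractionRing R K] in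
lemma psi_coeff (c : R⟦X⟧) (i : ℤ) :
    (psi R K c).coeff i = if i < 0 then 0 else algebraMap R K (PowerSeries.coeff i.natAbs c) := by
  change ((PowerSeries.map (algebraMap R K) c : K⟦X⟧) : LaurentSeries K).coeff i = _
  rw [PowerSeries.coeff_coe, PowerSeries.coeff_map]

omit [IsDomain R] in
lemma psi_injective : Function.Injective (psi R K) := by
  intro a b hab
  ext n
  have := congrArg (fun w => w.coeff (n : ℤ)) hab
  simp only [psi_coeff] at this
  rw [if_neg (by omega), if_neg (by omega), Int.natAbs_natCast] at this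
  exact IsFractionRing.injective R K this

omit [IsDomain R] [IsFractionRing R K] in
lemma leadingCoeff_pow' (W : LaurentSeries K) (e : ℕ) :
    (W ^ e).leadingCoeff = W.leadingCoeff ^ e := by
  induction e with
  | zero => simp
  | succ e ih => rw [pow_succ, HahnSeries.leadingCoeff_mul, ih, pow_succ]

/-- Key step: for an almost integral `w`, the Laurent series `W` has nonnegative order and its
leading coefficient is integral. -/
lemma order_nonneg_and_leadingCoeff_mem [IsNoetherianRing R] [IsIntegrallyClosed R]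
    (W : LaurentSeries K) (hW : W ≠ 0) (h : R⟦X⟧) (hh : h ≠ 0)
    (hall : ∀ e : ℕ, ∃ c : R⟦X⟧, psi R K h * W ^ e = psi R K c) :
    0 ≤ W.order ∧ W.leadingCoeff ∈ (algebraMap R K).range := by
  have hH : psi R K h ≠ 0 := by
    rw [Ne, map_eq_zero_iff _ (psi_injective R K)]
    exact hh
  -- order and leading coeff of elements in the image
  have hord : ∀ c : R⟦X⟧, psi R K c ≠ 0 → 0 ≤ (psi R K c).order := by
    intro c hc
    by_contra hlt
    push Not at hlt
    have := (HahnSeries.coeff_order_eq_zero (x := psi R K c)).not.mpr hc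
    rw [psi_coeff, if_pos hlt] at this
    exact this rfl
  have hlc : ∀ c : R⟦X⟧, (psi R K c).leadingCoeff ∈ (algebraMap R K).range := by
    intro c
    rw [HahnSeries.leadingCoeff_eq, psi_coeff]
    split_ifs
    · exact ⟨0, map_zero _⟩
    · exact ⟨_, rfl⟩
  have hprod : ∀ e : ℕ, psi R K h * W ^ e ≠ 0 := fun e => mul_ne_zero hH (pow_ne_zero _ hW)
  constructor
  · by_contra hlt
    push Not at hlt
    -- order of H * W^e = m + e * n ≥ 0 for all e
    have hm := hord h hH
    set m := (psi R K h).order with hmdef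
    obtain ⟨c, hc⟩ := hall (m.toNat + 1)
    have h1 := hord c (hc ▸ hprod _)
    rw [← hc, HahnSeries.order_mul hH (pow_ne_zero _ hW), HahnSeries.order_pow] at h1
    have h2 : ((m.toNat + 1 : ℕ) : ℤ) = m + 1 := by
      rw [Nat.cast_add, Int.toNat_of_nonneg hm, Nat.cast_one]
    rw [← hmdef, nsmul_eq_mul, h2] at h1
    nlinarith
  · -- leading coeff almost integral
    obtain ⟨b, hb⟩ := hlc h
    have hb0 : b ≠ 0 := by
      rintro rfl
      rw [map_zero] at hb
      exact hH (HahnSeries.leadingCoeff_eq_zero.mp hb.symm)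
    have halm : IsAlmostIntegral R W.leadingCoeff := by
      refine ⟨b, mem_nonZeroDivisors_of_ne_zero hb0, fun e => ?_⟩
      obtain ⟨c, hc⟩ := hall e
      have := hlc c
      rw [← hc, HahnSeries.leadingCoeff_mul, leadingCoeff_pow', ← hb] at this
      rw [Algebra.smul_def]
      exact this
    have hint : IsIntegral R W.leadingCoeff := halm.isIntegral
    exact IsIntegrallyClosed.isIntegral_iff.mp hint


/-- Stacks 0BI0: the power series ring over a Noetherian normal domain is normal. -/
theorem isIntegrallyClosed_powerSeries (R : Type*) [CommRing R] [IsDomain R] [IsNoetherianRing R]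
    [IsIntegrallyClosed R] : IsIntegrallyClosed R⟦X⟧ := by
  classical
  let K := FractionRing R
  let FA := FractionRing R⟦X⟧
  let Ψ : FA →+* LaurentSeries K := IsFractionRing.lift (psi_injective R K)
  have hΨ : ∀ a : R⟦X⟧, Ψ (algebraMap R⟦X⟧ FA a) = psi R K a :=
    fun a => IsFractionRing.lift_algebraMap _ a
  -- order and leading coefficient of an integral element
  have base : ∀ w : FA, IsIntegral R⟦X⟧ w → Ψ w ≠ 0 →
      0 ≤ (Ψ w).order ∧ (Ψ w).leadingCoeff ∈ (algebraMap R K).range := by
    intro w hw hW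
    obtain ⟨h, hh, hall⟩ := hw.isAlmostIntegral
    have hall' : ∀ e : ℕ, ∃ c : R⟦X⟧, psi R K h * (Ψ w) ^ e = psi R K c := by
      intro e
      obtain ⟨c, hc⟩ := hall e
      refine ⟨c, ?_⟩
      rw [← hΨ, ← hΨ, hc, Algebra.smul_def, map_mul, map_pow]
    exact order_nonneg_and_leadingCoeff_mem R K (Ψ w) hW h (nonZeroDivisors.ne_zero hh) hall'
  have key : ∀ w : FA, IsIntegral R⟦X⟧ w → ∀ N : ℕ,
      (∀ i : ℤ, i < N → (Ψ w).coeff i = 0) → (Ψ w).coeff N ∈ (algebraMap R K).range := by
    intro w hw N hlow
    by_cases hW : Ψ w = 0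
    · rw [hW]
      exact ⟨0, by simp⟩
    obtain ⟨-, hlc⟩ := base w hw hW
    have hordN : (N : ℤ) ≤ (Ψ w).order := by
      by_contra hlt
      push Not at hlt
      exact (HahnSeries.coeff_order_eq_zero.not.mpr hW) (hlow _ hlt)
    rcases hordN.eq_or_lt with heq | hlt
    · rw [heq, ← HahnSeries.leadingCoeff_eq]
      exact hlc
    · rw [HahnSeries.coeff_eq_zero_of_lt_order hlt]
      exact ⟨0, map_zero _⟩
  rw [isIntegrallyClosed_iff FA]
  intro w hw
  have hneg : ∀ i : ℤ, i < 0 → (Ψ w).coeff i = 0 := by
    intro i hi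
    by_cases hW : Ψ w = 0
    · rw [hW]
      simp
    · exact HahnSeries.coeff_eq_zero_of_lt_order (lt_of_lt_of_le hi (base w hw hW).1)
  have hcoef : ∀ N : ℕ, (Ψ w).coeff N ∈ (algebraMap R K).range := by
    intro N
    induction N using Nat.strong_induction_on with
    | h N ih =>
      choose! r hr using ih
      let F : R⟦X⟧ := PowerSeries.mk fun m => if m < N then r m else 0
      have hFint : IsIntegral R⟦X⟧ (w - algebraMap R⟦X⟧ FA F) := hw.sub isIntegral_algebraMap
      have hlow : ∀ i : ℤ, i < N → (Ψ (w - algebraMap R⟦X⟧ FA F)).coeff i = 0 := by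
        intro i hi
        rw [map_sub, hΨ, HahnSeries.coeff_sub, psi_coeff]
        split_ifs with hi0
        · rw [hneg i hi0, sub_zero]
        · push Not at hi0
          obtain ⟨m, rfl⟩ := Int.eq_ofNat_of_zero_le hi0
          have hmN : m < N := by exact_mod_cast hi
          rw [Int.natAbs_natCast, PowerSeries.coeff_mk, if_pos hmN, hr m hmN, sub_self]
      have := key _ hFint N hlow
      rw [map_sub, hΨ, HahnSeries.coeff_sub, psi_coeff, if_neg (by omega), Int.natAbs_natCast,
        PowerSeries.coeff_mk, if_neg (lt_irrefl N), map_zero, sub_zero] at this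
      exact this
  choose r hr using hcoef
  refine ⟨PowerSeries.mk r, ?_⟩
  apply Ψ.injective
  rw [hΨ]
  ext i
  rw [psi_coeff]
  split_ifs with hi0
  · exact (hneg i hi0).symm
  · push Not at hi0
    obtain ⟨m, rfl⟩ := Int.eq_ofNat_of_zero_le hi0
    rw [Int.natAbs_natCast, PowerSeries.coeff_mk, hr]

end Groth.Agent.Lib.Helper38.PowerSeriesNormal
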