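import Mathlib
import Groth.Prelude.Def_Found

/-!
# Reduction of the N-2 property to purely inseparable extensions (helper38)

* `isSeparable_perfectClosure_of_normal`: a finite normal extension `M/F` is separable over
  `perfectClosure F M`.
* `finite_integralClosure_of_perfectClosure`, `isN2_of_purelyInseparable`.
-/

set_option autoImplicit false
universe u

namespace Groth.Agent.Lib.Helper38.InsepReduction

open IntermediateField Polynomial

/-- An element of a normal extension fixed by all automorphisms is purely inseparable over the base. -/
theorem mem_perfectClosure_of_forall_algEquiv {F M : Type*} [Field F] [Field M] [Algebra F M]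
    [Normal F M] (x : M) (hx : ∀ σ : M ≃ₐ[F] M, σ x = x) : x ∈ perfectClosure F M := by
  classical
  rw [mem_perfectClosure_iff_natSepDegree_eq_one]
  have halg : IsAlgebraic F x := (Normal.isIntegral ‹Normal F M› x).isAlgebraic
  have hint : IsIntegral F x := halg.isIntegral
  rw [natSepDegree_eq_of_splits (minpoly F x) (Normal.splits ‹Normal F M› x)]
  have hroots : ((minpoly F x).aroots M).toFinset = {x} := by
    ext y
    rw [Multiset.mem_toFinset, mem_aroots, Finset.mem_singleton]
    constructor
    · rintro ⟨-, hy⟩
      obtain ⟨σ, hσ⟩ := minpoly.exists_algEquiv_of_root' halg hy
      rw [← hσ, hx σ]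
    · rintro rfl
      exact ⟨minpoly.ne_zero hint, minpoly.aeval F y⟩
  rw [hroots, Finset.card_singleton]

/-- A finite normal extension is separable over its relative perfect closure. -/
theorem isSeparable_perfectClosure_of_normal (F M : Type*) [Field F] [Field M] [Algebra F M]
    [FiniteDimensional F M] [Normal F M] : Algebra.IsSeparable (perfectClosure F M) M := by
  classical
  let G := M ≃ₐ[F] M
  have hfin : Finite G := inferInstance
  let S := FixedPoints.subfield G M
  have hsep : Algebra.IsSeparable S M := inferInstance
  have hSP : ∀ x : S, (x : M) ∈ perfectClosure F M := by
    intro x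
    apply mem_perfectClosure_of_forall_algEquiv
    intro σ
    exact x.2 σ
  let i : S →+* perfectClosure F M :=
    { toFun := fun x => ⟨x, hSP x⟩
      map_one' := rfl
      map_mul' := fun _ _ => rfl
      map_zero' := rfl
      map_add' := fun _ _ => rfl }
  let _ : Algebra S (perfectClosure F M) := i.toAlgebra
  have : IsScalarTower S (perfectClosure F M) M := IsScalarTower.of_algebraMap_eq fun x => rfl
  exact Algebra.isSeparable_tower_top_of_isSeparable S (perfectClosure F M) M

/-- Reduction to the relative perfect closure of a normal overfield. -/
theorem finite_integralClosure_of_perfectClosure (A F L M : Type*) [CommRing A] [IsDomain A]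
    [IsNoetherianRing A] [Field F] [Field L] [Field M] [Algebra A F] [IsFractionRing A F]
    [Algebra A L] [Algebra F M] [Algebra A M] [IsScalarTower A F M]
    [Algebra L M] [IsScalarTower A L M] [FiniteDimensional F M] [Normal F M]
    (h : Module.Finite A (integralClosure A (perfectClosure F M))) :
    Module.Finite A (integralClosure A L) := by
  let P := perfectClosure F M
  let AP := integralClosure A P
  have hsep : Algebra.IsSeparable P M := isSeparable_perfectClosure_of_normal F M
  have hnoeth : IsNoetherianRing AP := Algebra.FiniteType.isNoetherianRing A AP
  have hic : IsIntegrallyClosed AP := integralClosure.isIntegrallyClosedOfFiniteExtension F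
  have hfrac : IsFractionRing AP P := integralClosure.isFractionRing_of_finite_extension F P
  have htAPM : IsScalarTower A P M := IsScalarTower.of_algebraMap_eq fun x => by
    rw [IsScalarTower.algebraMap_apply A F M, IsScalarTower.algebraMap_apply A F P]
    rfl
  have htAAPM : IsScalarTower A AP M := Subalgebra.isScalarTower_mid AP
  let CM := integralClosure AP M
  have hfinCM : Module.Finite AP CM := IsIntegralClosure.finite AP P M CM
  have hfinCM' : Module.Finite A CM := Module.Finite.trans AP CM
  have hnoethCM : IsNoetherian A CM := isNoetherian_of_isNoetherianRing_of_finite A CM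
  have hmem : ∀ x : integralClosure A L, algebraMap L M x ∈ CM := by
    intro x
    have hx : IsIntegral A (x : L) := x.2
    have hx' : IsIntegral A (algebraMap L M x) := hx.map (IsScalarTower.toAlgHom A L M)
    exact hx'.tower_top
  let φ : integralClosure A L →ₗ[A] CM :=
    { toFun := fun x => ⟨algebraMap L M x, hmem x⟩
      map_add' := fun x y => by
        apply Subtype.ext
        simp
      map_smul' := fun a x => by
        apply Subtype.ext
        change algebraMap L M ((a • x : integralClosure A L) : L) = a • algebraMap L M (x : L)
        rw [Subalgebra.coe_smul, Algebra.smul_def, Algebra.smul_def, map_mul,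
          ← IsScalarTower.algebraMap_apply A L M] }
  have hφ : Function.Injective φ := by
    intro x y hxy
    have := congrArg Subtype.val hxy
    exact Subtype.ext ((algebraMap L M).injective this)
  exact Module.Finite.of_injective φ hφ

/-- A Noetherian domain is N-2 as soon as its integral closure in every finite purely inseparable
extension of its fraction field is finite. -/
theorem isN2_of_purelyInseparable (A : Type u) [CommRing A] [IsDomain A] [IsNoetherianRing A]
    (h : ∀ (P : Type u) [Field P] [Algebra A P] [Algebra (FractionRing A) P]
      [IsScalarTower A (FractionRing A) P], FiniteDimensional (FractionRing A) P →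
      IsPurelyInseparable (FractionRing A) P → Module.Finite A (integralClosure A P)) :
    CAlg.IsN2 A := by
  intro L _ _ _ _ hfd
  let F := FractionRing A
  let Ω := AlgebraicClosure L
  have halg : Algebra.IsAlgebraic F L := Algebra.IsAlgebraic.of_finite F L
  have hac : IsAlgClosure F Ω := IsAlgClosure.ofAlgebraic F L Ω
  have hnΩ : Normal F Ω := IsAlgClosure.normal F Ω
  let M := normalClosure F L Ω
  have hnM : Normal F M := normalClosure.normal F L Ω
  have hfdM : FiniteDimensional F M := normalClosure.is_finiteDimensional F L Ω
  have hfdP : FiniteDimensional F (perfectClosure F M) := inferInstance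
  have hpi : IsPurelyInseparable F (perfectClosure F M) := inferInstance
  have hfin := h (perfectClosure F M) hfdP hpi
  have htALM : IsScalarTower A L M := IsScalarTower.of_algebraMap_eq fun x => by
    apply Subtype.ext
    change algebraMap A Ω x = algebraMap L Ω (algebraMap A L x)
    rw [← IsScalarTower.algebraMap_apply A L Ω]
  exact finite_integralClosure_of_perfectClosure A F L M hfin

end Groth.Agent.Lib.Helper38.InsepReduction
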