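import Groth.Agent.S9392
import Groth.Agent.S0544
import Groth.Agent.Lib.Helper38.InsepReduction

set_option autoImplicit false
universe u
open CAlg

namespace Groth.Agent.Lib.Helper38.Tate


theorem isN2_of_ringEquiv {A B : Type u} [CommRing A] [IsDomain A] [CommRing B] [IsDomain B]
    (e : A ≃+* B) (h : CAlg.IsN2 A) : CAlg.IsN2 B := by
  let _ : Algebra A B := e.toRingHom.toAlgebra
  have h1 : IsLocalization (IsUnit.submonoid A) A := IsLocalization.self le_rfl
  have h2 : IsLocalization (IsUnit.submonoid A) B :=
    IsLocalization.isLocalization_of_algEquiv (IsUnit.submonoid A)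
      (AlgEquiv.ofRingEquiv (f := e) (fun a => rfl) : A ≃ₐ[A] B)
  exact Groth.Agent.S9392.result A (IsUnit.submonoid A) B h

/-- Elementary lifting of linear independence modulo `x`. -/
theorem forall_eq_zero_of_quotient {R M : Type*} [CommRing R] [AddCommGroup M] [Module R M]
    (x : R) (hR : ∀ r : R, (∀ n : ℕ, x ^ n ∣ r) → r = 0)
    (hM : ∀ m : M, x • m = 0 → m = 0)
    {ι : Type*} [Fintype ι] (m : ι → M)
    (hm : ∀ g : ι → R, ∑ i, g i • m i = 0 → ∀ i, x ∣ g i)
    (g : ι → R) (hg : ∑ i, g i • m i = 0) : ∀ i, g i = 0 := by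
  have hMn : ∀ (n : ℕ) (m : M), x ^ n • m = 0 → m = 0 := by
    intro n
    induction n with
    | zero => intro m h; simpa using h
    | succ n ih =>
      intro m h
      rw [pow_succ, mul_smul] at h
      exact hM m (ih _ h)
  have key : ∀ (n : ℕ) (g : ι → R), ∑ i, g i • m i = 0 → ∀ i, x ^ n ∣ g i := by
    intro n
    induction n with
    | zero => intro g _ i; simp
    | succ n ih =>
      intro g hg
      have h1 := ih g hg
      choose g' hg' using h1
      have h2 : ∑ i, g' i • m i = 0 := by
        apply hMn n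
        rw [Finset.smul_sum, ← hg]
        refine Finset.sum_congr rfl fun i _ => ?_
        rw [hg' i, mul_smul]
      have h3 := hm g' h2
      intro i
      obtain ⟨c, hc⟩ := h3 i
      exact ⟨c, by rw [hg' i, hc, pow_succ, mul_assoc]⟩
  intro i
  exact hR _ fun n => key n g hg i



theorem isNoetherian_quotient_pow {R S : Type*} [CommRing R] [CommRing S] [Algebra R S] (y : S)
    (h : IsNoetherian R (S ⧸ (Ideal.span {y}).restrictScalars R)) (n : ℕ) :
    IsNoetherian R (S ⧸ (Ideal.span {y ^ n}).restrictScalars R) := by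
  induction n with
  | zero =>
    have : Subsingleton (S ⧸ (Ideal.span {y ^ 0}).restrictScalars R) := by
      rw [Submodule.Quotient.subsingleton_iff]
      rw [pow_zero, Ideal.span_singleton_one]
      rfl
    infer_instance
  | succ n ih =>
    have hle1 : (Ideal.span {y}).restrictScalars R ≤
        Submodule.comap (LinearMap.mulLeft R (y ^ n))
          ((Ideal.span {y ^ (n + 1)}).restrictScalars R) := by
      intro s hs
      rw [Submodule.mem_comap, Submodule.restrictScalars_mem, Ideal.mem_span_singleton] at *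
      obtain ⟨c, rfl⟩ := hs
      exact ⟨c, by simp [pow_succ, mul_assoc]⟩
    have hle2 : (Ideal.span {y ^ (n + 1)}).restrictScalars R ≤
        Submodule.comap (LinearMap.id : S →ₗ[R] S) ((Ideal.span {y ^ n}).restrictScalars R) := by
      intro s hs
      rw [Submodule.mem_comap, Submodule.restrictScalars_mem, Ideal.mem_span_singleton] at *
      obtain ⟨c, rfl⟩ := hs
      exact ⟨y * c, by simp [pow_succ, mul_assoc]⟩
    refine isNoetherian_of_range_eq_ker
      (Submodule.mapQ _ _ (LinearMap.mulLeft R (y ^ n)) hle1)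
      (Submodule.mapQ _ _ LinearMap.id hle2) ?_
    ext z
    obtain ⟨s, rfl⟩ := Submodule.Quotient.mk_surjective _ z
    rw [LinearMap.mem_ker, Submodule.mapQ_apply, Submodule.Quotient.mk_eq_zero,
      Submodule.restrictScalars_mem, Ideal.mem_span_singleton, LinearMap.id_apply]
    constructor
    · rintro ⟨t, ht⟩
      obtain ⟨t, rfl⟩ := Submodule.Quotient.mk_surjective _ t
      rw [Submodule.mapQ_apply, Submodule.Quotient.eq, Submodule.restrictScalars_mem,
        Ideal.mem_span_singleton, LinearMap.mulLeft_apply] at ht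
      obtain ⟨c, hc⟩ := ht
      refine ⟨t - y * c, ?_⟩
      rw [mul_sub, ← mul_assoc, ← pow_succ, ← hc]
      ring
    · rintro ⟨c, rfl⟩
      exact ⟨Submodule.Quotient.mk c, by rw [Submodule.mapQ_apply, LinearMap.mulLeft_apply]⟩



section Core

variable (R : Type u) [CommRing R] [IsDomain R] [IsIntegrallyClosed R]
  (L : Type u) [Field L] [Algebra R L] [Algebra (FractionRing R) L]
  [IsScalarTower R (FractionRing R) L]

omit [IsIntegrallyClosed R] in
include R in
theorem algebraMap_injective' : Function.Injective (algebraMap R L) := by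
  rw [IsScalarTower.algebraMap_eq R (FractionRing R) L]
  exact (algebraMap (FractionRing R) L).injective.comp (IsFractionRing.injective R (FractionRing R))

theorem exists_pow_eq (q : ℕ) (hLq : ∀ l : L, l ^ q ∈ (algebraMap (FractionRing R) L).range)
    (f : integralClosure R L) : ∃ r : R, algebraMap R L r = (f : L) ^ q := by
  obtain ⟨k, hk⟩ := hLq f
  have h1 : IsIntegral R (algebraMap (FractionRing R) L k) := by
    rw [hk]; exact f.2.pow q
  rw [isIntegral_algebraMap_iff (algebraMap (FractionRing R) L).injective] at h1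
  obtain ⟨r, hr⟩ := IsIntegrallyClosed.isIntegral_iff.mp h1
  exact ⟨r, by rw [IsScalarTower.algebraMap_apply R (FractionRing R) L, hr, hk]⟩

theorem exists_frob (p e : ℕ) [ExpChar L p]
    (hLq : ∀ l : L, l ^ (p ^ e) ∈ (algebraMap (FractionRing R) L).range) :
    ∃ φ : integralClosure R L →+* R, ∀ f, algebraMap R L (φ f) = (f : L) ^ (p ^ e) := by
  choose φ hφ using exists_pow_eq R L (p ^ e) hLq
  have inj := algebraMap_injective' R L
  refine ⟨{ toFun := φ, map_one' := ?_, map_mul' := ?_, map_zero' := ?_, map_add' := ?_ }, hφ⟩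
  · apply inj; rw [hφ]; simp
  · intro a b; apply inj; rw [hφ, map_mul, hφ, hφ]; simp [mul_pow]
  · apply inj; rw [hφ]; simp [(expChar_pos L p).ne']
  · intro a b; apply inj; rw [hφ, map_add, hφ, hφ]; simp [add_pow_expChar_pow]

local notation "S" => integralClosure R L

variable {R L} (q : ℕ) (hq : 0 < q) (φ : integralClosure R L →+* R)
  (hφ : ∀ f, algebraMap R L (φ f) = (f : L) ^ q)

omit [IsIntegrallyClosed R] in
include hφ in
theorem frob_algebraMap (r : R) : φ (algebraMap R (integralClosure R L) r) = r ^ q := by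
  apply algebraMap_injective' R L
  rw [hφ, map_pow]
  rfl

omit [IsIntegrallyClosed R] [IsDomain R] [Algebra (FractionRing R) L] [IsScalarTower R (FractionRing R) L] in
include hφ hq in
theorem frob_injective : Function.Injective φ := by
  rw [injective_iff_map_eq_zero]
  intro f hf
  have := hφ f
  rw [hf, map_zero] at this
  have h2 : (f : L) = 0 := by
    exact (pow_eq_zero_iff hq.ne').mp this.symm
  exact Subtype.ext h2

omit [IsIntegrallyClosed R] in
include hφ hq in
theorem comap_frob_eq (x : R) (hx : x ≠ 0) (y : integralClosure R L)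
    (hy : (y : L) ^ q = algebraMap R L x) :
    Ideal.comap φ (Ideal.span {x}) = Ideal.span {y} := by
  have hy0 : (y : L) ≠ 0 := by
    intro h0
    rw [h0, zero_pow hq.ne'] at hy
    exact hx (algebraMap_injective' R L (by rw [← hy, map_zero]))
  have hφy : φ y = x := by
    apply algebraMap_injective' R L
    rw [hφ, hy]
  ext f
  rw [Ideal.mem_comap, Ideal.mem_span_singleton, Ideal.mem_span_singleton]
  constructor
  · rintro ⟨r, hr⟩
    -- f^q = x * r = y^q * r, so (f / y)^q = r
    have h1 : ((f : L) / y) ^ q = algebraMap R L r := by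
      have hx' : algebraMap R L x ≠ 0 := fun h => hx (algebraMap_injective' R L (by rw [h, map_zero]))
      rw [div_pow, ← hφ f, hr, map_mul, hy, mul_div_cancel_left₀ _ hx']
    have h2 : IsIntegral R ((f : L) / y) := by
      refine IsIntegral.of_pow hq ?_
      rw [h1]
      exact isIntegral_algebraMap
    refine ⟨⟨(f : L) / y, h2⟩, ?_⟩
    apply Subtype.ext
    simp only [MulMemClass.coe_mul]
    field_simp
  · rintro ⟨g, rfl⟩
    rw [map_mul, hφy]
    exact dvd_mul_right _ _

omit [IsIntegrallyClosed R] in
include hφ hq in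
theorem finite_quotient_comap_frob [IsNoetherianRing R] [FiniteDimensional (FractionRing R) L]
    (x : R) (hx : x ≠ 0) [hp : (Ideal.span ({x} : Set R)).IsPrime]
    (hR : ∀ r : R, (∀ n : ℕ, x ^ n ∣ r) → r = 0)
    (h2 : CAlg.IsN2 (R ⧸ Ideal.span ({x} : Set R))) :
    Module.Finite R (integralClosure R L ⧸ Ideal.comap φ (Ideal.span {x})) := by
  classical
  set 𝔮 : Ideal S := Ideal.comap φ (Ideal.span {x}) with h𝔮
  have hle : Ideal.span {x} ≤ Ideal.comap (algebraMap R S) 𝔮 := by
    intro r hr
    rw [Ideal.mem_comap, h𝔮, Ideal.mem_comap, frob_algebraMap q φ hφ]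
    exact Ideal.pow_mem_of_mem _ hr q hq
  have hge : Ideal.comap (algebraMap R S) 𝔮 ≤ Ideal.span {x} := by
    intro r hr
    rw [Ideal.mem_comap, h𝔮, Ideal.mem_comap, frob_algebraMap q φ hφ] at hr
    exact hp.mem_of_pow_mem q hr
  let f : (R ⧸ Ideal.span ({x} : Set R)) →+* (S ⧸ 𝔮) := Ideal.quotientMap 𝔮 (algebraMap R S) hle
  have finj : Function.Injective f := Ideal.quotientMap_injective' hge
  let _ : Algebra (R ⧸ Ideal.span ({x} : Set R)) (S ⧸ 𝔮) := f.toAlgebra
  have htower : IsScalarTower R (R ⧸ Ideal.span ({x} : Set R)) (S ⧸ 𝔮) :=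
    IsScalarTower.of_algebraMap_eq (fun r => rfl)
  have hint : Algebra.IsIntegral (R ⧸ Ideal.span ({x} : Set R)) (S ⧸ 𝔮) := by
    constructor
    intro b
    obtain ⟨s, rfl⟩ := Ideal.Quotient.mk_surjective b
    have h1 : IsIntegral R s := Algebra.IsIntegral.isIntegral s
    have h3 : IsIntegral R (Ideal.Quotient.mk 𝔮 s) := h1.map (Ideal.Quotient.mkₐ R 𝔮)
    exact h3.tower_top
  have hfaith : FaithfulSMul (R ⧸ Ideal.span ({x} : Set R)) (S ⧸ 𝔮) :=
    (faithfulSMul_iff_algebraMap_injective _ _).mpr finj
  have hfaith' : FaithfulSMul (R ⧸ Ideal.span ({x} : Set R)) (FractionRing (S ⧸ 𝔮)) := by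
    rw [faithfulSMul_iff_algebraMap_injective,
      IsScalarTower.algebraMap_eq (R ⧸ Ideal.span ({x} : Set R)) (S ⧸ 𝔮) (FractionRing (S ⧸ 𝔮))]
    exact (IsFractionRing.injective (S ⧸ 𝔮) _).comp finj
  let _ : Algebra (FractionRing (R ⧸ Ideal.span ({x} : Set R))) (FractionRing (S ⧸ 𝔮)) :=
    FractionRing.liftAlgebra (R ⧸ Ideal.span ({x} : Set R)) _
  have htower2 : IsScalarTower (R ⧸ Ideal.span ({x} : Set R))
      (FractionRing (R ⧸ Ideal.span ({x} : Set R))) (FractionRing (S ⧸ 𝔮)) :=
    FractionRing.isScalarTower_liftAlgebra (R ⧸ Ideal.span ({x} : Set R)) _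
  have hx' : algebraMap R L x ≠ 0 := fun h => hx (algebraMap_injective' R L (by rw [h, map_zero]))
  have hfd : FiniteDimensional (FractionRing (R ⧸ Ideal.span ({x} : Set R)))
      (FractionRing (S ⧸ 𝔮)) := by
    have h1 : Module.rank (FractionRing (R ⧸ Ideal.span ({x} : Set R))) (FractionRing (S ⧸ 𝔮)) =
        Module.rank (R ⧸ Ideal.span ({x} : Set R)) (FractionRing (S ⧸ 𝔮)) :=
      IsFractionRing.rank_right_eq _ _ _
    have h2 : Module.rank (R ⧸ Ideal.span ({x} : Set R)) (FractionRing (S ⧸ 𝔮)) =
        Module.rank (R ⧸ Ideal.span ({x} : Set R)) (S ⧸ 𝔮) :=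
      IsLocalizedModule.rank_eq (nonZeroDivisors (R ⧸ Ideal.span ({x} : Set R))) le_rfl
        (IsScalarTower.toAlgHom (R ⧸ Ideal.span ({x} : Set R)) (S ⧸ 𝔮)
          (FractionRing (S ⧸ 𝔮))).toLinearMap
    have h3 : Module.rank (R ⧸ Ideal.span ({x} : Set R)) (S ⧸ 𝔮) ≤
        (Module.finrank (FractionRing R) L : ℕ) := by
      apply rank_le
      intro s hs
      have hsurj : ∀ i : s, ∃ m : S, Ideal.Quotient.mk 𝔮 m = (i : S ⧸ 𝔮) :=
        fun i => Ideal.Quotient.mk_surjective _
      choose m hm using hsurj
      have hli : LinearIndependent R m := by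
        rw [Fintype.linearIndependent_iff]
        intro g hg
        refine forall_eq_zero_of_quotient x hR ?_ m ?_ g hg
        · intro t ht
          have : algebraMap R L x * (t : L) = 0 := by
            have := congrArg (fun z : S => (z : L)) ht
            simpa [Algebra.smul_def] using this
          rcases mul_eq_zero.mp this with h | h
          · exact absurd h hx'
          · exact Subtype.ext h
        · intro g hg i
          rw [Fintype.linearIndependent_iff] at hs
          have h4 := hs (fun i => Ideal.Quotient.mk _ (g i)) ?_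
          · have := h4 i
            rwa [Ideal.Quotient.eq_zero_iff_mem, Ideal.mem_span_singleton] at this
          · have := congrArg (Ideal.Quotient.mk 𝔮) hg
            rw [map_sum, map_zero] at this
            rw [← this]
            refine Finset.sum_congr rfl fun i _ => ?_
            rw [← hm i, Algebra.smul_def, Algebra.smul_def, map_mul]
            rfl
      have hli2 : LinearIndependent R (fun i => (m i : L)) :=
        hli.map' (integralClosure R L).val.toLinearMap
          (LinearMap.ker_eq_bot.mpr Subtype.val_injective)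
      have hli3 : LinearIndependent (FractionRing R) (fun i => (m i : L)) :=
        hli2.localization (FractionRing R) (nonZeroDivisors R)
      have := hli3.fintype_card_le_finrank
      simpa using this
    rw [FiniteDimensional, ← Module.rank_lt_aleph0_iff, h1, h2]
    exact lt_of_le_of_lt h3 Cardinal.natCast_lt_aleph0
  have hfin := h2 (FractionRing (S ⧸ 𝔮)) hfd
  have hnoeth : IsNoetherian (R ⧸ Ideal.span ({x} : Set R))
      (integralClosure (R ⧸ Ideal.span ({x} : Set R)) (FractionRing (S ⧸ 𝔮))) :=
    isNoetherian_of_isNoetherianRing_of_finite _ _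
  let ψ : (S ⧸ 𝔮) →ₐ[R ⧸ Ideal.span ({x} : Set R)]
      integralClosure (R ⧸ Ideal.span ({x} : Set R)) (FractionRing (S ⧸ 𝔮)) :=
    (IsScalarTower.toAlgHom (R ⧸ Ideal.span ({x} : Set R)) (S ⧸ 𝔮)
      (FractionRing (S ⧸ 𝔮))).codRestrict _ (fun b => (Algebra.IsIntegral.isIntegral b).map _)
  have ψinj : Function.Injective ψ := by
    intro a b hab
    have := congrArg Subtype.val hab
    exact IsFractionRing.injective (S ⧸ 𝔮) (FractionRing (S ⧸ 𝔮)) this
  have hfinB : Module.Finite (R ⧸ Ideal.span ({x} : Set R)) (S ⧸ 𝔮) :=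
    Module.Finite.of_injective ψ.toLinearMap ψinj
  exact Module.Finite.trans (R ⧸ Ideal.span ({x} : Set R)) (S ⧸ 𝔮)

end Core


theorem finite_integralClosure_core (R : Type u) [CommRing R] [IsDomain R] [IsNoetherianRing R]
    [IsIntegrallyClosed R] (L : Type u) [Field L] [Algebra R L] [Algebra (FractionRing R) L]
    [IsScalarTower R (FractionRing R) L] [FiniteDimensional (FractionRing R) L]
    (p e : ℕ) [ExpChar L p]
    (hLq : ∀ l : L, l ^ (p ^ e) ∈ (algebraMap (FractionRing R) L).range)
    (x : R) (hx : x ≠ 0) [hp : (Ideal.span ({x} : Set R)).IsPrime]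
    [hc : IsAdicComplete (Ideal.span ({x} : Set R)) R]
    (h2 : CAlg.IsN2 (R ⧸ Ideal.span ({x} : Set R)))
    (y : L) (hy : y ^ (p ^ e) = algebraMap R L x) :
    Module.Finite R (integralClosure R L) := by
  have hq : 0 < p ^ e := expChar_pow_pos L p e
  obtain ⟨φ, hφ⟩ := exists_frob R L p e hLq
  have hR : ∀ r : R, (∀ n : ℕ, x ^ n ∣ r) → r = 0 := by
    intro r hr
    refine IsHausdorff.haus (I := Ideal.span ({x} : Set R)) inferInstance r fun n => ?_
    rw [SModEq.zero, Ideal.span_singleton_pow, smul_eq_mul, Ideal.mul_top,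
      Ideal.mem_span_singleton]
    exact hr n
  have hyint : IsIntegral R y := by
    refine IsIntegral.of_pow hq ?_
    rw [hy]
    exact isIntegral_algebraMap
  let y' : integralClosure R L := ⟨y, hyint⟩
  have hy' : ((y' : integralClosure R L) : L) ^ (p ^ e) = algebraMap R L x := hy
  have h𝔮 := comap_frob_eq (p ^ e) hq φ hφ x hx y' hy'
  have hB := finite_quotient_comap_frob (p ^ e) hq φ hφ x hx hR h2
  rw [h𝔮] at hB
  have hB' : Module.Finite R
      (integralClosure R L ⧸ (Ideal.span {y'}).restrictScalars R) :=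
    Module.Finite.equiv (Submodule.Quotient.restrictScalarsEquiv R (Ideal.span {y'})).symm
  have hN1 : IsNoetherian R (integralClosure R L ⧸ (Ideal.span {y'}).restrictScalars R) :=
    isNoetherian_of_isNoetherianRing_of_finite _ _
  have hNq := isNoetherian_quotient_pow y' hN1 (p ^ e)
  have hyx : y' ^ (p ^ e) = algebraMap R (integralClosure R L) x := Subtype.ext hy
  have heq : (Ideal.span ({x} : Set R) • ⊤ : Submodule R (integralClosure R L)) =
      (Ideal.span {y' ^ (p ^ e)}).restrictScalars R := by
    rw [Submodule.ideal_span_singleton_smul]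
    ext s
    rw [Submodule.mem_smul_pointwise_iff_exists, Submodule.restrictScalars_mem,
      Ideal.mem_span_singleton, hyx]
    constructor
    · rintro ⟨t, -, rfl⟩
      exact ⟨t, by rw [Algebra.smul_def]⟩
    · rintro ⟨c, rfl⟩
      exact ⟨c, Submodule.mem_top, by rw [Algebra.smul_def]⟩
  have hfin : Module.Finite R (integralClosure R L ⧸
      (Ideal.span ({x} : Set R) • ⊤ : Submodule R (integralClosure R L))) := by
    rw [heq]
    infer_instance
  have hHaus : IsHausdorff (Ideal.span ({x} : Set R)) (integralClosure R L) := by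
    constructor
    intro s hs
    apply frob_injective (p ^ e) hq φ hφ
    rw [map_zero]
    apply hR
    intro n
    have h1 := hs n
    rw [SModEq.zero, Ideal.span_singleton_pow, Submodule.ideal_span_singleton_smul,
      Submodule.mem_smul_pointwise_iff_exists] at h1
    obtain ⟨t, -, rfl⟩ := h1
    rw [Algebra.smul_def, map_mul, frob_algebraMap (p ^ e) φ hφ]
    exact dvd_mul_of_dvd_left (dvd_pow_self _ hq.ne') _
  exact Groth.Agent.S0544.result R (Ideal.span ({x} : Set R)) (integralClosure R L) hfin

theorem finite_integralClosure_insep (R : Type u) [CommRing R] [IsDomain R] [IsNoetherianRing R]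
    [IsIntegrallyClosed R] (x : R) (hx : x ≠ 0) [hp : (Ideal.span ({x} : Set R)).IsPrime]
    [hc : IsAdicComplete (Ideal.span ({x} : Set R)) R]
    (h2 : CAlg.IsN2 (R ⧸ Ideal.span ({x} : Set R)))
    (P : Type u) [Field P] [Algebra R P] [Algebra (FractionRing R) P]
    [IsScalarTower R (FractionRing R) P] [FiniteDimensional (FractionRing R) P]
    [IsPurelyInseparable (FractionRing R) P] :
    Module.Finite R (integralClosure R P) := by
  let p := ringExpChar (FractionRing R)
  let e := IsPurelyInseparable.exponent (FractionRing R) P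
  have hq : 0 < p ^ e := expChar_pow_pos (FractionRing R) p e
  obtain ⟨y, hy⟩ := IsAlgClosed.exists_pow_nat_eq (algebraMap R (AlgebraicClosure P) x) hq
  let L' : IntermediateField P (AlgebraicClosure P) := IntermediateField.adjoin P {y}
  have i1 : IsScalarTower R (FractionRing R) L' :=
    IsScalarTower.of_algebraMap_eq (fun r => Subtype.ext
      (IsScalarTower.algebraMap_apply R (FractionRing R) (AlgebraicClosure P) r))
  have i2 : IsScalarTower (FractionRing R) P L' := inferInstance
  have i3 : IsScalarTower R P L' := inferInstance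
  have hyint : IsIntegral P y := by
    refine IsIntegral.of_pow hq ?_
    rw [hy]
    exact (isIntegral_algebraMap (R := R) (A := AlgebraicClosure P) (x := x)).tower_top
  have hfd1 : FiniteDimensional P L' := IntermediateField.adjoin.finiteDimensional hyint
  have hfd : FiniteDimensional (FractionRing R) L' := Module.Finite.trans P L'
  have hexp : ExpChar (AlgebraicClosure P) p :=
    expChar_of_injective_algebraMap (algebraMap (FractionRing R) (AlgebraicClosure P)).injective p
  have hexp' : ExpChar L' p :=
    expChar_of_injective_algebraMap (algebraMap (FractionRing R) L').injective p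
  have hLq0 : ∀ z ∈ L', z ^ (p ^ e) ∈ (algebraMap (FractionRing R) (AlgebraicClosure P)).range := by
    intro z hz
    induction hz using IntermediateField.adjoin_induction with
    | mem z hz =>
      rw [Set.mem_singleton_iff] at hz
      rw [hz, hy, IsScalarTower.algebraMap_apply R (FractionRing R) (AlgebraicClosure P)]
      exact ⟨_, rfl⟩
    | algebraMap a =>
      obtain ⟨k, hk⟩ := IsPurelyInseparable.exponent_def' (FractionRing R) p a
      refine ⟨k, ?_⟩
      rw [← map_pow, ← hk, ← IsScalarTower.algebraMap_apply]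
    | add a b _ _ ha hb =>
      rw [add_pow_expChar_pow]
      exact add_mem ha hb
    | inv a _ ha =>
      obtain ⟨k, hk⟩ := ha
      exact ⟨k⁻¹, by rw [map_inv₀, hk, inv_pow]⟩
    | mul a b _ _ ha hb =>
      rw [mul_pow]
      exact mul_mem ha hb
  have hLq : ∀ l : L', l ^ (p ^ e) ∈ (algebraMap (FractionRing R) L').range := by
    intro l
    obtain ⟨k, hk⟩ := hLq0 l l.2
    exact ⟨k, Subtype.ext hk⟩
  let y' : L' := ⟨y, IntermediateField.mem_adjoin_simple_self P y⟩
  have hy' : y' ^ (p ^ e) = algebraMap R L' x := Subtype.ext hy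
  have hfin := finite_integralClosure_core R L' p e hLq x hx h2 y' hy'
  have hnoeth : IsNoetherian R (integralClosure R L') :=
    isNoetherian_of_isNoetherianRing_of_finite _ _
  let ι : integralClosure R P →ₐ[R] integralClosure R L' :=
    (IsScalarTower.toAlgHom R P L').mapIntegralClosure
  have ιinj : Function.Injective ι := by
    intro a b hab
    have h1 := congrArg Subtype.val hab
    exact Subtype.ext ((algebraMap P L').injective h1)
  exact Module.Finite.of_injective ι.toLinearMap ιinj


end Groth.Agent.Lib.Helper38.Tate
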