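import Groth.Agent.Lib.Helper38.Tate
import Groth.Agent.Lib.Helper38.PowerSeriesNormal
import Groth.Agent.S2114
import Groth.Agent.S0569

set_option autoImplicit false
universe u
open CAlg TensorProduct PowerSeries

namespace Groth.Agent.Lib.Helper38.FiniteExt


theorem isN2_of_finite_injective (A B : Type u) [CommRing A] [IsDomain A] [IsNoetherianRing A]
    [CommRing B] [IsDomain B] [Algebra A B] [Module.Finite A B]
    (hinj : Function.Injective (algebraMap A B)) (hB : CAlg.IsN2 B) : CAlg.IsN2 A := by
  intro L _ _ _ _ hfd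
  have hf1 : FaithfulSMul A B := (faithfulSMul_iff_algebraMap_injective A B).mpr hinj
  have hf2 : FaithfulSMul A (FractionRing B) := by
    rw [faithfulSMul_iff_algebraMap_injective, IsScalarTower.algebraMap_eq A B (FractionRing B)]
    exact (IsFractionRing.injective B _).comp hinj
  let _ : Algebra (FractionRing A) (FractionRing B) := FractionRing.liftAlgebra A _
  have ht1 : IsScalarTower A (FractionRing A) (FractionRing B) :=
    FractionRing.isScalarTower_liftAlgebra A _
  have hfdAB : FiniteDimensional (FractionRing A) (FractionRing B) :=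
    Module.Finite.of_isLocalization A B (nonZeroDivisors A)
  have hnt : Nontrivial (FractionRing B ⊗[FractionRing A] L) := inferInstance
  obtain ⟨𝔪, h𝔪⟩ := Ideal.exists_maximal (FractionRing B ⊗[FractionRing A] L)
  let _ : Field ((FractionRing B ⊗[FractionRing A] L) ⧸ 𝔪) := Ideal.Quotient.field 𝔪
  have ht2 : IsScalarTower B (FractionRing B) ((FractionRing B ⊗[FractionRing A] L) ⧸ 𝔪) :=
    inferInstance
  have hfdL' : FiniteDimensional (FractionRing B) ((FractionRing B ⊗[FractionRing A] L) ⧸ 𝔪) :=
    Module.Finite.of_surjective (Ideal.Quotient.mkₐ (FractionRing B) 𝔪).toLinearMap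
      (Ideal.Quotient.mkₐ_surjective (FractionRing B) 𝔪)
  have hfinB := hB ((FractionRing B ⊗[FractionRing A] L) ⧸ 𝔪) hfdL'
  have ht3 : IsScalarTower A B ((FractionRing B ⊗[FractionRing A] L) ⧸ 𝔪) := inferInstance
  let g0 : L →+* ((FractionRing B ⊗[FractionRing A] L) ⧸ 𝔪) :=
    (Ideal.Quotient.mk 𝔪).comp
      (Algebra.TensorProduct.includeRight : L →ₐ[FractionRing A] _).toRingHom
  have hg0 : ∀ a : A, g0 (algebraMap A L a) =
      algebraMap A ((FractionRing B ⊗[FractionRing A] L) ⧸ 𝔪) a := by
    intro a
    change Ideal.Quotient.mk 𝔪 ((1 : FractionRing B) ⊗ₜ[FractionRing A] (algebraMap A L a)) =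
      Ideal.Quotient.mk 𝔪 ((algebraMap A (FractionRing B) a) ⊗ₜ 1)
    congr 1
    rw [IsScalarTower.algebraMap_apply A (FractionRing A) (FractionRing B),
      IsScalarTower.algebraMap_apply A (FractionRing A) L]
    rw [Algebra.algebraMap_eq_smul_one, Algebra.algebraMap_eq_smul_one (A := FractionRing B),
      TensorProduct.smul_tmul]
  let g : L →ₐ[A] ((FractionRing B ⊗[FractionRing A] L) ⧸ 𝔪) := { g0 with commutes' := hg0 }
  have ginj : Function.Injective g := g0.injective
  have hfinA : Module.Finite A
      (integralClosure B ((FractionRing B ⊗[FractionRing A] L) ⧸ 𝔪)) :=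
    Module.Finite.trans B _
  have hnoeth : IsNoetherian A
      (integralClosure B ((FractionRing B ⊗[FractionRing A] L) ⧸ 𝔪)) :=
    isNoetherian_of_isNoetherianRing_of_finite _ _
  let ι : integralClosure A L →ₗ[A]
      integralClosure B ((FractionRing B ⊗[FractionRing A] L) ⧸ 𝔪) :=
    { toFun := fun z => ⟨g z, (z.2.map g).tower_top⟩
      map_add' := fun a b => Subtype.ext (by simp)
      map_smul' := fun a b => Subtype.ext (by simp) }
  have ιinj : Function.Injective ι := by
    intro a b hab
    have h1 := congrArg Subtype.val hab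
    exact Subtype.ext (ginj h1)
  exact Module.Finite.of_injective ι ιinj



theorem finite_powerSeries (R S : Type*) [CommRing R] [CommRing S] [Algebra R S]
    [Module.Finite R S] : Module.Finite R⟦X⟧ S⟦X⟧ := by
  classical
  obtain ⟨n, e, he⟩ := Module.Finite.exists_fin (R := R) (M := S)
  have hrep : ∀ s : S, ∃ r : Fin n → R, s = ∑ i, r i • e i := by
    intro s
    have : s ∈ Submodule.span R (Set.range e) := he ▸ Submodule.mem_top
    rw [Submodule.mem_span_range_iff_exists_fun] at this
    obtain ⟨c, hc⟩ := this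
    exact ⟨c, hc.symm⟩
  choose r hr using hrep
  refine Module.Finite.of_surjective
    (Fintype.linearCombination R⟦X⟧ (fun i => (PowerSeries.C (e i) : S⟦X⟧))) ?_
  intro f
  refine ⟨fun i => PowerSeries.mk (fun k => r (coeff k f) i), ?_⟩
  ext k
  rw [Fintype.linearCombination_apply, map_sum]
  conv_rhs => rw [hr (coeff k f)]
  refine Finset.sum_congr rfl fun i _ => ?_
  rw [Algebra.smul_def, PowerSeries.algebraMap_apply'', mul_comm, PowerSeries.coeff_C_mul,
    PowerSeries.coeff_map, PowerSeries.coeff_mk, Algebra.smul_def, mul_comm]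



theorem span_X_eq_ker (R : Type*) [CommRing R] :
    Ideal.span ({X} : Set R⟦X⟧) = RingHom.ker (constantCoeff (R := R)) := by
  ext f
  rw [Ideal.mem_span_singleton, RingHom.mem_ker, PowerSeries.X_dvd_iff]

noncomputable def quotXEquiv (R : Type*) [CommRing R] :
    (R⟦X⟧ ⧸ Ideal.span ({X} : Set R⟦X⟧)) ≃+* R :=
  (Ideal.quotEquivOfEq (span_X_eq_ker R)).trans
    (RingHom.quotientKerEquivOfSurjective (f := constantCoeff (R := R))
      (fun r => ⟨PowerSeries.C r, by simp⟩))

/-- Power series over a Noetherian normal N-2 domain are N-2 (Tate). -/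
theorem isN2_powerSeries_of_normal (R : Type u) [CommRing R] [IsDomain R] [IsNoetherianRing R]
    [IsIntegrallyClosed R] (h : CAlg.IsN2 R) : CAlg.IsN2 R⟦X⟧ := by
  have hnormal : IsIntegrallyClosed R⟦X⟧ :=
    Groth.Agent.Lib.Helper38.PowerSeriesNormal.isIntegrallyClosed_powerSeries R
  have hprime : (Ideal.span ({X} : Set R⟦X⟧)).IsPrime := PowerSeries.span_X_isPrime
  have hq : CAlg.IsN2 (R⟦X⟧ ⧸ Ideal.span ({X} : Set R⟦X⟧)) :=
    Groth.Agent.Lib.Helper38.Tate.isN2_of_ringEquiv (quotXEquiv R).symm h
  exact Groth.Agent.S0569.result R⟦X⟧ X hq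


/-- Power series over a Noetherian N-2 domain are N-2 (Stacks 0332). -/
theorem isN2_powerSeries (R : Type u) [CommRing R] [IsDomain R] [IsNoetherianRing R]
    (h : CAlg.IsN2 R) : CAlg.IsN2 R⟦X⟧ := by
  have hfin : Module.Finite R (integralClosure R (FractionRing R)) :=
    h (FractionRing R) inferInstance
  have hnoeth' : IsNoetherianRing (integralClosure R (FractionRing R)) :=
    isNoetherian_of_tower R (isNoetherian_of_isNoetherianRing_of_finite R _)
  have hnormal : IsIntegrallyClosed (integralClosure R (FractionRing R)) :=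
    integralClosure.isIntegrallyClosedOfFiniteExtension (FractionRing R)
  have hinj : Function.Injective (algebraMap R (integralClosure R (FractionRing R))) := by
    intro a b hab
    have := congrArg Subtype.val hab
    exact IsFractionRing.injective R (FractionRing R) this
  have hN2' : CAlg.IsN2 (integralClosure R (FractionRing R)) :=
    Groth.Agent.S2114.result hinj h
  have hT' : CAlg.IsN2 (integralClosure R (FractionRing R))⟦X⟧ :=
    isN2_powerSeries_of_normal _ hN2'
  have hfinT : Module.Finite R⟦X⟧ (integralClosure R (FractionRing R))⟦X⟧ :=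
    finite_powerSeries R _
  have hinjT : Function.Injective
      (algebraMap R⟦X⟧ (integralClosure R (FractionRing R))⟦X⟧) := by
    intro f g hfg
    ext k
    have := congrArg (PowerSeries.coeff k) hfg
    rw [PowerSeries.algebraMap_apply'', PowerSeries.algebraMap_apply'', PowerSeries.coeff_map,
      PowerSeries.coeff_map] at this
    exact hinj this
  exact isN2_of_finite_injective R⟦X⟧ (integralClosure R (FractionRing R))⟦X⟧ hinjT hT'

end Groth.Agent.Lib.Helper38.FiniteExt
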