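import Groth.Agent.S0581
import Groth.Agent.S4563
import Groth.Agent.S2656
import Groth.Agent.Lib.Helper25.CompleteFinite

set_option autoImplicit false
universe u

namespace Groth.Agent.Lib.Helper38.ComplNagata

open IsLocalRing

/-- A quotient of a complete Noetherian local ring is complete. -/
theorem isAdicComplete_quotient (R : Type u) [CommRing R] [IsLocalRing R] [IsNoetherianRing R]
    [IsAdicComplete (maximalIdeal R) R] (J : Ideal R) [IsLocalRing (R ⧸ J)] :
    IsAdicComplete (maximalIdeal (R ⧸ J)) (R ⧸ J) := by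
  have hP : IsPrecomplete (maximalIdeal R) (R ⧸ J) :=
    Groth.Agent.Lib.Helper25.isPrecomplete_of_surjective (maximalIdeal R) (Submodule.mkQ J)
      (Submodule.mkQ_surjective J)
  have h1 : IsAdicComplete (maximalIdeal R) (R ⧸ J) := {}
  have h2 := (IsAdicComplete.map_algebraMap_iff (R := R) (S := R ⧸ J) (maximalIdeal R)
    (R ⧸ J)).mpr h1
  have h3 : (maximalIdeal R).map (algebraMap R (R ⧸ J)) = maximalIdeal (R ⧸ J) :=
    map_maximalIdeal_of_surjective _ Ideal.Quotient.mk_surjective
  rw [h3] at h2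
  exact h2

/-- Fields are N-2. -/
theorem isN2_field (K : Type u) [Field K] : CAlg.IsN2 K := by
  intro L _ _ _ _ hfd
  have h1 : Module.Finite K (FractionRing K) := by
    apply Module.Finite.of_surjective (Algebra.linearMap K (FractionRing K))
    intro y
    obtain ⟨a, s, rfl⟩ := IsLocalization.exists_mk'_eq (nonZeroDivisors K) y
    refine ⟨a * (s : K)⁻¹, ?_⟩
    rw [Algebra.linearMap_apply, IsLocalization.eq_mk'_iff_mul_eq, ← map_mul]
    congr 1
    have : (s : K) ≠ 0 := nonZeroDivisors.coe_ne_zero s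
    field_simp
  have h2 : Module.Finite K L := Module.Finite.trans (FractionRing K) L
  have : IsNoetherian K L := inferInstance
  exact Module.Finite.of_injective (integralClosure K L).val.toLinearMap Subtype.val_injective

/-- Cohen rings are N-2. -/
theorem isN2_cohenRing (Λ : Type u) [CommRing Λ] (h : CAlg.IsCohenRing Λ) :
    ∃ (_ : IsDomain Λ), IsNoetherianRing Λ ∧ CAlg.IsN2 Λ := by
  obtain ⟨hD, hDVR, hc, p, hp, hmax⟩ := h
  have hp0 : (p : Λ) ≠ 0 := by
    intro h0
    rw [h0, Ideal.span_singleton_eq_bot.mpr rfl] at hmax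
    exact IsDiscreteValuationRing.not_a_field Λ hmax
  have hchar : CharZero Λ := by
    obtain ⟨q, hq⟩ := CharP.exists Λ
    rcases CharP.char_is_prime_or_zero Λ q with hqp | rfl
    · exfalso
      have hq0 : (q : Λ) = 0 := CharP.cast_eq_zero Λ q
      have hpm : (p : Λ) ∈ maximalIdeal Λ := by rw [hmax]; exact Ideal.mem_span_singleton_self _
      by_cases hpq : p = q
      · exact hp0 (hpq ▸ hq0)
      · have hcop : Nat.Coprime p q := (Nat.coprime_primes hp hqp).mpr hpq
        have h1 : ((Nat.gcdA p q * p + Nat.gcdB p q * q : ℤ) : Λ) = 1 := by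
          have := Nat.gcd_eq_gcd_ab p q
          rw [hcop] at this
          have h2 : (Nat.gcdA p q * p + Nat.gcdB p q * q : ℤ) = 1 := by
            rw [mul_comm (Nat.gcdA p q), mul_comm (Nat.gcdB p q)]; exact_mod_cast this.symm
          rw [h2]; simp
        push_cast at h1
        rw [hq0, mul_zero, add_zero] at h1
        have : (1 : Λ) ∈ maximalIdeal Λ := by
          rw [← h1]; exact Ideal.mul_mem_left _ _ hpm
        exact (Ideal.ne_top_iff_one _).mp Ideal.IsPrime.ne_top' this
    · exact CharP.charP_to_charZero Λ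
  have hNag := Groth.Agent.S2656.result Λ
  have hbot : (⊥ : Ideal Λ).IsPrime := Ideal.isPrime_bot
  have h2 := hNag.2 ⊥
  exact ⟨hD, hNag.1, Groth.Agent.Lib.Helper38.Tate.isN2_of_ringEquiv (RingEquiv.quotientBot Λ) h2⟩

/-- Complete Noetherian local rings are Nagata. -/
theorem isNagata_of_complete (R : Type u) [CommRing R] [IsLocalRing R]
    [IsNoetherianRing R] [IsAdicComplete (maximalIdeal R) R] : CAlg.IsNagata R := by
  refine ⟨inferInstance, fun 𝔭 _ => ?_⟩
  have : IsLocalRing (R ⧸ 𝔭) := IsLocalRing.of_surjective' _ Ideal.Quotient.mk_surjective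
  have hcompl := isAdicComplete_quotient R 𝔭
  obtain ⟨Λ, _, n, f, hΛ, hinj, hfin, -⟩ := Groth.Agent.S0581.result (R ⧸ 𝔭)
  obtain ⟨hΛD, hΛN, hΛN2⟩ : ∃ (_ : IsDomain Λ), IsNoetherianRing Λ ∧ CAlg.IsN2 Λ := by
    rcases hΛ with hf | hC
    · let _ : Field Λ := hf.toField
      exact ⟨inferInstance, inferInstance, isN2_field Λ⟩
    · exact isN2_cohenRing Λ hC
  obtain ⟨hPD, hPN2⟩ := Groth.Agent.S4563.aux Λ hΛN2 n
  let _ : Algebra (MvPowerSeries (Fin n) Λ) (R ⧸ 𝔭) := f.toAlgebra
  have : Module.Finite (MvPowerSeries (Fin n) Λ) (R ⧸ 𝔭) := hfin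
  exact Groth.Agent.S2114.result (R := MvPowerSeries (Fin n) Λ) (S := R ⧸ 𝔭) hinj hPN2

end Groth.Agent.Lib.Helper38.ComplNagata
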