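import Groth.Agent.Lib.Helper49.CoeffField

set_option autoImplicit false
universe u

namespace Groth.Agent.Lib.Helper38.CohenLift

theorem isAdicComplete_of_pow_eq_bot {R : Type*} [CommRing R] (I : Ideal R) {n : ℕ}
    (hn : I ^ n = ⊥) : IsAdicComplete I R := by
  have hH : IsHausdorff I R := by
    refine ⟨fun x hx => ?_⟩
    have := hx n
    rw [SModEq.zero, smul_eq_mul, Ideal.mul_top, hn] at this
    exact this
  have hP : IsPrecomplete I R := by
    refine ⟨fun f hf => ⟨f n, fun m => ?_⟩⟩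
    rcases le_total m n with h | h
    · exact hf h
    · have := hf h
      rw [SModEq.sub_mem, smul_eq_mul, Ideal.mul_top, hn] at this
      have h2 : f n = f m := sub_eq_zero.mp this
      rw [h2]
  exact { hH, hP with }

section SqZero

variable (p : ℕ) [Fact p.Prime] {B K C D : Type u} [CommRing B] [Field K] [CharP K p]
  [CommRing C] [CommRing D]

/-- The basic lifting lemma: if `p` is a nonzerodivisor of `B` and `B/pB` is a field, then ring
maps out of `B` lift along surjections whose kernel is square-zero and killed by `p`. -/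
theorem exists_lift_of_sqZero (ρ : B →+* K) (hρ : Function.Surjective ρ)
    (hker : ∀ b : B, ρ b = 0 → ∃ b', b = (p : B) * b') (hpB : ∀ b : B, (p : B) * b = 0 → b = 0)
    (q : C →+* D) (hq : Function.Surjective q) (hM2 : ∀ x y : C, q x = 0 → q y = 0 → x * y = 0)
    (hpM : ∀ x : C, q x = 0 → (p : C) * x = 0) (g : B →+* D) :
    ∃ g' : B →+* C, q.comp g' = g := by
  let E : Subring (C × B) := RingHom.eqLocus (q.comp (RingHom.fst C B)) (g.comp (RingHom.snd C B))
  have hE : ∀ e : E, q e.1.1 = g e.1.2 := fun e => e.2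
  let π : E →+* B := (RingHom.snd C B).comp E.subtype
  have hπdef : ∀ e : E, π e = e.1.2 := fun e => rfl
  have hπ : Function.Surjective π := by
    intro b
    obtain ⟨c, hc⟩ := hq (g b)
    exact ⟨⟨(c, b), hc⟩, rfl⟩
  have hmkM : ∀ m : C, q m = 0 → ((m, 0) : C × B) ∈ E := by
    intro m hm
    change q m = g 0
    rw [hm, map_zero]
  have hkerπ : ∀ e : E, π e = 0 → ∃ (m : C) (hm : q m = 0), e = ⟨(m, 0), hmkM m hm⟩ := by
    intro e he
    rw [hπdef] at he
    have h1 : q e.1.1 = 0 := by rw [hE, he, map_zero]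
    refine ⟨e.1.1, h1, ?_⟩
    apply Subtype.ext
    apply Prod.ext
    · rfl
    · exact he
  let J : Ideal E := Ideal.span {(p : E)}
  have hpK : (p : K) = 0 := CharP.cast_eq_zero K p
  let τ : (E ⧸ J) →+* K := Ideal.Quotient.lift J (ρ.comp π) (by
    intro a ha
    obtain ⟨c, rfl⟩ := Ideal.mem_span_singleton.mp ha
    rw [map_mul, map_natCast, hpK, zero_mul])
  have hτmk : ∀ e : E, τ (Ideal.Quotient.mk J e) = ρ (π e) := fun e => rfl
  have hτ : Function.Surjective τ := by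
    intro x
    obtain ⟨b, rfl⟩ := hρ x
    obtain ⟨e, rfl⟩ := hπ b
    exact ⟨Ideal.Quotient.mk J e, rfl⟩
  have hpE : (p : E ⧸ J) = 0 := by
    rw [← map_natCast (Ideal.Quotient.mk J), Ideal.Quotient.eq_zero_iff_mem]
    exact Ideal.mem_span_singleton_self _
  have hstar : ∀ x : E ⧸ J, τ x = 0 →
      ∃ (m : C) (hm : q m = 0), x = Ideal.Quotient.mk J ⟨(m, 0), hmkM m hm⟩ := by
    intro x hx
    obtain ⟨e, rfl⟩ := Ideal.Quotient.mk_surjective x
    rw [hτmk] at hx
    obtain ⟨b', hb'⟩ := hker _ hx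
    obtain ⟨e', rfl⟩ := hπ b'
    have h0 : π (e - (p : E) * e') = 0 := by
      rw [map_sub, map_mul, map_natCast, hb', sub_self]
    obtain ⟨m, hm, hem⟩ := hkerπ _ h0
    refine ⟨m, hm, ?_⟩
    rw [← hem, map_sub, map_mul, map_natCast, hpE, zero_mul, sub_zero]
  have hN2 : ∀ x y : E ⧸ J, τ x = 0 → τ y = 0 → x * y = 0 := by
    intro x y hx hy
    obtain ⟨m, hm, rfl⟩ := hstar x hx
    obtain ⟨m', hm', rfl⟩ := hstar y hy
    rw [← map_mul]
    have : (⟨(m, 0), hmkM m hm⟩ : E) * ⟨(m', 0), hmkM m' hm'⟩ = 0 := by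
      apply Subtype.ext
      apply Prod.ext
      · exact hM2 m m' hm hm'
      · exact mul_zero _
    rw [this, map_zero]
  have hnil : (RingHom.ker τ) ^ 2 = ⊥ := by
    rw [eq_bot_iff, pow_two, Ideal.mul_le]
    intro x hx y hy
    rw [Ideal.mem_bot]
    exact hN2 x y hx hy
  have hcomp : IsAdicComplete (RingHom.ker τ) (E ⧸ J) := isAdicComplete_of_pow_eq_bot _ hnil
  obtain ⟨σ, hσ⟩ := Groth.Agent.Lib.Helper49.CoeffField.exists_lift_charP p hpE (RingHom.ker τ)
    (RingHom.quotientKerEquivOfSurjective hτ).symm.toRingHom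
  have hτσ : ∀ x : K, τ (σ x) = x := by
    intro x
    have h1 := DFunLike.congr_fun hσ x
    have h2 := congrArg (RingHom.quotientKerEquivOfSurjective hτ) h1
    simpa using h2
  let φ1 : E →+* (E ⧸ J) := Ideal.Quotient.mk J
  let φ2 : E →+* (E ⧸ J) := σ.comp (ρ.comp π)
  let E' : Subring E := RingHom.eqLocus φ1 φ2
  let π' : E' →+* B := π.comp E'.subtype
  have hinj : Function.Injective π' := by
    rw [injective_iff_map_eq_zero]
    intro e he
    have he' : π e.1 = 0 := he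
    have h1 : φ1 e.1 = φ2 e.1 := e.2
    have h2 : φ2 e.1 = 0 := by
      change σ (ρ (π e.1)) = 0
      rw [he', map_zero, map_zero]
    rw [h2] at h1
    have h3 : e.1 ∈ J := Ideal.Quotient.eq_zero_iff_mem.mp h1
    obtain ⟨e₁, he₁⟩ := Ideal.mem_span_singleton.mp h3
    have h4 : π e₁ = 0 := by
      apply hpB
      rw [← map_natCast π, ← map_mul, ← he₁, he']
    obtain ⟨m, hm, hem⟩ := hkerπ e₁ h4
    apply Subtype.ext
    rw [he₁, hem]
    apply Subtype.ext
    apply Prod.ext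
    · change (p : C × B).1 * m = 0
      rw [Prod.fst_natCast]
      exact hpM m hm
    · change (p : C × B).2 * 0 = 0
      rw [mul_zero]
  have hsurj : Function.Surjective π' := by
    intro b
    obtain ⟨e₀, he₀⟩ := hπ b
    have h1 : τ (φ1 e₀ - φ2 e₀) = 0 := by
      rw [map_sub, hτmk]
      change ρ (π e₀) - τ (σ (ρ (π e₀))) = 0
      rw [hτσ, sub_self]
    obtain ⟨m, hm, hx⟩ := hstar _ h1
    have hπm : π ⟨(m, 0), hmkM m hm⟩ = 0 := rfl
    have hmem : e₀ - ⟨(m, 0), hmkM m hm⟩ ∈ E' := by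
      change φ1 _ = φ2 _
      rw [map_sub]
      change φ1 e₀ - φ1 _ = σ (ρ (π (e₀ - _)))
      rw [map_sub, hπm, sub_zero]
      change _ = φ2 e₀
      change φ1 e₀ - φ2 e₀ = φ1 _ at hx
      rw [← hx]
      ring
    refine ⟨⟨_, hmem⟩, ?_⟩
    change π (e₀ - _) = b
    rw [map_sub, hπm, sub_zero, he₀]
  let s : B ≃+* E' := (RingEquiv.ofBijective π' ⟨hinj, hsurj⟩).symm
  have hs : ∀ b : B, π' (s b) = b := fun b => (RingEquiv.ofBijective π' ⟨hinj, hsurj⟩).apply_symm_apply b
  refine ⟨(RingHom.fst C B).comp (E.subtype.comp (E'.subtype.comp s.toRingHom)), ?_⟩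
  ext b
  change q ((s b).1.1.1) = g b
  rw [hE]
  congr 1
  exact hs b

end SqZero

section Complete

variable (p : ℕ) [Fact p.Prime] {B K S : Type u} [CommRing B] [Field K] [CharP K p]
  [CommRing S]

theorem exists_lift_step (ρ : B →+* K) (hρ : Function.Surjective ρ)
    (hker : ∀ b : B, ρ b = 0 → ∃ b', b = (p : B) * b') (hpB : ∀ b : B, (p : B) * b = 0 → b = 0)
    (I : Ideal S) (hpI : (p : S) ∈ I) (n : ℕ) (h : B →+* S ⧸ I ^ (n + 1)) :
    ∃ h' : B →+* S ⧸ I ^ (n + 1 + 1),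
      (Ideal.Quotient.factorPow I (Nat.le_succ (n + 1))).comp h' = h := by
  have hq : Function.Surjective (Ideal.Quotient.factorPow I (Nat.le_succ (n + 1))) :=
    Ideal.Quotient.factor_surjective _
  have hkerq : ∀ x : S ⧸ I ^ (n + 1 + 1), Ideal.Quotient.factorPow I (Nat.le_succ (n + 1)) x = 0 →
      ∃ s ∈ I ^ (n + 1), x = Ideal.Quotient.mk _ s := by
    intro x hx
    obtain ⟨s, rfl⟩ := Ideal.Quotient.mk_surjective x
    refine ⟨s, ?_, rfl⟩
    rw [Ideal.Quotient.factorPow, Ideal.Quotient.factor_mk, Ideal.Quotient.eq_zero_iff_mem] at hx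
    exact hx
  refine exists_lift_of_sqZero p ρ hρ hker hpB _ hq ?_ ?_ h
  · intro x y hx hy
    obtain ⟨s, hs, rfl⟩ := hkerq x hx
    obtain ⟨t, ht, rfl⟩ := hkerq y hy
    rw [← map_mul, Ideal.Quotient.eq_zero_iff_mem]
    have : s * t ∈ I ^ (n + 1) * I ^ (n + 1) := Ideal.mul_mem_mul hs ht
    rw [← pow_add] at this
    exact Ideal.pow_le_pow_right (by omega) this
  · intro x hx
    obtain ⟨s, hs, rfl⟩ := hkerq x hx
    rw [← map_natCast (Ideal.Quotient.mk _), ← map_mul, Ideal.Quotient.eq_zero_iff_mem, pow_succ']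
    exact Ideal.mul_mem_mul hpI hs

/-- The sequence of successive lifts. -/
noncomputable def liftSeq (I : Ideal S)
    (step : ∀ (n : ℕ) (h : B →+* S ⧸ I ^ (n + 1)), ∃ h' : B →+* S ⧸ I ^ (n + 1 + 1),
      (Ideal.Quotient.factorPow I (Nat.le_succ (n + 1))).comp h' = h)
    (f0 : B →+* S ⧸ I ^ (0 + 1)) : (n : ℕ) → B →+* S ⧸ I ^ (n + 1)
  | 0 => f0
  | n + 1 => Classical.choose (step n (liftSeq I step f0 n))

theorem liftSeq_succ (I : Ideal S)
    (step : ∀ (n : ℕ) (h : B →+* S ⧸ I ^ (n + 1)), ∃ h' : B →+* S ⧸ I ^ (n + 1 + 1),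
      (Ideal.Quotient.factorPow I (Nat.le_succ (n + 1))).comp h' = h)
    (f0 : B →+* S ⧸ I ^ (0 + 1)) (n : ℕ) :
    (Ideal.Quotient.factorPow I (Nat.le_succ (n + 1))).comp (liftSeq I step f0 (n + 1)) =
      liftSeq I step f0 n :=
  Classical.choose_spec (step n (liftSeq I step f0 n))

/-- Lifting ring maps out of a "pre-Cohen ring" `B` to an adically complete ring. -/
theorem exists_lift_of_complete (ρ : B →+* K) (hρ : Function.Surjective ρ)
    (hker : ∀ b : B, ρ b = 0 → ∃ b', b = (p : B) * b') (hpB : ∀ b : B, (p : B) * b = 0 → b = 0)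
    (I : Ideal S) [IsAdicComplete I S] (hpI : (p : S) ∈ I) (f : B →+* S ⧸ I) :
    ∃ g : B →+* S, (Ideal.Quotient.mk I).comp g = f := by
  have step := exists_lift_step p ρ hρ hker hpB I hpI
  let f0 : B →+* S ⧸ I ^ (0 + 1) := (Ideal.quotEquivOfEq (by simp : I = I ^ (0 + 1))).toRingHom.comp f
  have ha : StrictMono (fun n : ℕ => n + 1) := fun _ _ h => Nat.succ_lt_succ h
  let g : B →+* S := IsAdicComplete.StrictMono.liftRingHom I ha (liftSeq I step f0)
    (fun {m} => liftSeq_succ I step f0 m)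
  refine ⟨g, ?_⟩
  ext x
  have h1 : Ideal.Quotient.mk (I ^ (0 + 1)) (g x) = f0 x :=
    IsAdicComplete.StrictMono.mk_liftRingHom I ha (liftSeq I step f0)
      (fun {m} => liftSeq_succ I step f0 m) (n := 0) x
  have hI : I = I ^ (0 + 1) := by simp
  have h2 := congrArg (Ideal.quotEquivOfEq hI).symm h1
  have h3 : f0 x = (Ideal.quotEquivOfEq hI) (f x) := rfl
  rw [h3, RingEquiv.symm_apply_apply] at h2
  rw [← h2]
  rfl

end Complete

end Groth.Agent.Lib.Helper38.CohenLift
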