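import Groth.Agent.Lib.Helper38.CohenCompl
import Groth.Agent.Lib.Helper38.CohenLift
import Groth.Agent.Lib.Helper61.PSEval
import Groth.Agent.Lib.Helper61.MvPSComplete
import Groth.Agent.S0579

set_option autoImplicit false
universe u

namespace Groth.Agent.Lib.Helper38.CohenStructure

open IsLocalRing

/-- A complete local ring with f.g. maximal ideal is a quotient of a power series ring over any
"coefficient ring" `Λ → R` which surjects onto the residue field. -/
theorem exists_surjective_of_coeff {Λ R : Type u} [CommRing Λ] [CommRing R] [IsLocalRing R]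
    [IsAdicComplete (maximalIdeal R) R] (hfg : (maximalIdeal R).FG) (g : Λ →+* R)
    (hg : Function.Surjective ((residue R).comp g)) :
    ∃ (n : ℕ) (f : MvPowerSeries (Fin n) Λ →+* R), Function.Surjective f ∧
      (∀ c, f (MvPowerSeries.C c) = g c) ∧
      Ideal.span (Set.range fun i => f (MvPowerSeries.X i)) = maximalIdeal R := by
  obtain ⟨d, b, hb⟩ := Submodule.fg_iff_exists_fin_generating_family.mp hfg
  let _ : Algebra Λ R := g.toAlgebra
  have hb' : Ideal.span (Set.range b) = maximalIdeal R := hb
  have : IsAdicComplete (Ideal.span (Set.range b)) R := by rw [hb']; infer_instance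
  obtain ⟨ψ, hψ⟩ := Groth.Agent.Lib.Helper61.PSEval.exists_eval Λ R b
  have hmap : (Ideal.span (Set.range (MvPowerSeries.X : Fin d → MvPowerSeries (Fin d) Λ))).map
      ψ.toRingHom = maximalIdeal R := by
    rw [Ideal.map_span, ← Set.range_comp, ← hb']
    congr 2
    ext i
    exact hψ i
  have hC : ∀ c : Λ, ψ (MvPowerSeries.C c) = g c := fun c => ψ.commutes c
  refine ⟨d, ψ.toRingHom, ?_, hC, ?_⟩
  · have : IsHausdorff ((Ideal.span (Set.range
        (MvPowerSeries.X : Fin d → MvPowerSeries (Fin d) Λ))).map ψ.toRingHom) R := by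
      rw [hmap]; infer_instance
    apply surjective_of_mk_map_comp_surjective
      (I := Ideal.span (Set.range (MvPowerSeries.X : Fin d → MvPowerSeries (Fin d) Λ)))
    intro y
    obtain ⟨r, rfl⟩ := Ideal.Quotient.mk_surjective y
    obtain ⟨c, hc⟩ := hg (residue R r)
    refine ⟨MvPowerSeries.C c, ?_⟩
    rw [RingHom.comp_apply]
    change Ideal.Quotient.mk _ (ψ (MvPowerSeries.C c)) = _
    rw [hC, Ideal.Quotient.eq, hmap]
    have : residue R (g c - r) = 0 := by
      rw [map_sub, sub_eq_zero]; exact hc
    exact (IsLocalRing.residue_eq_zero_iff _).mp this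
  · rw [← hb']
    congr 2
    ext i
    exact hψ i

/-- Lifting of maps from a Cohen ring to a complete ring. -/
theorem exists_lift_cohenRing (p : ℕ) [Fact p.Prime] {Λ S : Type u} [CommRing Λ] [IsLocalRing Λ]
    [IsDomain Λ] (hmax : maximalIdeal Λ = Ideal.span {(p : Λ)}) (hp0 : (p : Λ) ≠ 0)
    [CommRing S] (I : Ideal S) [IsAdicComplete I S] (hpI : (p : S) ∈ I) (f : Λ →+* S ⧸ I) :
    ∃ g : Λ →+* S, (Ideal.Quotient.mk I).comp g = f := by
  have hpK : (p : ResidueField Λ) = 0 := by
    rw [← map_natCast (residue Λ), residue_eq_zero_iff, hmax]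
    exact Ideal.mem_span_singleton_self _
  have : CharP (ResidueField Λ) p := (CharP.charP_iff_prime_eq_zero Fact.out).mpr hpK
  refine CohenLift.exists_lift_of_complete p (residue Λ) residue_surjective ?_ ?_ I hpI f
  · intro b hb
    rw [residue_eq_zero_iff, hmax, Ideal.mem_span_singleton] at hb
    exact hb
  · intro b hb
    exact (mul_eq_zero.mp hb).resolve_left hp0

/-- Cohen structure theorem, with extra information. In the positive residue characteristic case
`Λ` is a Cohen ring. -/
theorem exists_coeffRing (R : Type u) [CommRing R] [IsLocalRing R]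
    [IsAdicComplete (maximalIdeal R) R] :
    ∃ (Λ : Type u) (_ : CommRing Λ) (g : Λ →+* R), (IsField Λ ∨ CAlg.IsCohenRing Λ) ∧
      Function.Surjective ((residue R).comp g) := by
  obtain ⟨p, hp⟩ := CharP.exists (ResidueField R)
  rcases CharP.char_is_prime_or_zero (ResidueField R) p with hpp | rfl
  · haveI : Fact p.Prime := ⟨hpp⟩
    obtain ⟨Λ, _, _, hD, hDVR, hc, hmax, hp0, ⟨e⟩⟩ :=
      CohenCompl.exists_cohenRing' p (ResidueField R)
    have hpI : (p : R) ∈ maximalIdeal R := by
      rw [← residue_eq_zero_iff, map_natCast]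
      exact CharP.cast_eq_zero _ p
    obtain ⟨g, hg⟩ := exists_lift_cohenRing p hmax hp0 (maximalIdeal R) hpI
      (e.toRingHom.comp (residue Λ))
    refine ⟨Λ, inferInstance, g, Or.inr ⟨hD, hDVR, hc, p, hpp, hmax⟩, ?_⟩
    have : (residue R).comp g = e.toRingHom.comp (residue Λ) := hg
    rw [this]
    exact e.surjective.comp residue_surjective
  · haveI : CharZero (ResidueField R) := CharP.charP_to_charZero _
    obtain ⟨s, hs⟩ := Groth.Agent.S0579.result R
    refine ⟨ResidueField R, inferInstance, s, Or.inl (Field.toIsField _), ?_⟩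
    rw [hs]
    exact Function.surjective_id

end Groth.Agent.Lib.Helper38.CohenStructure
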