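import Mathlib
import Groth.Agent.S0544
import Groth.Agent.Lib.Helper61.MvPSComplete
import Groth.Agent.Lib.Helper61.PSEval
import Groth.Agent.Lib.Helper61.CompleteLE

set_option autoImplicit false
universe u

namespace Groth.Agent.Lib.Helper38.ComplNorm

open IsLocalRing


/-- Relative "finite length implies finite over a coefficient ring". -/
theorem exists_fg_sup {A R : Type*} [CommRing A] [CommRing R] [Algebra A R] [IsLocalRing R]
    [IsNoetherianRing R]
    (hsurj : Function.Surjective ((residue R).comp (algebraMap A R))) (L : Ideal R) :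
    ∀ (N : ℕ) (K : Ideal R), (maximalIdeal R) ^ N * K ≤ L →
      ∃ F : Submodule A R, F.FG ∧ K.restrictScalars A ≤ F ⊔ L.restrictScalars A := by
  intro N
  induction N with
  | zero =>
    intro K hK
    rw [pow_zero, one_mul] at hK
    exact ⟨⊥, Submodule.fg_bot, by rw [bot_sup_eq]; exact hK⟩
  | succ N ih =>
    intro K hK
    obtain ⟨s, hs⟩ := (IsNoetherian.noetherian K : K.FG)
    have h1 : (maximalIdeal R) ^ N * (maximalIdeal R * K) ≤ L := by
      rw [← mul_assoc, ← pow_succ]; exact hK
    obtain ⟨F', hF', hKF'⟩ := ih (maximalIdeal R * K) h1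
    refine ⟨Submodule.span A (s : Set R) ⊔ F', (Submodule.fg_span s.finite_toSet).sup hF', ?_⟩
    have h2 : K.restrictScalars A ≤
        Submodule.span A (s : Set R) ⊔ (maximalIdeal R * K).restrictScalars A := by
      intro k hk
      have hk' : k ∈ Submodule.span R (s : Set R) := by rw [hs]; exact hk
      induction hk' using Submodule.span_induction with
      | mem x hx => exact Submodule.mem_sup_left (Submodule.subset_span hx)
      | zero => exact Submodule.zero_mem _
      | add x y hx hy ihx ihy =>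
        exact Submodule.add_mem _ (ihx (by rw [← hs]; exact hx)) (ihy (by rw [← hs]; exact hy))
      | smul r x hx ihx =>
        have hxK : x ∈ K := by rw [← hs]; exact hx
        obtain ⟨a, ha⟩ := hsurj (residue R r)
        have hμ : r - algebraMap A R a ∈ maximalIdeal R := by
          rw [← residue_eq_zero_iff, map_sub, sub_eq_zero]
          exact ha.symm
        have hdecomp : r • x = a • x + (r - algebraMap A R a) * x := by
          rw [smul_eq_mul, Algebra.smul_def]; ring
        rw [hdecomp]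
        refine Submodule.add_mem _ (Submodule.smul_mem _ a (ihx hxK)) ?_
        exact Submodule.mem_sup_right (Ideal.mul_mem_mul hμ hxK)
    refine h2.trans ?_
    rw [sup_assoc]
    exact sup_le_sup_left hKF' _

theorem finite_quotient_of_fg_sup {A M : Type*} [CommRing A] [AddCommGroup M] [Module A M]
    (N F : Submodule A M) (hF : F.FG) (h : N ⊔ F = ⊤) : Module.Finite A (M ⧸ N) := by
  have h1 : Submodule.map N.mkQ F = ⊤ := (Submodule.map_mkQ_eq_top N F).mpr h
  rw [Module.finite_def, ← h1]
  exact hF.map _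

open MvPowerSeries in
/-- Finiteness of a power series "Noether normalization" map, via two applications of the
complete Nakayama lemma. -/
theorem finite_of_primary {Λ R : Type u} [CommRing Λ] [CommRing R] [IsLocalRing R]
    [IsNoetherianRing R] (π : Λ) [IsAdicComplete (Ideal.span {π}) Λ]
    {n : ℕ} (ψ : MvPowerSeries (Fin n) Λ →+* R)
    (hres : Function.Surjective ((residue R).comp (ψ.comp MvPowerSeries.C)))
    (hπ : ψ (C π) ∈ maximalIdeal R) (hx : ∀ i, ψ (X i) ∈ maximalIdeal R)
    (N : ℕ) (hN : (maximalIdeal R) ^ N ≤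
      Ideal.span {ψ (C π)} ⊔ Ideal.span (Set.range fun i => ψ (X i))) :
    ψ.Finite := by
  let _ : Algebra (MvPowerSeries (Fin n) Λ) R := ψ.toAlgebra
  let _ : Algebra Λ R := (ψ.comp MvPowerSeries.C).toAlgebra
  have : IsScalarTower Λ (MvPowerSeries (Fin n) Λ) R :=
    IsScalarTower.of_algebraMap_eq (fun c => rfl)
  have hIL : (Ideal.span (Set.range (X : Fin n → MvPowerSeries (Fin n) Λ))).map
      (algebraMap (MvPowerSeries (Fin n) Λ) R) = Ideal.span (Set.range fun i => ψ (X i)) := by
    rw [Ideal.map_span, ← Set.range_comp]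
    rfl
  have hLm : Ideal.span (Set.range fun i => ψ (X i)) ≤ maximalIdeal R := by
    rw [Ideal.span_le]
    rintro _ ⟨i, rfl⟩
    exact hx i
  -- Step 2: `R ⧸ L` is finite over `Λ`.
  have hfinΛ : Module.Finite Λ (R ⧸ Ideal.span (Set.range fun i => ψ (X i))) := by
    have hH : IsHausdorff (Ideal.span {π}) (R ⧸ Ideal.span (Set.range fun i => ψ (X i))) := by
      apply IsHausdorff.of_map (S := R) (J := maximalIdeal R)
      rw [Ideal.map_span, Set.image_singleton, Ideal.span_le]
      intro y hy
      rw [Set.mem_singleton_iff] at hy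
      rw [hy]
      exact hπ
    obtain ⟨F₁, hF₁, hF₁top⟩ := exists_fg_sup (A := Λ) hres
      (Ideal.span {ψ (C π)} ⊔ Ideal.span (Set.range fun i => ψ (X i))) N ⊤
      (by rw [Ideal.mul_top]; exact hN)
    have hq : Module.Finite Λ ((R ⧸ Ideal.span (Set.range fun i => ψ (X i))) ⧸
        (Ideal.span {π} • ⊤ : Submodule Λ (R ⧸ Ideal.span (Set.range fun i => ψ (X i))))) := by
      apply finite_quotient_of_fg_sup _
        (F₁.map (Ideal.Quotient.mkₐ Λ (Ideal.span (Set.range fun i => ψ (X i)))).toLinearMap)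
        (hF₁.map _)
      rw [eq_top_iff]
      intro y _
      obtain ⟨r, rfl⟩ := Ideal.Quotient.mk_surjective y
      have hr := hF₁top (show r ∈ (⊤ : Ideal R).restrictScalars Λ from trivial)
      obtain ⟨f, hf, z, hz, rfl⟩ := Submodule.mem_sup.mp hr
      obtain ⟨z₁, hz₁, l, hl, rfl⟩ := Submodule.mem_sup.mp
        (show z ∈ Ideal.span {ψ (C π)} ⊔ Ideal.span (Set.range fun i => ψ (X i)) from hz)
      obtain ⟨c, rfl⟩ := Ideal.mem_span_singleton'.mp hz₁
      rw [map_add, map_add]
      have h0 : Ideal.Quotient.mk (Ideal.span (Set.range fun i => ψ (X i))) l = 0 :=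
        Ideal.Quotient.eq_zero_iff_mem.mpr hl
      rw [h0, add_zero, add_comm]
      refine Submodule.add_mem_sup ?_ ⟨f, hf, rfl⟩
      have h1 : Ideal.Quotient.mk (Ideal.span (Set.range fun i => ψ (X i))) (c * ψ (C π)) =
          π • Ideal.Quotient.mk (Ideal.span (Set.range fun i => ψ (X i))) c := by
        rw [Algebra.smul_def, map_mul, mul_comm]
        rfl
      rw [h1]
      exact Submodule.smul_mem_smul (Ideal.mem_span_singleton_self π) trivial
    exact Groth.Agent.S0544.result Λ (Ideal.span {π}) _ hq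
  -- Step 1
  have hfinP : Module.Finite (MvPowerSeries (Fin n) Λ)
      (R ⧸ Ideal.span (Set.range fun i => ψ (X i))) :=
    Module.Finite.of_restrictScalars_finite Λ (MvPowerSeries (Fin n) Λ) _
  have hH : IsHausdorff (Ideal.span (Set.range (X : Fin n → MvPowerSeries (Fin n) Λ))) R := by
    apply IsHausdorff.of_map (S := R) (J := maximalIdeal R)
    rw [hIL]
    exact hLm
  have hq : Module.Finite (MvPowerSeries (Fin n) Λ)
      (R ⧸ (Ideal.span (Set.range (X : Fin n → MvPowerSeries (Fin n) Λ)) • ⊤ :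
        Submodule (MvPowerSeries (Fin n) Λ) R)) := by
    rw [Ideal.smul_top_eq_map, hIL]
    exact Module.Finite.equiv (Submodule.Quotient.restrictScalarsEquiv (MvPowerSeries (Fin n) Λ)
      (Ideal.span (Set.range fun i => ψ (X i)))).symm
  exact Groth.Agent.S0544.result (MvPowerSeries (Fin n) Λ)
    (Ideal.span (Set.range (X : Fin n → MvPowerSeries (Fin n) Λ))) R hq




/-- Existence of a system of parameters (of length at most the dimension). -/
theorem exists_sop (R : Type*) [CommRing R] [IsLocalRing R] [IsNoetherianRing R] :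
    ∃ (n : ℕ) (x : Fin n → R), (n : WithBot ℕ∞) ≤ ringKrullDim R ∧
      (∀ i, x i ∈ maximalIdeal R) ∧ ∃ N : ℕ, (maximalIdeal R) ^ N ≤ Ideal.span (Set.range x) := by
  classical
  have hne : maximalIdeal R ≠ ⊤ := Ideal.IsPrime.ne_top'
  have hd : (((maximalIdeal R).height.toNat : ℕ) : ℕ∞) = (maximalIdeal R).height :=
    ENat.natCast_toNat (Ideal.height_ne_top hne)
  obtain ⟨J, hJm, hJrank, hJht⟩ := exists_spanRank_le_and_le_height_of_le_height
    (maximalIdeal R) (maximalIdeal R).height.toNat (le_of_eq hd)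
  have hJfg : J.FG := IsNoetherian.noetherian J
  rw [Submodule.FG.spanRank_le_iff hJfg] at hJrank
  obtain ⟨s, hscard, hs⟩ := Submodule.FG.exists_span_finset_card_eq_spanFinrank hJfg
  refine ⟨s.card, fun i => (s.equivFin.symm i : R), ?_, ?_, ?_⟩
  · rw [← IsLocalRing.maximalIdeal_height_eq_ringKrullDim, ← hd]
    have : s.card ≤ (maximalIdeal R).height.toNat := hscard ▸ hJrank
    exact_mod_cast this
  · intro i
    apply hJm
    rw [← hs]
    exact Submodule.subset_span (s.equivFin.symm i).2
  · have hrange : Set.range (fun i => (s.equivFin.symm i : R)) = (s : Set R) := by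
      ext y
      constructor
      · rintro ⟨i, rfl⟩
        exact (s.equivFin.symm i).2
      · intro hy
        exact ⟨s.equivFin ⟨y, hy⟩, by simp⟩
    rw [hrange]
    change ∃ N, _ ≤ Submodule.span R (s : Set R)
    rw [hs]
    apply Ideal.exists_pow_le_of_le_radical_of_fg _ (IsNoetherian.noetherian _)
    rw [Ideal.radical_eq_sInf]
    apply le_sInf
    rintro q ⟨hJq, hq⟩
    have hqm : q ≤ maximalIdeal R := le_maximalIdeal hq.ne_top
    have : q = maximalIdeal R := by
      have : q.IsPrime := hq
      refine Ideal.eq_of_le_of_height_le (I := q) hqm ?_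
      rw [← hd]
      exact hJht.trans (Ideal.height_mono hJq)
    rw [this]




/-- System of parameters modulo an element `a` of the maximal ideal. -/
theorem exists_sop_mod (R : Type*) [CommRing R] [IsLocalRing R] [IsNoetherianRing R] (a : R)
    (ha : a ∈ maximalIdeal R) :
    ∃ (n : ℕ) (x : Fin n → R), (n : WithBot ℕ∞) ≤ ringKrullDim (R ⧸ Ideal.span {a}) ∧
      (∀ i, x i ∈ maximalIdeal R) ∧
      ∃ N : ℕ, (maximalIdeal R) ^ N ≤ Ideal.span {a} ⊔ Ideal.span (Set.range x) := by
  have hne : Ideal.span {a} ≠ ⊤ := by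
    intro h
    have : Ideal.span {a} ≤ maximalIdeal R := by
      rw [Ideal.span_le, Set.singleton_subset_iff]; exact ha
    rw [h] at this
    exact Ideal.IsPrime.ne_top' (top_le_iff.mp this)
  have : Nontrivial (R ⧸ Ideal.span {a}) := Ideal.Quotient.nontrivial_iff.mpr hne
  have hsurj : Function.Surjective (Ideal.Quotient.mk (Ideal.span {a})) :=
    Ideal.Quotient.mk_surjective
  have : IsLocalRing (R ⧸ Ideal.span {a}) := IsLocalRing.of_surjective' _ hsurj
  have hmapmax : (maximalIdeal R).map (Ideal.Quotient.mk (Ideal.span {a})) =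
      maximalIdeal (R ⧸ Ideal.span {a}) := map_maximalIdeal_of_surjective _ hsurj
  obtain ⟨n, xbar, hn, hxbar, N, hN⟩ := exists_sop (R ⧸ Ideal.span {a})
  choose x hx using fun i => hsurj (xbar i)
  have : IsLocalHom (Ideal.Quotient.mk (Ideal.span {a})) := IsLocalHom.of_surjective _ hsurj
  refine ⟨n, x, hn, ?_, N, ?_⟩
  · intro i
    rw [← maximalIdeal_comap (Ideal.Quotient.mk (Ideal.span {a})), Ideal.mem_comap, hx]
    exact hxbar i
  · intro y hy
    have h1 : Ideal.Quotient.mk (Ideal.span {a}) y ∈
        (Ideal.span (Set.range x)).map (Ideal.Quotient.mk (Ideal.span {a})) := by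
      have h2 : Ideal.Quotient.mk (Ideal.span {a}) y ∈ maximalIdeal (R ⧸ Ideal.span {a}) ^ N := by
        rw [← hmapmax, ← Ideal.map_pow]
        exact Ideal.mem_map_of_mem _ hy
      have h3 := hN h2
      rw [Ideal.map_span, ← Set.range_comp]
      have : (Ideal.Quotient.mk (Ideal.span {a})) ∘ x = xbar := funext hx
      rw [this]
      exact h3
    have h4 : y ∈ ((Ideal.span (Set.range x)).map (Ideal.Quotient.mk (Ideal.span {a}))).comap
        (Ideal.Quotient.mk (Ideal.span {a})) := h1
    rw [Ideal.comap_map_of_surjective _ hsurj, ← RingHom.ker_eq_comap_bot, Ideal.mk_ker,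
      sup_comm] at h4
    exact h4


section Dim
open MvPowerSeries


theorem ringKrullDim_le_of_integral (R S : Type*) [CommRing R] [CommRing S]
    [Algebra R S] [Algebra.IsIntegral R S] : ringKrullDim S ≤ ringKrullDim R := by
  refine Order.krullDim_le_of_strictMono (PrimeSpectrum.comap (algebraMap R S)) ?_
  intro p q hpq
  rw [← PrimeSpectrum.asIdeal_lt_asIdeal] at hpq ⊢
  exact Ideal.IsIntegral.comap_lt_comap hpq

theorem mem_span_X_iff {Λ : Type*} [CommRing Λ] {n : ℕ} (f : MvPowerSeries (Fin n) Λ) :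
    f ∈ Ideal.span (Set.range (X : Fin n → MvPowerSeries (Fin n) Λ)) ↔ constantCoeff f = 0 := by
  rw [← one_le_order_iff_constCoeff_eq_zero]
  have := Groth.Agent.Lib.Helper61.MvPSComplete.mem_pow_iff (σ := Fin n) (R := Λ) (M := 1) (f := f)
  rw [pow_one] at this
  exact_mod_cast this

/-- Dimension bound for power series rings over a local Noetherian ring. -/
theorem ringKrullDim_mvPowerSeries_le {Λ : Type*} [CommRing Λ] [IsLocalRing Λ]
    [IsNoetherianRing Λ] (n : ℕ) :
    ringKrullDim (MvPowerSeries (Fin n) Λ) ≤ ringKrullDim Λ + n := by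
  have hne : Ideal.span (Set.range (X : Fin n → MvPowerSeries (Fin n) Λ)) ≠ ⊤ := by
    intro h
    have h1 : (1 : MvPowerSeries (Fin n) Λ) ∈
        Ideal.span (Set.range (X : Fin n → MvPowerSeries (Fin n) Λ)) := by rw [h]; trivial
    rw [mem_span_X_iff, map_one] at h1
    exact one_ne_zero h1
  have h3 := ringKrullDim_le_ringKrullDim_quotient_add_spanFinrank
    (Ideal.span (Set.range (X : Fin n → MvPowerSeries (Fin n) Λ)))
    (by rw [IsLocalRing.ringJacobson_eq_maximalIdeal]; exact le_maximalIdeal hne)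
  have h4 : ringKrullDim (MvPowerSeries (Fin n) Λ ⧸
      Ideal.span (Set.range (X : Fin n → MvPowerSeries (Fin n) Λ))) ≤ ringKrullDim Λ := by
    apply ringKrullDim_le_of_surjective ((Ideal.Quotient.mk _).comp (C (σ := Fin n) (R := Λ)))
    intro y
    obtain ⟨f, rfl⟩ := Ideal.Quotient.mk_surjective y
    refine ⟨constantCoeff f, ?_⟩
    rw [RingHom.comp_apply, Ideal.Quotient.eq, mem_span_X_iff, map_sub, constantCoeff_C, sub_self]
  have h5 : (Ideal.span (Set.range (X : Fin n → MvPowerSeries (Fin n) Λ))).spanFinrank ≤ n := by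
    have := Submodule.spanFinrank_span_le_ncard_of_finite (R := MvPowerSeries (Fin n) Λ)
      (Set.finite_range (X : Fin n → MvPowerSeries (Fin n) Λ))
    refine this.trans ?_
    have h6 := Set.ncard_image_le (f := (X : Fin n → MvPowerSeries (Fin n) Λ))
      (s := Set.univ) Set.finite_univ
    rw [Set.image_univ, Set.ncard_univ, Nat.card_fin] at h6
    exact h6
  refine h3.trans ?_
  have h5' : ((Ideal.span (Set.range (X : Fin n → MvPowerSeries (Fin n) Λ))).spanFinrank :
      WithBot ℕ∞) ≤ (n : WithBot ℕ∞) := by exact_mod_cast h5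
  exact add_le_add h4 h5'


end Dim

section Norm
open MvPowerSeries

/-- Noether normalization for complete local domains (general form). -/
theorem exists_normalization {Λ R : Type u} [CommRing Λ] [IsDomain Λ] [IsLocalRing Λ]
    [IsNoetherianRing Λ] [CommRing R] [IsDomain R] [IsLocalRing R] [IsNoetherianRing R]
    [IsAdicComplete (maximalIdeal R) R]
    (π : Λ) [IsAdicComplete (Ideal.span {π}) Λ] (g : Λ →+* R)
    (hg : Function.Surjective ((residue R).comp g)) (hπ : g π ∈ maximalIdeal R)
    (e : ℕ) (he : ringKrullDim Λ ≤ e)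
    (hdim : ringKrullDim (R ⧸ Ideal.span {g π}) + e ≤ ringKrullDim R) :
    ∃ (n : ℕ) (f : MvPowerSeries (Fin n) Λ →+* R), Function.Injective f ∧ f.Finite ∧
      ∀ c, f (C c) = g c := by
  obtain ⟨n, x, hn, hxm, N, hN⟩ := exists_sop_mod R (g π) hπ
  let _ : Algebra Λ R := g.toAlgebra
  have hle : Ideal.span (Set.range x) ≤ maximalIdeal R := by
    rw [Ideal.span_le]
    rintro _ ⟨i, rfl⟩
    exact hxm i
  have : IsAdicComplete (Ideal.span (Set.range x)) R :=
    Groth.Agent.Lib.Helper61.CompleteLE.isAdicComplete_of_le _ (maximalIdeal R) hle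
      (IsNoetherian.noetherian _)
  obtain ⟨ψ, hψ⟩ := Groth.Agent.Lib.Helper61.PSEval.exists_eval Λ R x
  have hC : ∀ c : Λ, ψ.toRingHom (C c) = g c := fun c => ψ.commutes c
  have hX : ∀ i, ψ.toRingHom (X i) = x i := hψ
  have hfin : ψ.toRingHom.Finite := by
    apply finite_of_primary π ψ.toRingHom _ _ _ N
    · have : (fun i => ψ.toRingHom (X i)) = x := funext hX
      rw [hC, this]
      exact hN
    · have : (residue R).comp (ψ.toRingHom.comp C) = (residue R).comp g := by
        ext c
        simp only [RingHom.comp_apply]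
        rw [hC]
      rw [this]
      exact hg
    · rw [hC]; exact hπ
    · intro i; rw [hX]; exact hxm i
  refine ⟨n, ψ.toRingHom, ?_, hfin, hC⟩
  rw [injective_iff_map_eq_zero]
  intro r hr
  by_contra hr0
  -- dimension count
  have hrnzd : r ∈ nonZeroDivisors (MvPowerSeries (Fin n) Λ) := mem_nonZeroDivisors_of_ne_zero hr0
  have h2 := ringKrullDim_quotient_succ_le_of_nonZeroDivisor hrnzd
  have h3 := ringKrullDim_mvPowerSeries_le (Λ := Λ) n
  let φ : (MvPowerSeries (Fin n) Λ ⧸ Ideal.span {r}) →+* R :=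
    Ideal.Quotient.lift (Ideal.span {r}) ψ.toRingHom (by
      intro a ha
      obtain ⟨c, rfl⟩ := Ideal.mem_span_singleton'.mp ha
      rw [map_mul, hr, mul_zero])
  have hφfin : φ.Finite := by
    apply RingHom.Finite.of_comp_finite (f := Ideal.Quotient.mk (Ideal.span {r}))
    have : φ.comp (Ideal.Quotient.mk (Ideal.span {r})) = ψ.toRingHom := by
      ext a; rfl
    rw [this]
    exact hfin
  have h1 : ringKrullDim R ≤ ringKrullDim (MvPowerSeries (Fin n) Λ ⧸ Ideal.span {r}) := by
    let _ : Algebra (MvPowerSeries (Fin n) Λ ⧸ Ideal.span {r}) R := φ.toAlgebra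
    have : Module.Finite (MvPowerSeries (Fin n) Λ ⧸ Ideal.span {r}) R := hφfin
    exact ringKrullDim_le_of_integral _ R
  obtain ⟨d, hd⟩ : ∃ d : ℕ, ringKrullDim R = d := by
    have hbot := ringKrullDim_ne_bot (R := R)
    have htop := ringKrullDim_ne_top (R := R)
    obtain ⟨a, ha⟩ := WithBot.ne_bot_iff_exists.mp hbot
    rw [← ha] at htop
    have : a ≠ ⊤ := fun h => htop (by rw [h]; rfl)
    obtain ⟨d, hd⟩ := ENat.ne_top_iff_exists.mp this
    exact ⟨d, by rw [← ha, ← hd]; rfl⟩
  have hchain : ringKrullDim R + 1 ≤ ringKrullDim R := by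
    calc ringKrullDim R + 1 ≤ ringKrullDim (MvPowerSeries (Fin n) Λ ⧸ Ideal.span {r}) + 1 :=
          add_le_add h1 le_rfl
      _ ≤ ringKrullDim (MvPowerSeries (Fin n) Λ) := h2
      _ ≤ ringKrullDim Λ + n := h3
      _ ≤ (e : WithBot ℕ∞) + ringKrullDim (R ⧸ Ideal.span {g π}) := add_le_add he hn
      _ = ringKrullDim (R ⧸ Ideal.span {g π}) + e := add_comm _ _
      _ ≤ ringKrullDim R := hdim
  rw [hd] at hchain
  have : (d : WithBot ℕ∞) + 1 = ((d + 1 : ℕ) : WithBot ℕ∞) := by push_cast; rfl
  rw [this] at hchain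
  have : d + 1 ≤ d := by exact_mod_cast hchain
  omega


end Norm

end Groth.Agent.Lib.Helper38.ComplNorm
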