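import Mathlib

/-!
# Total ring of fractions of a reduced ring with finitely many minimal primes

`FractionRing A ≃ₐ[A] ∏_{p minimal} FractionRing (A ⧸ p)` and consequences for the integral
closure of `A` in its total ring of fractions.
-/

set_option autoImplicit false
universe u

namespace Groth.Agent.Lib.Helper38.TotalFrac

variable (A : Type u) [CommRing A]

/-- The type of minimal primes. -/
abbrev MinP := {p : Ideal A // p ∈ minimalPrimes A}

instance (p : MinP A) : p.1.IsPrime := Ideal.minimalPrimes_isPrime p.2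

variable {A}

/-- Residue "function field" at a minimal prime. -/
abbrev Kp (p : MinP A) := FractionRing (A ⧸ p.1)

theorem algebraMap_Kp_eq_zero_iff (p : MinP A) (a : A) :
    algebraMap A (Kp p) a = 0 ↔ a ∈ p.1 := by
  rw [IsScalarTower.algebraMap_apply A (A ⧸ p.1) (Kp p), Ideal.Quotient.algebraMap_eq,
    ← Ideal.Quotient.eq_zero_iff_mem]
  constructor
  · intro h
    exact IsFractionRing.injective (A ⧸ p.1) (Kp p) (h.trans (map_zero _).symm)
  · intro h
    rw [h, map_zero]

theorem notMem_of_mem_nonZeroDivisors (p : MinP A) {s : A} (hs : s ∈ nonZeroDivisors A) :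
    s ∉ p.1 := fun h =>
  Set.disjoint_left.mp (Ideal.disjoint_nonZeroDivisors_of_mem_minimalPrimes p.2) h hs

theorem isUnit_algebraMap_Kp (p : MinP A) (s : nonZeroDivisors A) :
    IsUnit (algebraMap A (Kp p) s) := by
  rw [isUnit_iff_ne_zero, Ne, algebraMap_Kp_eq_zero_iff]
  exact notMem_of_mem_nonZeroDivisors p s.2

/-- The projection of the total fraction ring to the fraction field of `A ⧸ p`. -/
noncomputable def psi (p : MinP A) : FractionRing A →ₐ[A] Kp p :=
  IsLocalization.liftAlgHom (M := nonZeroDivisors A) (f := Algebra.ofId A (Kp p))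
    (fun s => isUnit_algebraMap_Kp p s)

/-- The product of the projections. -/
noncomputable def psiPi : FractionRing A →ₐ[A] (∀ p : MinP A, Kp p) :=
  AlgHom.pi psi

@[simp] theorem psiPi_apply (x : FractionRing A) (p : MinP A) : psiPi x p = psi p x := rfl

theorem mem_nonZeroDivisors_of_forall_notMem [IsReduced A] {t : A}
    (ht : ∀ p : MinP A, t ∉ p.1) : t ∈ nonZeroDivisors A := by
  rw [mem_nonZeroDivisors_iff_right]
  intro b hb
  have hmem : b ∈ sInf (minimalPrimes A) := by
    rw [Ideal.mem_sInf]
    intro q hq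
    have : b * t ∈ q := by rw [hb]; exact zero_mem _
    rcases (Ideal.minimalPrimes_isPrime hq).mem_or_mem this with h | h
    · exact h
    · exact absurd h (ht ⟨q, hq⟩)
  have hnil : sInf (minimalPrimes A) = ⊥ := by
    change sInf (⊥ : Ideal A).minimalPrimes = ⊥
    rw [Ideal.sInf_minimalPrimes]
    exact nilradical_eq_zero A
  rw [hnil] at hmem
  exact hmem

theorem psiPi_injective [IsReduced A] : Function.Injective (psiPi (A := A)) := by
  rw [injective_iff_map_eq_zero]
  intro x hx
  obtain ⟨a, s, rfl⟩ := IsLocalization.exists_mk'_eq (nonZeroDivisors A) x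
  have ha : a = 0 := by
    have hmem : a ∈ sInf (minimalPrimes A) := by
      rw [Ideal.mem_sInf]
      intro q hq
      have h1 : psi ⟨q, hq⟩ (IsLocalization.mk' (FractionRing A) a s) = 0 :=
        congrFun hx ⟨q, hq⟩
      have h2 : psi ⟨q, hq⟩ (algebraMap A (FractionRing A) a) = 0 := by
        rw [← IsLocalization.mk'_spec (FractionRing A) a s, map_mul, h1, zero_mul]
      rw [AlgHom.commutes, algebraMap_Kp_eq_zero_iff] at h2
      exact h2
    have hnil : sInf (minimalPrimes A) = ⊥ := by
      change sInf (⊥ : Ideal A).minimalPrimes = ⊥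
      rw [Ideal.sInf_minimalPrimes]
      exact nilradical_eq_zero A
    rw [hnil] at hmem
    exact hmem
  rw [ha, IsLocalization.mk'_zero]

/-- CRT-type elements: for each minimal prime `p` an element outside `p` lying in all other
minimal primes. -/
theorem exists_crt_elem [Finite (MinP A)] (p : MinP A) :
    ∃ c : A, c ∉ p.1 ∧ ∀ q : MinP A, q ≠ p → c ∈ q.1 := by
  classical
  have _ := Fintype.ofFinite (MinP A)
  by_contra hcon
  push_neg at hcon
  have hle : (Finset.univ.erase p).inf (fun q : MinP A => q.1) ≤ p.1 := by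
    intro c hc
    by_contra hcp
    obtain ⟨q, hq, hcq⟩ := hcon c hcp
    rw [Submodule.mem_finsetInf] at hc
    exact hcq (hc q (Finset.mem_erase.mpr ⟨hq, Finset.mem_univ _⟩))
  obtain ⟨q, hq, hqp⟩ := (Ideal.IsPrime.inf_le' inferInstance).mp hle
  have hpq : p.1 ≤ q.1 := p.2.2 ⟨inferInstance, bot_le⟩ hqp
  exact (Finset.mem_erase.mp hq).1 (Subtype.ext (le_antisymm hqp hpq))

theorem psiPi_surjective [IsReduced A] [Finite (MinP A)] :
    Function.Surjective (psiPi (A := A)) := by
  classical
  have _ := Fintype.ofFinite (MinP A)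
  intro y
  choose c hc1 hc2 using fun p : MinP A => exists_crt_elem p
  have hy : ∀ p : MinP A, ∃ a s : A, s ∉ p.1 ∧
      y p * algebraMap A (Kp p) s = algebraMap A (Kp p) a := by
    intro p
    obtain ⟨a', s', hs', h⟩ := IsFractionRing.div_surjective (A := A ⧸ p.1) (y p)
    obtain ⟨a, rfl⟩ := Ideal.Quotient.mk_surjective a'
    obtain ⟨s, rfl⟩ := Ideal.Quotient.mk_surjective s'
    have hs0 : Ideal.Quotient.mk p.1 s ≠ 0 := nonZeroDivisors.ne_zero hs'
    refine ⟨a, s, fun hmem => hs0 (Ideal.Quotient.eq_zero_iff_mem.mpr hmem), ?_⟩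
    rw [IsScalarTower.algebraMap_apply A (A ⧸ p.1) (Kp p),
      IsScalarTower.algebraMap_apply A (A ⧸ p.1) (Kp p), Ideal.Quotient.algebraMap_eq, ← h]
    have : algebraMap (A ⧸ p.1) (Kp p) (Ideal.Quotient.mk p.1 s) ≠ 0 := by
      intro h0
      exact hs0 (IsFractionRing.injective (A ⧸ p.1) (Kp p) (h0.trans (map_zero _).symm))
    field_simp
  choose a s hs hys using hy
  let t : A := ∑ p, s p * c p
  let b : A := ∑ p, a p * c p
  have hsum : ∀ (f : MinP A → A) (p : MinP A),
      algebraMap A (Kp p) (∑ q, f q * c q) = algebraMap A (Kp p) (f p * c p) := by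
    intro f p
    rw [map_sum]
    apply Finset.sum_eq_single p
    · intro q _ hq
      rw [algebraMap_Kp_eq_zero_iff]
      exact Ideal.mul_mem_left _ _ (hc2 q p (Ne.symm hq))
    · intro h
      exact absurd (Finset.mem_univ p) h
  have ht : t ∈ nonZeroDivisors A := by
    apply mem_nonZeroDivisors_of_forall_notMem
    intro p hmem
    have h1 := (algebraMap_Kp_eq_zero_iff p t).mpr hmem
    rw [hsum s p, algebraMap_Kp_eq_zero_iff] at h1
    rcases (inferInstance : p.1.IsPrime).mem_or_mem h1 with h | h
    · exact hs p h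
    · exact hc1 p h
  refine ⟨IsLocalization.mk' (FractionRing A) b ⟨t, ht⟩, ?_⟩
  funext p
  rw [psiPi_apply]
  have h1 : psi p (IsLocalization.mk' (FractionRing A) b ⟨t, ht⟩) * algebraMap A (Kp p) t =
      algebraMap A (Kp p) b := by
    rw [← AlgHom.commutes (psi p) t, ← map_mul, IsLocalization.mk'_spec, AlgHom.commutes]
  have h2 : y p * algebraMap A (Kp p) t = algebraMap A (Kp p) b := by
    rw [hsum s p, hsum a p, map_mul, map_mul, ← mul_assoc, hys p]
  have ht0 : algebraMap A (Kp p) t ≠ 0 := (isUnit_algebraMap_Kp p ⟨t, ht⟩).ne_zero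
  exact mul_right_cancel₀ ht0 (h1.trans h2.symm)

/-- The total ring of fractions of a reduced ring with finitely many minimal primes is the
product of the fraction fields of the quotients by the minimal primes. -/
noncomputable def totalFracEquiv [IsReduced A] [Finite (MinP A)] :
    FractionRing A ≃ₐ[A] (∀ p : MinP A, Kp p) :=
  AlgEquiv.ofBijective psiPi ⟨psiPi_injective, psiPi_surjective⟩

open Polynomial in
theorem isIntegral_pi_iff {R : Type*} [CommRing R] {ι : Type*} [Finite ι] {B : ι → Type*}
    [∀ i, CommRing (B i)] [∀ i, Algebra R (B i)] (x : ∀ i, B i) :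
    IsIntegral R x ↔ ∀ i, IsIntegral R (x i) := by
  classical
  have _ := Fintype.ofFinite ι
  constructor
  · intro h i
    exact h.map (Pi.evalAlgHom R B i)
  · intro h
    choose f hf1 hf2 using h
    refine ⟨∏ i, f i, monic_prod_of_monic _ _ fun i _ => hf1 i, ?_⟩
    rw [← aeval_def]
    funext i
    have : (aeval x (∏ i, f i)) i = aeval (x i) (∏ i, f i) := by
      have := Polynomial.aeval_algHom_apply (Pi.evalAlgHom R B i) x (∏ i, f i)
      exact this.symm
    rw [this, map_prod]
    apply Finset.prod_eq_zero (Finset.mem_univ i)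
    rw [aeval_def]
    exact hf2 i

noncomputable def piIntegralClosureEquiv {R : Type*} [CommRing R] {ι : Type*} [Finite ι]
    (Ri : ι → Type*) [∀ i, CommRing (Ri i)] [∀ i, Algebra R (Ri i)]
    [∀ i, Algebra.IsIntegral R (Ri i)] (B : ι → Type*) [∀ i, CommRing (B i)]
    [∀ i, Algebra R (B i)] [∀ i, Algebra (Ri i) (B i)] [∀ i, IsScalarTower R (Ri i) (B i)] :
    integralClosure R (∀ i, B i) ≃ₐ[R] ∀ i, integralClosure (Ri i) (B i) where
  toFun x := fun i => ⟨x.1 i, ((isIntegral_pi_iff x.1).mp x.2 i).tower_top⟩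
  invFun y := ⟨fun i => (y i).1, (isIntegral_pi_iff _).mpr fun i =>
    isIntegral_trans (A := Ri i) _ (y i).2⟩
  left_inv _ := rfl
  right_inv _ := rfl
  map_mul' _ _ := rfl
  map_add' _ _ := rfl
  commutes' _ := rfl


/-- The integral closure of a reduced ring with finitely many minimal primes in its total ring of
fractions is the product of the normalizations of the quotients by the minimal primes. -/
noncomputable def integralClosureEquiv [IsReduced A] [Finite (MinP A)] :
    integralClosure A (FractionRing A) ≃ₐ[A]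
      (∀ p : MinP A, integralClosure (A ⧸ p.1) (Kp p)) :=
  (totalFracEquiv.mapIntegralClosure).trans
    (piIntegralClosureEquiv (fun p : MinP A => A ⧸ p.1) (fun p => Kp p))

end Groth.Agent.Lib.Helper38.TotalFrac
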