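import Mathlib
import Groth.Prelude.Def_Found
import Groth.Agent.Lib.Helper38.TotalFrac

set_option autoImplicit false
universe u

namespace Groth.Agent.Lib.Helper38.AnUnram

open TensorProduct

/-- Integral closure in a field finite over the total fraction ring. -/
theorem finite_integralClosure_field (Ah R L : Type u) [CommRing Ah] [IsNoetherianRing Ah]
    (hNag : ∀ (q : Ideal Ah) [q.IsPrime], CAlg.IsN2 (Ah ⧸ q))
    [CommRing R] [Algebra Ah R] [IsFractionRing Ah R] [Field L] [Algebra R L] [Algebra Ah L]
    [IsScalarTower Ah R L] [Module.Finite R L] :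
    Module.Finite Ah (integralClosure Ah L) := by
  have hqprime : (RingHom.ker (algebraMap Ah L)).IsPrime := RingHom.ker_isPrime _
  let _ : Algebra (Ah ⧸ RingHom.ker (algebraMap Ah L)) L :=
    (RingHom.kerLift (algebraMap Ah L)).toAlgebra
  have hst : IsScalarTower Ah (Ah ⧸ RingHom.ker (algebraMap Ah L)) L :=
    IsScalarTower.of_algebraMap_eq (fun a => rfl)
  have hinj : Function.Injective (algebraMap (Ah ⧸ RingHom.ker (algebraMap Ah L)) L) :=
    RingHom.kerLift_injective _
  have hfs : FaithfulSMul (Ah ⧸ RingHom.ker (algebraMap Ah L)) L :=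
    (faithfulSMul_iff_algebraMap_injective _ _).mpr hinj
  let _ : Algebra (FractionRing (Ah ⧸ RingHom.ker (algebraMap Ah L))) L :=
    FractionRing.liftAlgebra _ _
  have hst2 : IsScalarTower (Ah ⧸ RingHom.ker (algebraMap Ah L))
      (FractionRing (Ah ⧸ RingHom.ker (algebraMap Ah L))) L :=
    FractionRing.isScalarTower_liftAlgebra _ _
  -- the image of `R` in `L` lies in the image of the fraction field
  have hrange : ∀ r : R, ∃ f : FractionRing (Ah ⧸ RingHom.ker (algebraMap Ah L)),
      algebraMap R L r = algebraMap _ L f := by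
    intro r
    obtain ⟨a, s, rfl⟩ := IsLocalization.exists_mk'_eq (nonZeroDivisors Ah) r
    have h1 : algebraMap R L (IsLocalization.mk' R a s) * algebraMap Ah L s = algebraMap Ah L a := by
      rw [IsScalarTower.algebraMap_apply Ah R L, IsScalarTower.algebraMap_apply Ah R L,
        ← map_mul, IsLocalization.mk'_spec]
    have hsu : IsUnit (algebraMap Ah L s) := by
      rw [IsScalarTower.algebraMap_apply Ah R L]
      exact (IsLocalization.map_units R s).map _
    have h2 : ∀ x : Ah, algebraMap Ah L x =
        algebraMap (FractionRing (Ah ⧸ RingHom.ker (algebraMap Ah L))) L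
          (algebraMap _ _ (Ideal.Quotient.mk (RingHom.ker (algebraMap Ah L)) x)) := by
      intro x
      rw [← IsScalarTower.algebraMap_apply (Ah ⧸ RingHom.ker (algebraMap Ah L))
        (FractionRing (Ah ⧸ RingHom.ker (algebraMap Ah L))) L]
      rfl
    refine ⟨algebraMap _ _ (Ideal.Quotient.mk (RingHom.ker (algebraMap Ah L)) a) /
      algebraMap _ _ (Ideal.Quotient.mk (RingHom.ker (algebraMap Ah L)) (s : Ah)), ?_⟩
    rw [map_div₀, ← h2, ← h2, eq_div_iff hsu.ne_zero, h1]
  have hfd : FiniteDimensional (FractionRing (Ah ⧸ RingHom.ker (algebraMap Ah L))) L := by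
    obtain ⟨s, hs⟩ := (Module.Finite.fg_top : (⊤ : Submodule R L).FG)
    refine ⟨⟨s, ?_⟩⟩
    rw [eq_top_iff]
    intro x hxtop
    clear hxtop
    have hx : x ∈ Submodule.span R (s : Set L) := by rw [hs]; trivial
    induction hx using Submodule.span_induction with
    | mem y hy => exact Submodule.subset_span hy
    | zero => exact Submodule.zero_mem _
    | add y z _ _ hy hz => exact Submodule.add_mem _ hy hz
    | smul r y _ hy =>
      obtain ⟨f, hf⟩ := hrange r
      have : r • y = f • y := by
        rw [Algebra.smul_def, Algebra.smul_def, hf]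
      rw [this]
      exact Submodule.smul_mem _ _ hy
  have hfin1 : Module.Finite (Ah ⧸ RingHom.ker (algebraMap Ah L))
      (integralClosure (Ah ⧸ RingHom.ker (algebraMap Ah L)) L) :=
    hNag (RingHom.ker (algebraMap Ah L)) L hfd
  have hfin2 : Module.Finite Ah (integralClosure (Ah ⧸ RingHom.ker (algebraMap Ah L)) L) :=
    Module.Finite.trans (Ah ⧸ RingHom.ker (algebraMap Ah L)) _
  let φ : integralClosure Ah L →ₗ[Ah] integralClosure (Ah ⧸ RingHom.ker (algebraMap Ah L)) L :=
    { toFun := fun x => ⟨x.1, x.2.tower_top⟩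
      map_add' := fun _ _ => rfl
      map_smul' := fun _ _ => rfl }
  have hφ : Function.Injective φ := by
    intro x y hxy
    apply Subtype.ext
    have := congrArg Subtype.val hxy
    exact this
  exact Module.Finite.of_injective φ hφ

/-- The total fraction ring of a reduced Noetherian ring is Artinian. -/
theorem isArtinianRing_of_isFractionRing (Ah R : Type u) [CommRing Ah] [IsNoetherianRing Ah]
    [IsReduced Ah] [CommRing R] [Algebra Ah R] [IsFractionRing Ah R] : IsArtinianRing R := by
  have hfin : Finite (TotalFrac.MinP Ah) :=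
    (minimalPrimes.finite_of_isNoetherianRing Ah).to_subtype
  let e1 : FractionRing Ah ≃ₐ[Ah] (∀ p : TotalFrac.MinP Ah, TotalFrac.Kp p) :=
    TotalFrac.totalFracEquiv
  let e2 : FractionRing Ah ≃ₐ[Ah] R := FractionRing.algEquiv Ah R
  have h1 : IsArtinianRing (∀ p : TotalFrac.MinP Ah, TotalFrac.Kp p) := inferInstance
  exact (e1.symm.trans e2).toRingEquiv.surjective.isArtinianRing

/-- Integral closure in a reduced finite algebra over the total fraction ring. -/
theorem finite_integralClosure_of_reduced_finite (Ah R T : Type u) [CommRing Ah]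
    [IsNoetherianRing Ah] [IsReduced Ah]
    (hNag : ∀ (q : Ideal Ah) [q.IsPrime], CAlg.IsN2 (Ah ⧸ q))
    [CommRing R] [Algebra Ah R] [IsFractionRing Ah R] [CommRing T] [Algebra R T] [Algebra Ah T]
    [IsScalarTower Ah R T] [Module.Finite R T] [IsReduced T] :
    Module.Finite Ah (integralClosure Ah T) := by
  have hRart : IsArtinianRing R := isArtinianRing_of_isFractionRing Ah R
  have hTart : IsArtinianRing T := IsArtinianRing.of_finite R T
  have hfin : ∀ m : MaximalSpectrum T, Module.Finite Ah (integralClosure Ah (T ⧸ m.asIdeal)) := by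
    intro m
    let _ : Field (T ⧸ m.asIdeal) := Ideal.Quotient.field m.asIdeal
    have : Module.Finite R (T ⧸ m.asIdeal) :=
      Module.Finite.of_surjective (Ideal.Quotient.mkₐ R m.asIdeal).toLinearMap
        (Ideal.Quotient.mkₐ_surjective R m.asIdeal)
    exact finite_integralClosure_field Ah R (T ⧸ m.asIdeal) hNag
  let φ : integralClosure Ah T →ₗ[Ah] (∀ m : MaximalSpectrum T, integralClosure Ah (T ⧸ m.asIdeal)) :=
    { toFun := fun x m => ⟨Ideal.Quotient.mk m.asIdeal x.1,
        x.2.map (Ideal.Quotient.mkₐ Ah m.asIdeal)⟩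
      map_add' := fun _ _ => rfl
      map_smul' := fun _ _ => rfl }
  have hφ : Function.Injective φ := by
    rw [← LinearMap.ker_eq_bot, LinearMap.ker_eq_bot']
    intro x hx
    apply Subtype.ext
    have h1 : ∀ m : MaximalSpectrum T, x.1 ∈ m.asIdeal := by
      intro m
      have := congrArg (fun f => (f m).1) hx
      exact Ideal.Quotient.eq_zero_iff_mem.mp this
    have h2 : x.1 ∈ (⊥ : Ideal T).jacobson := by
      rw [Ideal.jacobson, Ideal.mem_sInf]
      rintro J ⟨-, hJ⟩
      exact h1 ⟨J, hJ⟩
    rw [IsArtinianRing.jacobson_eq_radical] at h2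
    have h3 : IsNilpotent x.1 := h2
    exact h3.eq_zero
  have : Module.Finite Ah (∀ m : MaximalSpectrum T, integralClosure Ah (T ⧸ m.asIdeal)) :=
    Module.Finite.pi
  exact Module.Finite.of_injective φ hφ

section Tensor

variable (A Ah K' R : Type u) [CommRing A] [IsDomain A] [CommRing Ah] [Algebra A Ah]
  [CommRing R] [Algebra Ah R] [IsFractionRing Ah R] [Algebra A R] [IsScalarTower A Ah R]
  [Field K'] [Algebra A K'] [Algebra (FractionRing A) K'] [IsScalarTower A (FractionRing A) K']

theorem isUnit_algebraMap_of_flat [Module.Flat A Ah] (s : A) (hs : s ≠ 0) :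
    IsUnit (algebraMap A R s) := by
  have h1 : IsSMulRegular A s := (IsRegular.of_ne_zero hs).left.isSMulRegular
  have h2 : IsSMulRegular Ah (algebraMap A Ah s) := IsSMulRegular.of_flat h1
  have h3 : algebraMap A Ah s ∈ nonZeroDivisors Ah := by
    rw [mem_nonZeroDivisors_iff_right]
    intro z hz
    apply h2
    change algebraMap A Ah s • z = algebraMap A Ah s • 0
    rw [smul_zero, smul_eq_mul, mul_comm]
    exact hz
  rw [IsScalarTower.algebraMap_apply A Ah R]
  exact IsLocalization.map_units R ⟨_, h3⟩

theorem exists_tmul_smul_eq [Module.Flat A Ah] (r : R) (c : FractionRing A) (y : K') :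
    ∃ r' : R, r ⊗ₜ[A] (c • y) = r' ⊗ₜ[A] y := by
  obtain ⟨a, s, rfl⟩ := IsLocalization.exists_mk'_eq (nonZeroDivisors A) c
  have hs0 : (s : A) ≠ 0 := nonZeroDivisors.coe_ne_zero s
  obtain ⟨u, hu⟩ := (isUnit_algebraMap_of_flat A Ah R (s : A) hs0).exists_left_inv
  refine ⟨a • (r * u), ?_⟩
  have h1 : r = (s : A) • (r * u) := by
    rw [Algebra.smul_def, mul_comm, mul_assoc, hu, mul_one]
  have h2 : (s : A) • (IsLocalization.mk' (FractionRing A) a s • y) = a • y := by
    rw [← smul_assoc, Algebra.smul_def (s : A), mul_comm, IsLocalization.mk'_spec,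
      algebraMap_smul]
  conv_lhs => rw [h1]
  rw [TensorProduct.smul_tmul, h2, ← TensorProduct.smul_tmul]

theorem finite_tensor [Module.Flat A Ah] [FiniteDimensional (FractionRing A) K'] :
    Module.Finite R (R ⊗[A] K') := by
  let b := Module.finBasis (FractionRing A) K'
  rw [Module.finite_def]
  have hfg : (Submodule.span R (Set.range fun i => (1 : R) ⊗ₜ[A] b i)).FG :=
    Submodule.fg_span (Set.finite_range _)
  suffices h : Submodule.span R (Set.range fun i => (1 : R) ⊗ₜ[A] b i) = ⊤ by rwa [← h]
  rw [eq_top_iff]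
  intro t ht
  clear ht
  induction t using TensorProduct.induction_on with
  | zero => exact Submodule.zero_mem _
  | tmul r x =>
    rw [← b.sum_repr x, TensorProduct.tmul_sum]
    refine Submodule.sum_mem _ (fun i _ => ?_)
    obtain ⟨r', hr'⟩ := exists_tmul_smul_eq A Ah K' R r (b.repr x i) (b i)
    rw [hr']
    have : r' ⊗ₜ[A] b i = r' • ((1 : R) ⊗ₜ[A] b i) := by
      rw [TensorProduct.smul_tmul', smul_eq_mul, mul_one]
    rw [this]
    apply Submodule.smul_mem
    apply Submodule.subset_span
    exact ⟨i, rfl⟩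
  | add x y hx hy => exact Submodule.add_mem _ hx hy

/-- Main finiteness theorem: integral closure of `A` in `K'` is finite, provided the base change
of `K'` to the total fraction ring of a faithfully flat "Nagata" extension `Ah` is reduced. -/
theorem finite_integralClosure_of_tensor_reduced [Module.FaithfullyFlat A Ah]
    [IsNoetherianRing Ah] [IsReduced Ah]
    (hNag : ∀ (q : Ideal Ah) [q.IsPrime], CAlg.IsN2 (Ah ⧸ q))
    [FiniteDimensional (FractionRing A) K'] (h : IsReduced (R ⊗[A] K')) :
    Module.Finite A (integralClosure A K') := by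
  have hfinT : Module.Finite R (R ⊗[A] K') := finite_tensor A Ah K' R
  have hfinIC : Module.Finite Ah (integralClosure Ah (R ⊗[A] K')) :=
    finite_integralClosure_of_reduced_finite Ah R (R ⊗[A] K') hNag
  -- flatness of `K'`
  have hflatK' : Module.Flat A K' := Module.Flat.trans A (FractionRing A) K'
  let ψ : Ah ⊗[A] (integralClosure A K') →ₗ[Ah] R ⊗[A] K' :=
    TensorProduct.AlgebraTensorModule.map (Algebra.linearMap Ah R)
      (integralClosure A K').val.toLinearMap
  have hψeq : ∀ x, ψ x = TensorProduct.map (IsScalarTower.toAlgHom A Ah R).toLinearMap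
      (integralClosure A K').val.toLinearMap x := by
    intro x
    induction x using TensorProduct.induction_on with
    | zero => rw [map_zero, map_zero]
    | tmul a b => rfl
    | add x y hx hy => rw [map_add, map_add, hx, hy]
  have hψinj : Function.Injective ψ := by
    intro x y hxy
    rw [hψeq, hψeq] at hxy
    exact TensorProduct.map_injective_of_flat_flat' _ _
      (IsFractionRing.injective Ah R) Subtype.val_injective hxy
  have hψmem : ∀ x, ψ x ∈ Subalgebra.toSubmodule (integralClosure Ah (R ⊗[A] K')) := by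
    intro x
    induction x using TensorProduct.induction_on with
    | zero => rw [map_zero]; exact Submodule.zero_mem _
    | tmul a b =>
      have h1 : ψ (a ⊗ₜ[A] b) = a • ((1 : R) ⊗ₜ[A] (b : K')) := by
        change (algebraMap Ah R a) ⊗ₜ[A] (b : K') = _
        rw [TensorProduct.smul_tmul', Algebra.smul_def, mul_one]
      rw [h1]
      apply Submodule.smul_mem
      have h2 : IsIntegral A ((1 : R) ⊗ₜ[A] (b : K')) :=
        b.2.map (Algebra.TensorProduct.includeRight : K' →ₐ[A] R ⊗[A] K')
      exact h2.tower_top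
    | add x y hx hy => rw [map_add]; exact Submodule.add_mem _ hx hy
  let ψ' : Ah ⊗[A] (integralClosure A K') →ₗ[Ah]
      Subalgebra.toSubmodule (integralClosure Ah (R ⊗[A] K')) :=
    LinearMap.codRestrict _ ψ hψmem
  have hψ'inj : Function.Injective ψ' := by
    intro x y hxy
    apply hψinj
    exact congrArg Subtype.val hxy
  have hfin2 : Module.Finite Ah (Subalgebra.toSubmodule (integralClosure Ah (R ⊗[A] K'))) :=
    hfinIC
  have hfin3 : Module.Finite Ah (Ah ⊗[A] (integralClosure A K')) :=
    Module.Finite.of_injective ψ' hψ'inj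
  exact Module.Finite.of_finite_tensorProduct_of_faithfullyFlat Ah

end Tensor

section Tensor2

variable (A Ah R : Type u) [CommRing A] [IsDomain A] [CommRing Ah] [Algebra A Ah]
  [CommRing R] [Algebra Ah R] [IsFractionRing Ah R] [Algebra A R] [IsScalarTower A Ah R]

/-- `R ⊗_A Frac A` is reduced when `R` is, since it is isomorphic to `R`. -/
theorem isReduced_tensor_fractionRing [Module.Flat A Ah] [IsReduced R] :
    IsReduced (R ⊗[A] FractionRing A) := by
  have hunits : ∀ s : nonZeroDivisors A, IsUnit (algebraMap A R s) := fun s =>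
    isUnit_algebraMap_of_flat A Ah R (s : A) (nonZeroDivisors.coe_ne_zero s)
  let κ : FractionRing A →ₐ[A] R := IsLocalization.liftAlgHom (M := nonZeroDivisors A)
    (f := Algebra.ofId A R) hunits
  let μ : R ⊗[A] FractionRing A →ₐ[A] R :=
    Algebra.TensorProduct.lift (AlgHom.id A R) κ (fun _ _ => Commute.all _ _)
  have hsurj : ∀ t : R ⊗[A] FractionRing A, ∃ r : R, t = r ⊗ₜ[A] (1 : FractionRing A) := by
    intro t
    induction t using TensorProduct.induction_on with
    | zero => exact ⟨0, (TensorProduct.zero_tmul _ _).symm⟩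
    | tmul r c =>
      obtain ⟨r', hr'⟩ := exists_tmul_smul_eq A Ah (FractionRing A) R r c 1
      rw [smul_eq_mul, mul_one] at hr'
      exact ⟨r', hr'⟩
    | add x y hx hy =>
      obtain ⟨r, rfl⟩ := hx
      obtain ⟨r', rfl⟩ := hy
      exact ⟨r + r', (TensorProduct.add_tmul _ _ _).symm⟩
  have hμ : ∀ r : R, μ (r ⊗ₜ[A] (1 : FractionRing A)) = r := by
    intro r
    change (AlgHom.id A R) r * κ 1 = r
    rw [map_one, mul_one]
    rfl
  have hinj : Function.Injective μ := by
    intro x y hxy
    obtain ⟨r, rfl⟩ := hsurj x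
    obtain ⟨r', rfl⟩ := hsurj y
    rw [hμ, hμ] at hxy
    rw [hxy]
  exact isReduced_of_injective μ hinj

end Tensor2

end Groth.Agent.Lib.Helper38.AnUnram
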