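import Mathlib
import Groth.Prelude.Def_Found
import Groth.Agent.Lib.Helper38.AnUnram

set_option autoImplicit false
universe u

namespace Groth.Agent.Lib.Helper38.AnUnramMin

open TensorProduct

/-- In a reduced Noetherian ring, the kernel of a map to a field which factors through the total
fraction ring is a minimal prime. -/
theorem ker_mem_minimalPrimes (Ah R L : Type u) [CommRing Ah] [IsNoetherianRing Ah] [IsReduced Ah]
    [CommRing R] [Algebra Ah R] [IsFractionRing Ah R] [Field L] [Algebra R L] [Algebra Ah L]
    [IsScalarTower Ah R L] :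
    RingHom.ker (algebraMap Ah L) ∈ minimalPrimes Ah := by
  classical
  have hkprime : (RingHom.ker (algebraMap Ah L)).IsPrime := RingHom.ker_isPrime _
  have hfin : (minimalPrimes Ah).Finite := minimalPrimes.finite_of_isNoetherianRing Ah
  have hsub : ((RingHom.ker (algebraMap Ah L) : Ideal Ah) : Set Ah) ⊆
      ⋃ p ∈ ((hfin.toFinset : Finset (Ideal Ah)) : Set (Ideal Ah)), (p : Set Ah) := by
    intro x hx
    have hx0 : algebraMap Ah L x = 0 := hx
    have hnz : x ∉ nonZeroDivisors Ah := by
      intro hmem
      have hu : IsUnit (algebraMap Ah R x) := IsLocalization.map_units R ⟨x, hmem⟩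
      have hu2 : IsUnit (algebraMap Ah L x) := by
        rw [IsScalarTower.algebraMap_apply Ah R L]
        exact hu.map _
      rw [hx0] at hu2
      exact not_isUnit_zero hu2
    rw [mem_nonZeroDivisors_iff_right] at hnz
    push Not at hnz
    obtain ⟨y, hy, hy0⟩ := hnz
    have hynil : y ∉ nilradical Ah := by
      rw [nilradical_eq_zero, Ideal.zero_eq_bot, Ideal.mem_bot]
      exact hy0
    rw [nilradical, ← Ideal.sInf_minimalPrimes, Ideal.mem_sInf] at hynil
    push Not at hynil
    obtain ⟨p, hp, hyp⟩ := hynil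
    have hpprime : p.IsPrime := hp.1.1
    have hxp : x ∈ p := by
      have h0 : x * y ∈ p := by rw [mul_comm, hy]; exact p.zero_mem
      exact (hpprime.mem_or_mem h0).resolve_right hyp
    simp only [Set.mem_iUnion]
    exact ⟨p, by simpa using hp, hxp⟩
  have havoid := (Ideal.subset_union_prime (R := Ah) (s := hfin.toFinset) (f := fun p => p)
    (⊥ : Ideal Ah) (⊥ : Ideal Ah) (by
      intro i hi _ _
      have : i ∈ minimalPrimes Ah := by simpa using hi
      exact this.1.1) (I := RingHom.ker (algebraMap Ah L))).mp hsub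
  obtain ⟨p, hp, hle⟩ := havoid
  have hpmin : p ∈ minimalPrimes Ah := by simpa using hp
  have hge : p ≤ RingHom.ker (algebraMap Ah L) := hpmin.2 ⟨hkprime, bot_le⟩ hle
  have heq : RingHom.ker (algebraMap Ah L) = p := le_antisymm hle hge
  rw [heq]
  exact hpmin

/-- Integral closure in a field finite over the total fraction ring. -/
theorem finite_integralClosure_field (Ah R L : Type u) [CommRing Ah] [IsNoetherianRing Ah]
    [IsReduced Ah]
    (hNag : ∀ (q : Ideal Ah) [q.IsPrime], q ∈ minimalPrimes Ah → CAlg.IsN2 (Ah ⧸ q))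
    [CommRing R] [Algebra Ah R] [IsFractionRing Ah R] [Field L] [Algebra R L] [Algebra Ah L]
    [IsScalarTower Ah R L] [Module.Finite R L] :
    Module.Finite Ah (integralClosure Ah L) := by
  have hqprime : (RingHom.ker (algebraMap Ah L)).IsPrime := RingHom.ker_isPrime _
  let _ : Algebra (Ah ⧸ RingHom.ker (algebraMap Ah L)) L :=
    (RingHom.kerLift (algebraMap Ah L)).toAlgebra
  have hst : IsScalarTower Ah (Ah ⧸ RingHom.ker (algebraMap Ah L)) L :=
    IsScalarTower.of_algebraMap_eq (fun a => rfl)
  have hinj : Function.Injective (algebraMap (Ah ⧸ RingHom.ker (algebraMap Ah L)) L) :=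
    RingHom.kerLift_injective _
  have hfs : FaithfulSMul (Ah ⧸ RingHom.ker (algebraMap Ah L)) L :=
    (faithfulSMul_iff_algebraMap_injective _ _).mpr hinj
  let _ : Algebra (FractionRing (Ah ⧸ RingHom.ker (algebraMap Ah L))) L :=
    FractionRing.liftAlgebra _ _
  have hst2 : IsScalarTower (Ah ⧸ RingHom.ker (algebraMap Ah L))
      (FractionRing (Ah ⧸ RingHom.ker (algebraMap Ah L))) L :=
    FractionRing.isScalarTower_liftAlgebra _ _
  -- the image of `R` in `L` lies in the image of the fraction field
  have hrange : ∀ r : R, ∃ f : FractionRing (Ah ⧸ RingHom.ker (algebraMap Ah L)),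
      algebraMap R L r = algebraMap _ L f := by
    intro r
    obtain ⟨a, s, rfl⟩ := IsLocalization.exists_mk'_eq (nonZeroDivisors Ah) r
    have h1 : algebraMap R L (IsLocalization.mk' R a s) * algebraMap Ah L s = algebraMap Ah L a := by
      rw [IsScalarTower.algebraMap_apply Ah R L, IsScalarTower.algebraMap_apply Ah R L,
        ← map_mul, IsLocalization.mk'_spec]
    have hsu : IsUnit (algebraMap Ah L s) := by
      rw [IsScalarTower.algebraMap_apply Ah R L]
      exact (IsLocalization.map_units R s).map _
    have h2 : ∀ x : Ah, algebraMap Ah L x =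
        algebraMap (FractionRing (Ah ⧸ RingHom.ker (algebraMap Ah L))) L
          (algebraMap _ _ (Ideal.Quotient.mk (RingHom.ker (algebraMap Ah L)) x)) := by
      intro x
      rw [← IsScalarTower.algebraMap_apply (Ah ⧸ RingHom.ker (algebraMap Ah L))
        (FractionRing (Ah ⧸ RingHom.ker (algebraMap Ah L))) L]
      rfl
    refine ⟨algebraMap _ _ (Ideal.Quotient.mk (RingHom.ker (algebraMap Ah L)) a) /
      algebraMap _ _ (Ideal.Quotient.mk (RingHom.ker (algebraMap Ah L)) (s : Ah)), ?_⟩
    rw [map_div₀, ← h2, ← h2, eq_div_iff hsu.ne_zero, h1]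
  have hfd : FiniteDimensional (FractionRing (Ah ⧸ RingHom.ker (algebraMap Ah L))) L := by
    obtain ⟨s, hs⟩ := (Module.Finite.fg_top : (⊤ : Submodule R L).FG)
    refine ⟨⟨s, ?_⟩⟩
    rw [eq_top_iff]
    intro x hxtop
    clear hxtop
    have hx : x ∈ Submodule.span R (s : Set L) := by rw [hs]; trivial
    induction hx using Submodule.span_induction with
    | mem y hy => exact Submodule.subset_span hy
    | zero => exact Submodule.zero_mem _
    | add y z _ _ hy hz => exact Submodule.add_mem _ hy hz
    | smul r y _ hy =>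
      obtain ⟨f, hf⟩ := hrange r
      have : r • y = f • y := by
        rw [Algebra.smul_def, Algebra.smul_def, hf]
      rw [this]
      exact Submodule.smul_mem _ _ hy
  have hfin1 : Module.Finite (Ah ⧸ RingHom.ker (algebraMap Ah L))
      (integralClosure (Ah ⧸ RingHom.ker (algebraMap Ah L)) L) :=
    hNag (RingHom.ker (algebraMap Ah L)) (ker_mem_minimalPrimes Ah R L) L hfd
  have hfin2 : Module.Finite Ah (integralClosure (Ah ⧸ RingHom.ker (algebraMap Ah L)) L) :=
    Module.Finite.trans (Ah ⧸ RingHom.ker (algebraMap Ah L)) _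
  let φ : integralClosure Ah L →ₗ[Ah] integralClosure (Ah ⧸ RingHom.ker (algebraMap Ah L)) L :=
    { toFun := fun x => ⟨x.1, x.2.tower_top⟩
      map_add' := fun _ _ => rfl
      map_smul' := fun _ _ => rfl }
  have hφ : Function.Injective φ := by
    intro x y hxy
    apply Subtype.ext
    have := congrArg Subtype.val hxy
    exact this
  exact Module.Finite.of_injective φ hφ


/-- Integral closure in a reduced finite algebra over the total fraction ring. -/
theorem finite_integralClosure_of_reduced_finite (Ah R T : Type u) [CommRing Ah]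
    [IsNoetherianRing Ah] [IsReduced Ah]
    (hNag : ∀ (q : Ideal Ah) [q.IsPrime], q ∈ minimalPrimes Ah → CAlg.IsN2 (Ah ⧸ q))
    [CommRing R] [Algebra Ah R] [IsFractionRing Ah R] [CommRing T] [Algebra R T] [Algebra Ah T]
    [IsScalarTower Ah R T] [Module.Finite R T] [IsReduced T] :
    Module.Finite Ah (integralClosure Ah T) := by
  have hRart : IsArtinianRing R := Groth.Agent.Lib.Helper38.AnUnram.isArtinianRing_of_isFractionRing Ah R
  have hTart : IsArtinianRing T := IsArtinianRing.of_finite R T
  have hfin : ∀ m : MaximalSpectrum T, Module.Finite Ah (integralClosure Ah (T ⧸ m.asIdeal)) := by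
    intro m
    let _ : Field (T ⧸ m.asIdeal) := Ideal.Quotient.field m.asIdeal
    have : Module.Finite R (T ⧸ m.asIdeal) :=
      Module.Finite.of_surjective (Ideal.Quotient.mkₐ R m.asIdeal).toLinearMap
        (Ideal.Quotient.mkₐ_surjective R m.asIdeal)
    exact finite_integralClosure_field Ah R (T ⧸ m.asIdeal) hNag
  let φ : integralClosure Ah T →ₗ[Ah] (∀ m : MaximalSpectrum T, integralClosure Ah (T ⧸ m.asIdeal)) :=
    { toFun := fun x m => ⟨Ideal.Quotient.mk m.asIdeal x.1,
        x.2.map (Ideal.Quotient.mkₐ Ah m.asIdeal)⟩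
      map_add' := fun _ _ => rfl
      map_smul' := fun _ _ => rfl }
  have hφ : Function.Injective φ := by
    rw [← LinearMap.ker_eq_bot, LinearMap.ker_eq_bot']
    intro x hx
    apply Subtype.ext
    have h1 : ∀ m : MaximalSpectrum T, x.1 ∈ m.asIdeal := by
      intro m
      have := congrArg (fun f => (f m).1) hx
      exact Ideal.Quotient.eq_zero_iff_mem.mp this
    have h2 : x.1 ∈ (⊥ : Ideal T).jacobson := by
      rw [Ideal.jacobson, Ideal.mem_sInf]
      rintro J ⟨-, hJ⟩
      exact h1 ⟨J, hJ⟩
    rw [IsArtinianRing.jacobson_eq_radical] at h2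
    have h3 : IsNilpotent x.1 := h2
    exact h3.eq_zero
  have : Module.Finite Ah (∀ m : MaximalSpectrum T, integralClosure Ah (T ⧸ m.asIdeal)) :=
    Module.Finite.pi
  exact Module.Finite.of_injective φ hφ


end Groth.Agent.Lib.Helper38.AnUnramMin
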