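import Mathlib
import Groth.Prelude.Def_Found
import Groth.Agent.Lib.Helper38.AnUnramMin
import Groth.Agent.Lib.Helper38.Tate

set_option autoImplicit false
set_option linter.unusedSectionVars false
universe u

namespace Groth.Agent.Lib.Helper38.FinSubalg

open TensorProduct

section FiniteTensor

variable (A K' R : Type u) [CommRing A] [IsDomain A] [CommRing R] [Algebra A R]
  [Field K'] [Algebra A K'] [Algebra (FractionRing A) K'] [IsScalarTower A (FractionRing A) K']

theorem exists_tmul_smul_eq (hunits : ∀ s : A, s ≠ 0 → IsUnit (algebraMap A R s))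
    (r : R) (c : FractionRing A) (y : K') :
    ∃ r' : R, r ⊗ₜ[A] (c • y) = r' ⊗ₜ[A] y := by
  obtain ⟨a, s, rfl⟩ := IsLocalization.exists_mk'_eq (nonZeroDivisors A) c
  have hs0 : (s : A) ≠ 0 := nonZeroDivisors.coe_ne_zero s
  obtain ⟨u, hu⟩ := (hunits (s : A) hs0).exists_left_inv
  refine ⟨a • (r * u), ?_⟩
  have h1 : r = (s : A) • (r * u) := by
    rw [Algebra.smul_def, mul_comm, mul_assoc, hu, mul_one]
  have h2 : (s : A) • (IsLocalization.mk' (FractionRing A) a s • y) = a • y := by
    rw [← smul_assoc, Algebra.smul_def (s : A), mul_comm, IsLocalization.mk'_spec,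
      algebraMap_smul]
  conv_lhs => rw [h1]
  rw [TensorProduct.smul_tmul, h2, ← TensorProduct.smul_tmul]

theorem finite_tensor (hunits : ∀ s : A, s ≠ 0 → IsUnit (algebraMap A R s))
    [FiniteDimensional (FractionRing A) K'] :
    Module.Finite R (R ⊗[A] K') := by
  let b := Module.finBasis (FractionRing A) K'
  rw [Module.finite_def]
  have hfg : (Submodule.span R (Set.range fun i => (1 : R) ⊗ₜ[A] b i)).FG :=
    Submodule.fg_span (Set.finite_range _)
  suffices h : Submodule.span R (Set.range fun i => (1 : R) ⊗ₜ[A] b i) = ⊤ by rwa [← h]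
  rw [eq_top_iff]
  intro t ht
  clear ht
  induction t using TensorProduct.induction_on with
  | zero => exact Submodule.zero_mem _
  | tmul r x =>
    rw [← b.sum_repr x, TensorProduct.tmul_sum]
    refine Submodule.sum_mem _ (fun i _ => ?_)
    obtain ⟨r', hr'⟩ := exists_tmul_smul_eq A K' R hunits r (b.repr x i) (b i)
    rw [hr']
    have : r' ⊗ₜ[A] b i = r' • ((1 : R) ⊗ₜ[A] b i) := by
      rw [TensorProduct.smul_tmul', smul_eq_mul, mul_one]
    rw [this]
    apply Submodule.smul_mem
    apply Submodule.subset_span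
    exact ⟨i, rfl⟩
  | add x y hx hy => exact Submodule.add_mem _ hx hy

end FiniteTensor

section Red

variable (B : Type u) [CommRing B] [IsNoetherianRing B]

/-- `B_red`. -/
abbrev Bred : Type u := B ⧸ nilradical B

instance : IsReduced (Bred B) := by
  have : (nilradical B).IsRadical := by
    rw [nilradical]
    exact Ideal.radical_isRadical _
  exact (Ideal.isRadical_iff_quotient_reduced _).mp this

theorem isN2_quotient_bred
    (hJ : ∀ (q : Ideal B) [q.IsPrime], q ∈ minimalPrimes B → CAlg.IsN2 (B ⧸ q))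
    (q : Ideal (Bred B)) [q.IsPrime] (hq : q ∈ minimalPrimes (Bred B)) :
    CAlg.IsN2 (Bred B ⧸ q) := by
  let π := Ideal.Quotient.mk (nilradical B)
  have hπ : Function.Surjective π := Ideal.Quotient.mk_surjective
  have hq'prime : (q.comap π).IsPrime := Ideal.comap_isPrime _ _
  have hq'min : q.comap π ∈ minimalPrimes B := by
    have h1 := Ideal.comap_minimalPrimes_eq_of_surjective hπ (⊥ : Ideal (Bred B))
    have h2 : (⊥ : Ideal (Bred B)).comap π = nilradical B := by
      rw [← RingHom.ker_eq_comap_bot, Ideal.mk_ker]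
    rw [h2] at h1
    have h3 : (nilradical B).minimalPrimes = minimalPrimes B := by
      rw [nilradical, Ideal.radical_minimalPrimes]
      rfl
    rw [← h3, h1]
    exact ⟨q, hq, rfl⟩
  have hN2 := hJ (q.comap π) hq'min
  have hle : nilradical B ≤ q.comap π := by
    intro x hx
    rw [Ideal.mem_comap]
    have : π x = 0 := Ideal.Quotient.eq_zero_iff_mem.mpr hx
    rw [this]
    exact q.zero_mem
  have hmap : (q.comap π).map π = q := Ideal.map_comap_of_surjective π hπ q
  let e : (Bred B ⧸ (q.comap π).map π) ≃+* (B ⧸ q.comap π) :=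
    (DoubleQuot.quotQuotEquivQuotOfLE hle)
  let e2 : (Bred B ⧸ q) ≃+* (Bred B ⧸ (q.comap π).map π) := Ideal.quotEquivOfEq hmap.symm
  exact Groth.Agent.Lib.Helper38.Tate.isN2_of_ringEquiv (e2.trans e).symm hN2

end Red

section Main

variable (A B K' : Type u) [CommRing A] [IsDomain A] [CommRing B] [Algebra A B]
  [IsNoetherianRing B] [Module.Flat A B]
  [Field K'] [Algebra A K'] [Algebra (FractionRing A) K'] [IsScalarTower A (FractionRing A) K']
  [FiniteDimensional (FractionRing A) K']

abbrev RR : Type u := FractionRing (Bred B)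
abbrev T1 : Type u := RR B ⊗[A] K'
abbrev TT : Type u := T1 A B K' ⧸ nilradical (T1 A B K')

/-- The comparison map `C ⊗_A B → ((Frac B_red) ⊗_A K')_red`. -/
noncomputable def Psi (C : Subalgebra A K') : C ⊗[A] B →ₐ[A] TT A B K' :=
  (Ideal.Quotient.mkₐ A (nilradical (T1 A B K'))).comp
    ((Algebra.TensorProduct.map (IsScalarTower.toAlgHom A B (RR B)) (AlgHom.id A K')).comp
      ((Algebra.TensorProduct.comm A K' B).toAlgHom.comp
        (Algebra.TensorProduct.map C.val (AlgHom.id A B))))

theorem Psi_tmul (C : Subalgebra A K') (c : C) (b : B) :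
    Psi A B K' C (c ⊗ₜ[A] b) =
      Ideal.Quotient.mk (nilradical (T1 A B K')) ((algebraMap B (RR B) b) ⊗ₜ[A] (c : K')) := rfl

theorem Psi_compat (Cα C : Subalgebra A K') (hle : Cα ≤ C) (x : Cα ⊗[A] B) :
    Psi A B K' C (Algebra.TensorProduct.map (Subalgebra.inclusion hle) (AlgHom.id A B) x) =
      Psi A B K' Cα x := by
  induction x using TensorProduct.induction_on with
  | zero => simp
  | tmul c b => rfl
  | add x y hx hy => rw [map_add, map_add, map_add, hx, hy]

theorem algebraMap_mul_Psi (C : Subalgebra A K') (b : B) (x : C ⊗[A] B) :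
    algebraMap B (TT A B K') b * Psi A B K' C x = Psi A B K' C (((1 : C) ⊗ₜ[A] b) * x) := by
  rw [map_mul]
  congr 1

theorem isIntegral_Psi (C : Subalgebra A K') [Module.Finite A C] (y : C ⊗[A] B) :
    Psi A B K' C y ∈ integralClosure (Bred B) (TT A B K') := by
  induction y using TensorProduct.induction_on with
  | zero => rw [map_zero]; exact Subalgebra.zero_mem _
  | tmul c b =>
    have h1 : c ⊗ₜ[A] b = (c ⊗ₜ[A] (1 : B)) * ((1 : C) ⊗ₜ[A] b) := by
      rw [Algebra.TensorProduct.tmul_mul_tmul, mul_one, one_mul]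
    rw [h1, map_mul]
    refine Subalgebra.mul_mem _ ?_ ?_
    · have hc : IsIntegral A c := IsIntegral.of_finite A c
      have h2 : IsIntegral A (Psi A B K' C (c ⊗ₜ[A] (1 : B))) :=
        hc.map ((Psi A B K' C).comp (Algebra.TensorProduct.includeLeft : C →ₐ[A] C ⊗[A] B))
      exact IsIntegral.tower_top (R := A) (A := Bred B) h2
    · have h3 : Psi A B K' C ((1 : C) ⊗ₜ[A] b) = algebraMap (Bred B) (TT A B K')
          (Ideal.Quotient.mk (nilradical B) b) := by
        rw [Psi_tmul, IsScalarTower.algebraMap_apply (Bred B) (RR B) (TT A B K')]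
        rfl
      rw [h3]
      exact Subalgebra.algebraMap_mem _ _
  | add x y hx hy => rw [map_add]; exact Subalgebra.add_mem _ hx hy


theorem isNilpotent_of_Psi_eq_zero (C : Subalgebra A K') (z : C ⊗[A] B)
    (hz : Psi A B K' C z = 0) : IsNilpotent z := by
  have hflatK' : Module.Flat A K' := Module.Flat.trans A (FractionRing A) K'
  let j₁ : C ⊗[A] B →ₐ[A] K' ⊗[A] B := Algebra.TensorProduct.map C.val (AlgHom.id A B)
  have hj₁ : Function.Injective j₁ :=
    Module.Flat.rTensor_preserves_injective_linearMap (M := B) C.val.toLinearMap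
      Subtype.val_injective
  let j₂ := Algebra.TensorProduct.comm A K' B
  let π : B →ₐ[A] Bred B := Ideal.Quotient.mkₐ A (nilradical B)
  have hπ : Function.Surjective π := Ideal.Quotient.mkₐ_surjective A _
  let ι₂ : Bred B →ₐ[A] RR B := IsScalarTower.toAlgHom A (Bred B) (RR B)
  have hι₂ : Function.Injective ι₂ := IsFractionRing.injective (Bred B) (RR B)
  let m₁ : B ⊗[A] K' →ₐ[A] Bred B ⊗[A] K' := Algebra.TensorProduct.map π (AlgHom.id A K')
  let m₂ : Bred B ⊗[A] K' →ₐ[A] RR B ⊗[A] K' := Algebra.TensorProduct.map ι₂ (AlgHom.id A K')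
  have hm₂ : Function.Injective m₂ :=
    Module.Flat.rTensor_preserves_injective_linearMap (M := K') ι₂.toLinearMap hι₂
  have hfac : ∀ z : C ⊗[A] B, Psi A B K' C z =
      Ideal.Quotient.mk (nilradical (T1 A B K')) (m₂ (m₁ (j₂ (j₁ z)))) := by
    intro z
    induction z using TensorProduct.induction_on with
    | zero => simp
    | tmul c b => rfl
    | add x y hx hy => simp only [map_add, hx, hy]
  rw [hfac, Ideal.Quotient.eq_zero_iff_mem] at hz
  obtain ⟨n, hn⟩ := hz
  rw [← map_pow, ← map_pow] at hn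
  have h1 : m₁ ((j₂ (j₁ z)) ^ n) = 0 := hm₂ (by rw [hn, map_zero])
  have h2 : (j₂ (j₁ z)) ^ n ∈ RingHom.ker (Algebra.TensorProduct.map π (AlgHom.id A K')) := h1
  rw [Algebra.TensorProduct.rTensor_ker π hπ] at h2
  have hkerπ : RingHom.ker π = nilradical B := by
    ext x
    rw [RingHom.mem_ker]
    exact Ideal.Quotient.eq_zero_iff_mem
  rw [hkerπ] at h2
  have h3 : (nilradical B).map (Algebra.TensorProduct.includeLeft : B →ₐ[A] B ⊗[A] K') ≤
      nilradical (B ⊗[A] K') := by
    rw [Ideal.map_le_iff_le_comap]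
    intro x hx
    exact IsNilpotent.map hx _
  have h4 : IsNilpotent ((j₂ (j₁ z)) ^ n) := h3 h2
  obtain ⟨m, hm⟩ := h4
  rw [← pow_mul, ← map_pow, ← map_pow] at hm
  have h5 : j₁ (z ^ (n * m)) = 0 := j₂.injective (by rw [hm, map_zero])
  exact ⟨n * m, hj₁ (by rw [h5, map_zero])⟩


theorem isUnit_algebraMap_RR (s : A) (hs : s ≠ 0) : IsUnit (algebraMap A (RR B) s) := by
  have h1 : IsSMulRegular A s := (IsRegular.of_ne_zero hs).left.isSMulRegular
  have h2 : IsSMulRegular B (algebraMap A B s) := IsSMulRegular.of_flat h1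
  have hreg : ∀ (m : ℕ) (y : B), (algebraMap A B s) ^ m * y = 0 → y = 0 := by
    intro m
    induction m with
    | zero => intro y hy; simpa using hy
    | succ m ih =>
      intro y hy
      rw [pow_succ, mul_assoc] at hy
      have h3 := ih _ hy
      apply h2
      change algebraMap A B s • y = algebraMap A B s • 0
      rw [smul_zero, smul_eq_mul]
      exact h3
  have h3 : algebraMap A (Bred B) s ∈ nonZeroDivisors (Bred B) := by
    rw [mem_nonZeroDivisors_iff_right]
    intro z hz
    obtain ⟨y, rfl⟩ := Ideal.Quotient.mk_surjective z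
    rw [IsScalarTower.algebraMap_apply A B (Bred B), Ideal.Quotient.algebraMap_eq, ← map_mul,
      Ideal.Quotient.eq_zero_iff_mem] at hz
    rw [Ideal.Quotient.eq_zero_iff_mem]
    obtain ⟨m, hm⟩ := hz
    rw [mul_pow, mul_comm] at hm
    exact ⟨m, hreg m _ hm⟩
  rw [IsScalarTower.algebraMap_apply A (Bred B) (RR B)]
  exact IsLocalization.map_units (RR B) ⟨_, h3⟩

instance isReduced_TT : IsReduced (TT A B K') := by
  have : (nilradical (T1 A B K')).IsRadical := Ideal.radical_isRadical (0 : Ideal (T1 A B K'))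
  exact (Ideal.isRadical_iff_quotient_reduced _).mp this

theorem finite_integralClosure_TT
    (hJ : ∀ (q : Ideal B) [q.IsPrime], q ∈ minimalPrimes B → CAlg.IsN2 (B ⧸ q)) :
    Module.Finite (Bred B) (integralClosure (Bred B) (TT A B K')) := by
  have hfin1 : Module.Finite (RR B) (T1 A B K') :=
    finite_tensor A K' (RR B) (isUnit_algebraMap_RR A B)
  have hfin2 : Module.Finite (RR B) (TT A B K') :=
    Module.Finite.of_surjective (Ideal.Quotient.mkₐ (RR B) (nilradical (T1 A B K'))).toLinearMap
      (Ideal.Quotient.mkₐ_surjective (RR B) _)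
  exact Groth.Agent.Lib.Helper38.AnUnramMin.finite_integralClosure_of_reduced_finite (Bred B)
    (RR B) (TT A B K') (fun q _ hq => isN2_quotient_bred B hJ q hq)


/-- The family of finite subalgebras with fraction field `K'`. -/
def PP (C : Subalgebra A K') : Prop :=
  Module.Finite A C ∧ ∀ x : K', ∃ a b : C, (b : K') ≠ 0 ∧ x * b = a

theorem range_Psi_smul_mem (C : Subalgebra A K') (t : TT A B K')
    (ht : t ∈ Submodule.span B (Set.range (Psi A B K' C))) : t ∈ Set.range (Psi A B K' C) := by
  induction ht using Submodule.span_induction with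
  | mem x hx => exact hx
  | zero => exact ⟨0, map_zero _⟩
  | add x y _ _ hx hy =>
    obtain ⟨x', rfl⟩ := hx
    obtain ⟨y', rfl⟩ := hy
    exact ⟨x' + y', map_add _ _ _⟩
  | smul b x _ hx =>
    obtain ⟨x', rfl⟩ := hx
    exact ⟨((1 : C) ⊗ₜ[A] b) * x', by rw [← algebraMap_mul_Psi, Algebra.smul_def]⟩

theorem exists_stable
    (hJ : ∀ (q : Ideal B) [q.IsPrime], q ∈ minimalPrimes B → CAlg.IsN2 (B ⧸ q))
    (C₀ : Subalgebra A K') (hC₀ : PP A K' C₀) :
    ∃ Cα : Subalgebra A K', PP A K' Cα ∧ ∀ C : Subalgebra A K', PP A K' C → ∀ hle : Cα ≤ C,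
      ∀ y : C ⊗[A] B, ∃ x : Cα ⊗[A] B,
        IsNilpotent (Algebra.TensorProduct.map (Subalgebra.inclusion hle) (AlgHom.id A B) x - y) := by
  have hfinN := finite_integralClosure_TT A B K' hJ
  let NB : Submodule B (TT A B K') :=
    (Subalgebra.toSubmodule (integralClosure (Bred B) (TT A B K'))).restrictScalars B
  have hst : IsScalarTower B (Bred B) (integralClosure (Bred B) (TT A B K')) :=
    ⟨fun b r x => Subtype.ext (smul_assoc b r (x : TT A B K'))⟩
  have hfinN' : Module.Finite B (integralClosure (Bred B) (TT A B K')) :=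
    Module.Finite.trans (Bred B) (integralClosure (Bred B) (TT A B K'))
  let eN : (integralClosure (Bred B) (TT A B K')) ≃ₗ[B] NB :=
    { toFun := fun x => ⟨x.1, x.2⟩
      invFun := fun x => ⟨x.1, x.2⟩
      map_add' := fun _ _ => rfl
      map_smul' := fun _ _ => rfl
      left_inv := fun _ => rfl
      right_inv := fun _ => rfl }
  have hfinNB : Module.Finite B NB := Module.Finite.equiv eN
  have hnoeth : IsNoetherian B NB := isNoetherian_of_isNoetherianRing_of_finite B NB
  let M : Subalgebra A K' → Submodule B (TT A B K') :=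
    fun C => Submodule.span B (Set.range (Psi A B K' C))
  have hMle : ∀ C, PP A K' C → M C ≤ NB := by
    intro C hC
    have := hC.1
    rw [Submodule.span_le]
    rintro _ ⟨y, rfl⟩
    exact isIntegral_Psi A B K' C y
  let 𝓕 : Set (Submodule B NB) := {S | ∃ C, PP A K' C ∧ S = Submodule.comap NB.subtype (M C)}
  have hne : 𝓕.Nonempty := ⟨_, C₀, hC₀, rfl⟩
  have hwf : WellFounded ((· > ·) : Submodule B NB → Submodule B NB → Prop) :=
    (isNoetherian_iff'.mp hnoeth).wf
  obtain ⟨S, ⟨Cα, hCα, rfl⟩, hmax⟩ := hwf.has_min 𝓕 hne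
  refine ⟨Cα, hCα, ?_⟩
  intro C hC hle y
  have hmono : M Cα ≤ M C := by
    apply Submodule.span_mono
    rintro _ ⟨x, rfl⟩
    exact ⟨_, Psi_compat A B K' Cα C hle x⟩
  have h1 : Submodule.comap NB.subtype (M Cα) ≤ Submodule.comap NB.subtype (M C) :=
    Submodule.comap_mono hmono
  have h2 : Submodule.comap NB.subtype (M C) = Submodule.comap NB.subtype (M Cα) := by
    by_contra hne'
    exact hmax _ ⟨C, hC, rfl⟩ (lt_of_le_of_ne h1 (Ne.symm hne'))
  have h3 : M C = M Cα := by
    have e1 := Submodule.map_comap_subtype NB (M C)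
    have e2 := Submodule.map_comap_subtype NB (M Cα)
    rw [inf_eq_right.mpr (hMle C hC)] at e1
    rw [inf_eq_right.mpr (hMle Cα hCα)] at e2
    rw [← e1, ← e2, h2]
  have h4 : Psi A B K' C y ∈ M Cα := by
    rw [← h3]
    exact Submodule.subset_span ⟨y, rfl⟩
  obtain ⟨x, hx⟩ := range_Psi_smul_mem A B K' Cα _ h4
  refine ⟨x, ?_⟩
  apply isNilpotent_of_Psi_eq_zero A B K' C
  rw [map_sub, Psi_compat, hx, sub_self]

end Main

end Groth.Agent.Lib.Helper38.FinSubalg
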