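import Mathlib
import Groth.Agent.Lib.Helper38.FinSubalg

set_option autoImplicit false
set_option linter.unusedSectionVars false
universe u

namespace Groth.Agent.Lib.Helper38.FinSubalg

open TensorProduct AlgebraicGeometry CategoryTheory



section Exists

variable (A K' : Type u) [CommRing A] [IsDomain A]
  [Field K'] [Algebra A K'] [Algebra (FractionRing A) K'] [IsScalarTower A (FractionRing A) K']
  [FiniteDimensional (FractionRing A) K']

theorem algebraMap_injective_K' : Function.Injective (algebraMap A K') := by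
  rw [IsScalarTower.algebraMap_eq A (FractionRing A) K']
  exact (algebraMap (FractionRing A) K').injective.comp (IsFractionRing.injective A _)

theorem exists_PP : ∃ C₀ : Subalgebra A K', PP A K' C₀ := by
  classical
  let b := Module.finBasis (FractionRing A) K'
  let s : Finset K' := Finset.univ.image b
  obtain ⟨y, hy0, hy⟩ := exists_integral_multiples A (FractionRing A) s
  let gens : Set K' := (fun x => y • x) '' (s : Set K')
  have hfin : gens.Finite := (Finset.finite_toSet s).image _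
  have hint : ∀ x ∈ gens, IsIntegral A x := by
    rintro _ ⟨x, hx, rfl⟩
    exact hy x hx
  have hfg := fg_adjoin_of_finite hfin hint
  have hfinC : Module.Finite A (Algebra.adjoin A gens) := Module.Finite.iff_fg.mpr hfg
  refine ⟨Algebra.adjoin A gens, hfinC, ?_⟩
  -- every element has a multiple in C₀
  have hW : ∀ x : K', ∃ d : A, d ≠ 0 ∧ d • x ∈ Algebra.adjoin A gens := by
    intro x
    have hbi : ∀ i, ∃ d : A, d ≠ 0 ∧ d • (b i) ∈ Algebra.adjoin A gens := by
      intro i
      refine ⟨y, hy0, Algebra.subset_adjoin ⟨b i, ?_, rfl⟩⟩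
      exact Finset.mem_coe.mpr (Finset.mem_image_of_mem _ (Finset.mem_univ i))
    have hsmul : ∀ (k : FractionRing A) (z : K'),
        (∃ d : A, d ≠ 0 ∧ d • z ∈ Algebra.adjoin A gens) →
        ∃ d : A, d ≠ 0 ∧ d • (k • z) ∈ Algebra.adjoin A gens := by
      intro k z ⟨d, hd0, hd⟩
      obtain ⟨n, t, rfl⟩ := IsLocalization.exists_mk'_eq (nonZeroDivisors A) k
      refine ⟨(t : A) * d, mul_ne_zero (nonZeroDivisors.coe_ne_zero t) hd0, ?_⟩
      have h1 : ((t : A) * d) • (IsLocalization.mk' (FractionRing A) n t • z) = n • (d • z) := by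
        rw [mul_smul, smul_comm d, ← smul_assoc (t : A), Algebra.smul_def (t : A), mul_comm,
          IsLocalization.mk'_spec, algebraMap_smul, smul_comm]
      rw [h1]
      exact Subalgebra.smul_mem _ hd n
    have hadd : ∀ (z w : K'), (∃ d : A, d ≠ 0 ∧ d • z ∈ Algebra.adjoin A gens) →
        (∃ d : A, d ≠ 0 ∧ d • w ∈ Algebra.adjoin A gens) →
        ∃ d : A, d ≠ 0 ∧ d • (z + w) ∈ Algebra.adjoin A gens := by
      intro z w ⟨d, hd0, hd⟩ ⟨e, he0, he⟩
      refine ⟨d * e, mul_ne_zero hd0 he0, ?_⟩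
      rw [smul_add]
      refine Subalgebra.add_mem _ ?_ ?_
      · rw [mul_comm, mul_smul]
        exact Subalgebra.smul_mem _ hd e
      · rw [mul_smul]
        exact Subalgebra.smul_mem _ he d
    rw [← b.sum_repr x]
    refine Finset.sum_induction _ (fun z => ∃ d : A, d ≠ 0 ∧ d • z ∈ Algebra.adjoin A gens)
      hadd ⟨1, one_ne_zero, by rw [smul_zero]; exact Subalgebra.zero_mem _⟩ ?_
    intro i _
    exact hsmul _ _ (hbi i)
  intro x
  obtain ⟨d, hd0, hd⟩ := hW x
  refine ⟨⟨d • x, hd⟩, ⟨algebraMap A K' d, Subalgebra.algebraMap_mem _ d⟩, ?_, ?_⟩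
  · show algebraMap A K' d ≠ 0
    rw [Ne, map_eq_zero_iff _ (algebraMap_injective_K' A K')]
    exact hd0
  · show x * algebraMap A K' d = d • x
    rw [Algebra.smul_def, mul_comm]

end Exists




theorem universallyInjective_of_ringHom_ext {R S : Type u} [CommRing R] [CommRing S] (φ : R →+* S)
    (h : ∀ (Ω : Type u) [Field Ω] (γ₁ γ₂ : S →+* Ω), γ₁.comp φ = γ₂.comp φ → γ₁ = γ₂) :
    UniversallyInjective (Spec.map (CommRingCat.ofHom φ)) := by
  refine ((tfae_universallyInjective (Spec.map (CommRingCat.ofHom φ))).out 0 1).mpr ?_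
  intro Ω _ g₁ g₂ hg
  have hg' : g₁ ≫ Spec.map (CommRingCat.ofHom φ) = g₂ ≫ Spec.map (CommRingCat.ofHom φ) := hg
  rw [← Spec.map_preimage g₁, ← Spec.map_preimage g₂, ← Spec.map_comp, ← Spec.map_comp] at hg'
  have h1 := Spec.map_injective hg'
  have h2 : (Spec.preimage g₁).hom.comp φ = (Spec.preimage g₂).hom.comp φ := by
    have := congrArg CommRingCat.Hom.hom h1
    exact this
  have h3 := h Ω _ _ h2
  have h4 : Spec.preimage g₁ = Spec.preimage g₂ := CommRingCat.hom_ext h3
  rw [← Spec.map_preimage g₁, ← Spec.map_preimage g₂, h4]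




section PartA

variable (A B K' : Type u) [CommRing A] [CommRing B] [Algebra A B] [Module.Flat A B]
  [CommRing K'] [Algebra A K']

theorem map_inclusion_injective (Cα C : Subalgebra A K') (hle : Cα ≤ C) :
    Function.Injective
      (Algebra.TensorProduct.map (Subalgebra.inclusion hle) (AlgHom.id A B)) := by
  have hinj : Function.Injective (Subalgebra.inclusion hle).toLinearMap :=
    Subalgebra.inclusion_injective hle
  have h1 := Module.Flat.rTensor_preserves_injective_linearMap (M := B)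
    (Subalgebra.inclusion hle).toLinearMap hinj
  have h2 : ∀ x : Cα ⊗[A] B,
      Algebra.TensorProduct.map (Subalgebra.inclusion hle) (AlgHom.id A B) x =
        (Subalgebra.inclusion hle).toLinearMap.rTensor B x := by
    intro x
    induction x with
    | zero => simp
    | tmul c b => rfl
    | add x y hx hy => rw [map_add, map_add, hx, hy]
  intro x y hxy
  apply h1
  rw [← h2, ← h2, hxy]

theorem isNilpotent_of_map_inclusion (Cα C : Subalgebra A K') (hle : Cα ≤ C) (x : Cα ⊗[A] B)
    (hx : IsNilpotent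
      (Algebra.TensorProduct.map (Subalgebra.inclusion hle) (AlgHom.id A B) x)) :
    IsNilpotent x :=
  (IsNilpotent.map_iff (map_inclusion_injective A B K' Cα C hle)).mp hx

end PartA

section Radicial

/-- Abstract core: if `y = z ⊗ 1` differs from the image of some `x` by a nilpotent, then two
`A`-algebra maps into a field agreeing on `Cα` agree on `z`. -/
theorem eq_of_nilpotent_sub {A B C Cα Ω : Type u} [CommRing A] [CommRing B] [Algebra A B]
    [Module.FaithfullyFlat A B]
    [CommRing C] [Algebra A C] [CommRing Cα] [Algebra A Cα] (f : Cα →ₐ[A] C) [Field Ω] [Algebra A Ω]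
    (g₁ g₂ : C →ₐ[A] Ω) (hg : g₁.comp f = g₂.comp f) (z : C)
    (hy : ∃ x : Cα ⊗[A] B,
      IsNilpotent (Algebra.TensorProduct.map f (AlgHom.id A B) x - z ⊗ₜ[A] (1 : B))) :
    g₁ z = g₂ z := by
  classical
  -- the field Ω' = (Ω ⊗ B) / m
  have hnt : Nontrivial (Ω ⊗[A] B) := Module.FaithfullyFlat.rTensor_nontrivial A B Ω
  obtain ⟨m, hm⟩ := Ideal.exists_maximal (Ω ⊗[A] B)
  let _ : Field ((Ω ⊗[A] B) ⧸ m) := Ideal.Quotient.field m
  let ι : Ω →ₐ[A] (Ω ⊗[A] B) ⧸ m :=
    (Ideal.Quotient.mkₐ A m).comp Algebra.TensorProduct.includeLeft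
  let hB : B →ₐ[A] (Ω ⊗[A] B) ⧸ m :=
    (Ideal.Quotient.mkₐ A m).comp Algebra.TensorProduct.includeRight
  have hιinj : Function.Injective ι := (ι : Ω →+* (Ω ⊗[A] B) ⧸ m).injective
  let G₁ : C ⊗[A] B →ₐ[A] (Ω ⊗[A] B) ⧸ m :=
    Algebra.TensorProduct.lift (ι.comp g₁) hB (fun _ _ => Commute.all _ _)
  let G₂ : C ⊗[A] B →ₐ[A] (Ω ⊗[A] B) ⧸ m :=
    Algebra.TensorProduct.lift (ι.comp g₂) hB (fun _ _ => Commute.all _ _)
  obtain ⟨x, hx⟩ := hy
  have hcomp : G₁.comp (Algebra.TensorProduct.map f (AlgHom.id A B)) =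
      G₂.comp (Algebra.TensorProduct.map f (AlgHom.id A B)) := by
    apply Algebra.TensorProduct.ext'
    intro c b
    have hc : g₁ (f c) = g₂ (f c) := congrArg (fun φ => φ c) hg
    simp only [AlgHom.comp_apply, Algebra.TensorProduct.map_tmul, AlgHom.id_apply, G₁, G₂,
      Algebra.TensorProduct.lift_tmul, hc]
  have h1 : G₁ (Algebra.TensorProduct.map f (AlgHom.id A B) x - z ⊗ₜ[A] (1 : B)) = 0 :=
    (hx.map G₁).eq_zero
  have h2 : G₂ (Algebra.TensorProduct.map f (AlgHom.id A B) x - z ⊗ₜ[A] (1 : B)) = 0 :=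
    (hx.map G₂).eq_zero
  rw [map_sub, sub_eq_zero] at h1 h2
  have h3 : G₁ (z ⊗ₜ[A] (1 : B)) = G₂ (z ⊗ₜ[A] (1 : B)) := by
    rw [← h1, ← h2]
    exact congrArg (fun φ => φ x) hcomp
  simp only [G₁, G₂, Algebra.TensorProduct.lift_tmul, map_one, mul_one, AlgHom.comp_apply] at h3
  exact hιinj h3

end Radicial

end Groth.Agent.Lib.Helper38.FinSubalg
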