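import Mathlib
import Groth.Agent.Lib.Helper38.FinSubalg
import Groth.Agent.Lib.Helper38.FinSubalg2

set_option autoImplicit false
set_option linter.unusedSectionVars false
universe u

namespace Groth.Agent.Lib.Helper38.FinSubalg

open TensorProduct AlgebraicGeometry

section Final

variable (A B K' : Type u) [CommRing A] [IsDomain A] [CommRing B] [Algebra A B]
  [Field K'] [Algebra A K'] [Algebra (FractionRing A) K'] [IsScalarTower A (FractionRing A) K']
  [FiniteDimensional (FractionRing A) K']

theorem ringHom_ext_of_stable [Module.FaithfullyFlat A B]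
    (Cα : Subalgebra A K') (hCα : PP A K' Cα)
    (hst : ∀ C : Subalgebra A K', PP A K' C → ∀ hle : Cα ≤ C, ∀ y : C ⊗[A] B,
      ∃ x : Cα ⊗[A] B,
        IsNilpotent (Algebra.TensorProduct.map (Subalgebra.inclusion hle) (AlgHom.id A B) x - y))
    (hint : Cα ≤ integralClosure A K') (Ω : Type u) [Field Ω]
    (γ₁ γ₂ : integralClosure A K' →+* Ω)
    (hγ : γ₁.comp (Subalgebra.inclusion hint).toRingHom =
      γ₂.comp (Subalgebra.inclusion hint).toRingHom) : γ₁ = γ₂ := by
  classical
  refine RingHom.ext (fun z => ?_)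
  let C : Subalgebra A K' := Cα ⊔ Algebra.adjoin A {(z : K')}
  have hle : Cα ≤ C := le_sup_left
  have hzC : (z : K') ∈ C :=
    (le_sup_right : Algebra.adjoin A {(z : K')} ≤ C) (Algebra.subset_adjoin rfl)
  have hC' : C ≤ integralClosure A K' :=
    sup_le hint (Algebra.adjoin_le (by rintro _ rfl; exact z.2))
  have hfinα := hCα.1
  have hfinz : Module.Finite A (Algebra.adjoin A {(z : K')}) :=
    Module.Finite.iff_fg.mpr (IsIntegral.fg_adjoin_singleton z.2)
  have hPC : PP A K' C := ⟨Subalgebra.finite_sup _ _, fun x => by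
    obtain ⟨a, b, hb, hab⟩ := hCα.2 x
    exact ⟨Subalgebra.inclusion hle a, Subalgebra.inclusion hle b, hb, hab⟩⟩
  let _ : Algebra A Ω := (γ₁.comp (algebraMap A (integralClosure A K'))).toAlgebra
  have hγ' : ∀ c : Cα, γ₁ (Subalgebra.inclusion hint c) = γ₂ (Subalgebra.inclusion hint c) :=
    fun c => congrArg (fun φ => φ c) hγ
  let g₁ : C →ₐ[A] Ω :=
    { toRingHom := γ₁.comp (Subalgebra.inclusion hC').toRingHom
      commutes' := fun a => rfl }
  let g₂ : C →ₐ[A] Ω :=
    { toRingHom := γ₂.comp (Subalgebra.inclusion hC').toRingHom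
      commutes' := fun a => by
        have h := hγ' (algebraMap A Cα a)
        show γ₂ (Subalgebra.inclusion hC' (algebraMap A C a)) =
          γ₁ (algebraMap A (integralClosure A K') a)
        have e1 : Subalgebra.inclusion hint (algebraMap A Cα a) =
            algebraMap A (integralClosure A K') a := Subtype.ext rfl
        have e2 : Subalgebra.inclusion hC' (algebraMap A C a) =
            algebraMap A (integralClosure A K') a := Subtype.ext rfl
        rw [e2, ← e1, h] }
  have hg : g₁.comp (Subalgebra.inclusion hle) = g₂.comp (Subalgebra.inclusion hle) := by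
    refine AlgHom.ext (fun c => ?_)
    show γ₁ (Subalgebra.inclusion hC' (Subalgebra.inclusion hle c)) =
      γ₂ (Subalgebra.inclusion hC' (Subalgebra.inclusion hle c))
    have e : Subalgebra.inclusion hC' (Subalgebra.inclusion hle c) = Subalgebra.inclusion hint c :=
      Subtype.ext rfl
    rw [e, hγ' c]
  have key := eq_of_nilpotent_sub (B := B) (Subalgebra.inclusion hle) g₁ g₂ hg ⟨z, hzC⟩
    (hst C hPC hle _)
  have e3 : Subalgebra.inclusion hC' ⟨(z : K'), hzC⟩ = z := Subtype.ext rfl
  have key' : γ₁ (Subalgebra.inclusion hC' ⟨(z : K'), hzC⟩) =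
      γ₂ (Subalgebra.inclusion hC' ⟨(z : K'), hzC⟩) := key
  rwa [e3] at key'

theorem main [IsNoetherianRing B] [Module.Flat A B]
    (hJ : ∀ (q : Ideal B) [q.IsPrime], q ∈ minimalPrimes B → CAlg.IsN2 (B ⧸ q)) :
    ∃ Cα : Subalgebra A K', PP A K' Cα ∧
      (∀ C : Subalgebra A K', PP A K' C → ∀ hle : Cα ≤ C,
        (∀ x : ↥Cα ⊗[A] B,
          IsNilpotent (Algebra.TensorProduct.map (Subalgebra.inclusion hle) (AlgHom.id A B) x) →
          IsNilpotent x) ∧
        (∀ y : ↥C ⊗[A] B, ∃ x : ↥Cα ⊗[A] B,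
          IsNilpotent
            (Algebra.TensorProduct.map (Subalgebra.inclusion hle) (AlgHom.id A B) x - y))) ∧
      (Module.FaithfullyFlat A B → ∀ hint : Cα ≤ integralClosure A K',
        UniversallyInjective
          (Spec.map (CommRingCat.ofHom (Subalgebra.inclusion hint).toRingHom))) := by
  obtain ⟨C₀, hC₀⟩ := exists_PP A K'
  obtain ⟨Cα, hCα, hst⟩ := exists_stable A B K' hJ C₀ hC₀
  refine ⟨Cα, hCα, fun C hC hle => ⟨fun x hx => ?_, hst C hC hle⟩, fun hff hint => ?_⟩
  · exact isNilpotent_of_map_inclusion A B K' Cα C hle x hx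
  · apply universallyInjective_of_ringHom_ext
    intro Ω _ γ₁ γ₂ hγ
    exact ringHom_ext_of_stable A B K' Cα hCα hst hint Ω γ₁ γ₂ hγ

end Final

end Groth.Agent.Lib.Helper38.FinSubalg
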