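import Mathlib
import Groth.Agent.Lib.Helper38.FinSubalg3
import Groth.Agent.Lib.Helper38.ComplNagata
import Groth.Agent.S0543

set_option autoImplicit false
set_option linter.unusedSectionVars false
universe u

namespace Groth.Agent.Lib.Helper38.IntClosMax

open TensorProduct AlgebraicGeometry IsLocalRing
open Groth.Agent.Lib.Helper38.FinSubalg

/-- A finite algebra over a local ring has finitely many maximal ideals. -/
theorem finite_maximalSpectrum_of_finite (A : Type u) [CommRing A] [IsLocalRing A]
    (B : Type u) [CommRing B] [Algebra A B] [Module.Finite A B] :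
    Finite (MaximalSpectrum B) := by
  let I : Ideal B := (maximalIdeal A).map (algebraMap A B)
  let k := A ⧸ maximalIdeal A
  let _ : Field k := Ideal.Quotient.field (maximalIdeal A)
  have hfin : Module.Finite k (B ⧸ I) := by
    have h1 : Module.Finite A (B ⧸ I) := Module.Finite.of_surjective
      (Ideal.Quotient.mkₐ A I).toLinearMap Ideal.Quotient.mk_surjective
    exact Module.Finite.of_restrictScalars_finite A k (B ⧸ I)
  have hart : IsArtinianRing (B ⧸ I) := IsArtinianRing.of_finite k (B ⧸ I)
  have hint : Algebra.IsIntegral A B := Algebra.IsIntegral.of_finite A B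
  have hle : ∀ M : MaximalSpectrum B, I ≤ M.asIdeal := by
    intro M
    have := M.isMaximal
    have hmax : (M.asIdeal.comap (algebraMap A B)).IsMaximal :=
      Ideal.isMaximal_comap_of_isIntegral_of_isMaximal M.asIdeal
    rw [Ideal.map_le_iff_le_comap, IsLocalRing.eq_maximalIdeal hmax]
  let φ : MaximalSpectrum B → MaximalSpectrum (B ⧸ I) :=
    fun M => ⟨M.asIdeal.map (Ideal.Quotient.mk _),
      Ideal.IsMaximal.map_of_surjective_of_ker_le Ideal.Quotient.mk_surjective
        (by rw [Ideal.mk_ker]; exact hle M)⟩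
  refine Finite.of_injective φ ?_
  intro M M' hMM'
  have h1 : M.asIdeal.map (Ideal.Quotient.mk I) = M'.asIdeal.map (Ideal.Quotient.mk I) :=
    congrArg MaximalSpectrum.asIdeal hMM'
  have h2 := congrArg (Ideal.comap (Ideal.Quotient.mk I)) h1
  rw [Ideal.comap_map_of_surjective _ Ideal.Quotient.mk_surjective,
    Ideal.comap_map_of_surjective _ Ideal.Quotient.mk_surjective, ← RingHom.ker_eq_comap_bot,
    Ideal.mk_ker, sup_eq_left.mpr (hle M), sup_eq_left.mpr (hle M')] at h2
  exact MaximalSpectrum.ext h2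


section Main

variable (A K' : Type u) [CommRing A] [IsDomain A] [IsLocalRing A] [IsNoetherianRing A]
  [Field K'] [Algebra A K'] [Algebra (FractionRing A) K'] [IsScalarTower A (FractionRing A) K']
  [FiniteDimensional (FractionRing A) K']

theorem PP_sup_adjoin (Cα : Subalgebra A K') (hCα : PP A K' Cα) (z : K') (hz : IsIntegral A z) :
    PP A K' (Cα ⊔ Algebra.adjoin A {z}) := by
  have hfinα := hCα.1
  have hfinz : Module.Finite A (Algebra.adjoin A {z}) :=
    Module.Finite.iff_fg.mpr (IsIntegral.fg_adjoin_singleton hz)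
  have hle : Cα ≤ Cα ⊔ Algebra.adjoin A {z} := le_sup_left
  refine ⟨Subalgebra.finite_sup _ _, fun x => ?_⟩
  obtain ⟨a, b, hb, hab⟩ := hCα.2 x
  exact ⟨Subalgebra.inclusion hle a, Subalgebra.inclusion hle b, hb, hab⟩

theorem le_integralClosure_of_PP (C : Subalgebra A K') (hC : PP A K' C) :
    C ≤ integralClosure A K' := by
  intro c hc
  have := hC.1
  have h1 : IsIntegral A (⟨c, hc⟩ : C) := Algebra.IsIntegral.isIntegral _
  exact h1.map C.val

/-- The data provided by the S4615 library. -/
theorem exists_stable_cpl :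
    ∃ Cα : Subalgebra A K', PP A K' Cα ∧
      (∀ C : Subalgebra A K', PP A K' C → ∀ hle : Cα ≤ C,
        ∀ y : ↥C ⊗[A] (AdicCompletion (maximalIdeal A) A),
          ∃ x : ↥Cα ⊗[A] (AdicCompletion (maximalIdeal A) A),
          IsNilpotent (Algebra.TensorProduct.map (Subalgebra.inclusion hle)
            (AlgHom.id A (AdicCompletion (maximalIdeal A) A)) x - y)) ∧
      (∀ hint : Cα ≤ integralClosure A K',
        UniversallyInjective
          (Spec.map (CommRingCat.ofHom (Subalgebra.inclusion hint).toRingHom))) := by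
  let Ah := AdicCompletion (maximalIdeal A) A
  have hN : IsNoetherianRing Ah := Groth.Agent.S0543.result A _
  have hff : Module.FaithfullyFlat A Ah := Module.FaithfullyFlat.of_flat_of_isLocalHom
  have hcompl : IsAdicComplete (maximalIdeal Ah) Ah :=
    AdicCompletion.isAdicComplete_of_fg (IsNoetherian.noetherian _)
  have hJ : ∀ (q : Ideal Ah) [q.IsPrime], q ∈ minimalPrimes Ah → CAlg.IsN2 (Ah ⧸ q) :=
    fun q _ _ => (Groth.Agent.Lib.Helper38.ComplNagata.isNagata_of_complete Ah).2 q
  obtain ⟨Cα, h1, h2, h3⟩ := Groth.Agent.Lib.Helper38.FinSubalg.main A Ah K' hJ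
  exact ⟨Cα, h1, fun C hC hle => (h2 C hC hle).2, h3 hff⟩

theorem isIntegral_inclusion (Cα : Subalgebra A K') (hint : Cα ≤ integralClosure A K') :
    (Subalgebra.inclusion hint).toRingHom.IsIntegral := by
  apply RingHom.IsIntegral.tower_top (algebraMap A Cα)
  have h : ((Subalgebra.inclusion hint).toRingHom).comp (algebraMap A Cα) =
      algebraMap A (integralClosure A K') := RingHom.ext (fun a => Subtype.ext rfl)
  rw [h]
  exact algebraMap_isIntegral_iff.mpr inferInstance

theorem finite_maximal :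
    {m : Ideal (integralClosure A K') | m.IsMaximal}.Finite := by
  obtain ⟨Cα, hCα, -, hrad⟩ := exists_stable_cpl A K'
  have hint := le_integralClosure_of_PP A K' Cα hCα
  have hui := hrad hint
  let φ := (Subalgebra.inclusion hint).toRingHom
  have hφint : φ.IsIntegral := isIntegral_inclusion A K' Cα hint
  have hfinα := hCα.1
  have hfinM : Finite (MaximalSpectrum Cα) := finite_maximalSpectrum_of_finite A Cα
  let g : {m : Ideal (integralClosure A K') | m.IsMaximal} → MaximalSpectrum Cα :=
    fun m => ⟨m.1.comap φ,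
      have : m.1.IsMaximal := m.2
      Ideal.isMaximal_comap_of_isIntegral_of_isMaximal' φ hφint m.1⟩
  have hg : Function.Injective g := by
    intro m₁ m₂ h
    have h1 : m₁.1.comap φ = m₂.1.comap φ := congrArg MaximalSpectrum.asIdeal h
    have hm₁ : m₁.1.IsMaximal := m₁.2
    have hm₂ : m₂.1.IsMaximal := m₂.2
    let p₁ : PrimeSpectrum (integralClosure A K') := ⟨m₁.1, hm₁.isPrime⟩
    let p₂ : PrimeSpectrum (integralClosure A K') := ⟨m₂.1, hm₂.isPrime⟩
    have h2 : (Spec.map (CommRingCat.ofHom φ)) p₁ = (Spec.map (CommRingCat.ofHom φ)) p₂ := by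
      rw [Spec.map_apply, Spec.map_apply]
      exact PrimeSpectrum.ext h1
    have h3 : p₁ = p₂ := (Spec.map (CommRingCat.ofHom φ)).injective h2
    exact Subtype.ext (congrArg PrimeSpectrum.asIdeal h3)
  exact Set.finite_coe_iff.mp (Finite.of_injective g hg)

theorem finite_quotient_maximal (m : Ideal (integralClosure A K')) (hm : m.IsMaximal) :
    Module.Finite A (integralClosure A K' ⧸ m) := by
  classical
  obtain ⟨Cα, hCα, hst, -⟩ := exists_stable_cpl A K'
  have hint := le_integralClosure_of_PP A K' Cα hCα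
  have hfinα := hCα.1
  let A' := integralClosure A K'
  let Ah := AdicCompletion (maximalIdeal A) A
  let _ : Field (A' ⧸ m) := Ideal.Quotient.field m
  -- the contraction of `m` to `A` is the maximal ideal
  have hcomap : m.comap (algebraMap A A') = maximalIdeal A := by
    have hmax : (m.comap (algebraMap A A')).IsMaximal :=
      Ideal.isMaximal_comap_of_isIntegral_of_isMaximal m
    exact IsLocalRing.eq_maximalIdeal hmax
  have hkill : ∀ a ∈ maximalIdeal A, (Algebra.ofId A (A' ⧸ m)) a = 0 := by
    intro a ha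
    show algebraMap A (A' ⧸ m) a = 0
    rw [IsScalarTower.algebraMap_apply A A' (A' ⧸ m), Ideal.Quotient.algebraMap_eq,
      Ideal.Quotient.eq_zero_iff_mem]
    have : a ∈ m.comap (algebraMap A A') := by rw [hcomap]; exact ha
    exact this
  let ε₀ : A ⧸ maximalIdeal A →ₐ[A] A' ⧸ m :=
    Ideal.Quotient.liftₐ (maximalIdeal A) (Algebra.ofId A (A' ⧸ m)) hkill
  let ε : Ah →ₐ[A] A' ⧸ m := ε₀.comp (AdicCompletion.evalOneₐ (maximalIdeal A))
  have hε : ∀ â : Ah, ∃ a : A, ε â = algebraMap A (A' ⧸ m) a := by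
    intro â
    obtain ⟨a, ha⟩ := Ideal.Quotient.mk_surjective (AdicCompletion.evalOneₐ (maximalIdeal A) â)
    refine ⟨a, ?_⟩
    show ε₀ (AdicCompletion.evalOneₐ (maximalIdeal A) â) = _
    rw [← ha]
    rfl
  let ψ : Cα →ₐ[A] A' ⧸ m := (Ideal.Quotient.mkₐ A m).comp (Subalgebra.inclusion hint)
  have hψ : Function.Surjective ψ := by
    intro z'
    obtain ⟨z, rfl⟩ := Ideal.Quotient.mk_surjective z'
    let C : Subalgebra A K' := Cα ⊔ Algebra.adjoin A {(z : K')}
    have hle : Cα ≤ C := le_sup_left
    have hzC : (z : K') ∈ C :=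
      (le_sup_right : Algebra.adjoin A {(z : K')} ≤ C) (Algebra.subset_adjoin rfl)
    have hPC : PP A K' C := PP_sup_adjoin A K' Cα hCα z z.2
    have hC' : C ≤ integralClosure A K' := le_integralClosure_of_PP A K' C hPC
    let γ : C →ₐ[A] A' ⧸ m := (Ideal.Quotient.mkₐ A m).comp (Subalgebra.inclusion hC')
    let G : C ⊗[A] Ah →ₐ[A] A' ⧸ m :=
      Algebra.TensorProduct.lift γ ε (fun _ _ => Commute.all _ _)
    obtain ⟨x, hx⟩ := hst C hPC hle ((⟨(z : K'), hzC⟩ : C) ⊗ₜ[A] (1 : Ah))
    have h1 : G (Algebra.TensorProduct.map (Subalgebra.inclusion hle) (AlgHom.id A Ah) x -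
        (⟨(z : K'), hzC⟩ : C) ⊗ₜ[A] (1 : Ah)) = 0 := (hx.map G).eq_zero
    rw [map_sub, sub_eq_zero] at h1
    have h2 : G ((⟨(z : K'), hzC⟩ : C) ⊗ₜ[A] (1 : Ah)) = Ideal.Quotient.mk m z := by
      simp only [G, Algebra.TensorProduct.lift_tmul, map_one, mul_one]
      show Ideal.Quotient.mk m (Subalgebra.inclusion hC' ⟨(z : K'), hzC⟩) = _
      congr 1
    have h3 : ∀ x : Cα ⊗[A] Ah,
        G (Algebra.TensorProduct.map (Subalgebra.inclusion hle) (AlgHom.id A Ah) x) ∈
          (ψ : Cα →+* A' ⧸ m).range := by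
      intro x
      induction x with
      | zero => rw [map_zero, map_zero]; exact Subring.zero_mem _
      | tmul c â =>
        obtain ⟨a, ha⟩ := hε â
        refine ⟨c * algebraMap A Cα a, ?_⟩
        simp only [Algebra.TensorProduct.map_tmul, AlgHom.id_apply, G,
          Algebra.TensorProduct.lift_tmul, ha]
        rw [RingHom.coe_coe, map_mul, AlgHom.commutes]
        congr 1
      | add x y hx hy => rw [map_add, map_add]; exact Subring.add_mem _ hx hy
    obtain ⟨c, hc⟩ := h3 x
    refine ⟨c, ?_⟩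
    rw [← h2, ← h1]
    exact hc
  exact Module.Finite.of_surjective ψ.toLinearMap hψ

end Main

end Groth.Agent.Lib.Helper38.IntClosMax
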