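import Mathlib
import Groth.Agent.Lib.Helper14.KrullAkizukiThm
import Groth.Agent.Lib.Helper39.IntCl.HeightOne
import Groth.Agent.Lib.Helper38.IntClosMax

/-!
# Mori–Nagata for Noetherian local domains (abstract part)

For a Noetherian domain `C` with fraction field `K` such that `Spec (integralClosure C K) → Spec C`
is injective: the integral closure of `C_p` for a height-one prime `p` is a DVR, the integral
closure of `C` is the intersection of these DVRs, and the finiteness condition of Krull domains.
-/

set_option autoImplicit false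
set_option linter.unusedSectionVars false
set_option linter.style.haveILetI false
universe u

namespace Groth.Agent.Lib.Helper38.MoriNagata

open IsLocalRing Groth.Agent.Lib.Helper39.IntCl Polynomial

section HeightOneK

variable {A : Type u} [CommRing A] [IsDomain A] [IsNoetherianRing A]
  (K : Type u) [Field K] [Algebra A K] [IsFractionRing A K]

theorem mem_integralClosure_of_forall_height_one_K
    (h : ∀ C : Subalgebra A K, C ≤ integralClosure A K →
      Module.Finite A C →
      ∀ (q : Ideal C) [q.IsPrime], q.height = 1 → (q.comap (algebraMap A C)).height = 1)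
    (x : K)
    (hx : ∀ p : PrimeSpectrum A, p.asIdeal.height = 1 → ∃ s : A, s ∉ p.asIdeal ∧
      algebraMap A K s * x ∈ integralClosure A K) :
    x ∈ integralClosure A K := by
  classical
  by_contra hxi
  have hx0 : x ≠ 0 := by
    rintro rfl
    exact hxi (Subalgebra.zero_mem _)
  set y := x⁻¹ with hy
  have hy0 : y ≠ 0 := inv_ne_zero hx0
  have hyx : y * x = 1 := inv_mul_cancel₀ hx0
  set B := Algebra.adjoin A {y} with hB
  set yB : B := ⟨y, Algebra.self_mem_adjoin_singleton A y⟩ with hyB
  have hφ := aeval_adjoin_surjective (A := A) y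
  haveI : IsNoetherianRing B :=
    isNoetherianRing_of_surjective A[X] B (aeval (R := A) yB : A[X] →+* B) hφ
  -- `x ∉ B`
  have hxB : x ∉ B := by
    intro hmem
    apply hxi
    have : IsIntegral (Algebra.adjoin A {y}) x := by
      have : x = algebraMap B K ⟨x, hmem⟩ := rfl
      rw [this]
      exact isIntegral_algebraMap
    exact isIntegral_of_isIntegral_adjoin_of_mul_eq_one x y hyx this
  have hunit : ¬ IsUnit yB := by
    intro hu
    obtain ⟨u, hu⟩ := hu.exists_right_inv
    apply hxB
    have h1 : y * (u : K) = 1 := by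
      have := congrArg Subtype.val hu
      simpa using this
    have : (u : K) = x := by
      have h2 : (u : K) = y⁻¹ := eq_inv_of_mul_eq_one_right h1
      rw [h2, hy, inv_inv]
    rw [← this]
    exact u.2
  have hne : Ideal.span {yB} ≠ ⊤ := by
    rwa [Ne, Ideal.span_singleton_eq_top]
  obtain ⟨⟨P, hPmin⟩⟩ := Ideal.nonempty_minimalPrimes hne
  haveI hPprime : P.IsPrime := hPmin.1.1
  have hyP : yB ∈ P := hPmin.1.2 (Ideal.mem_span_singleton_self _)
  have hPht : P.height ≤ 1 :=
    Ideal.height_le_one_of_isPrincipal_of_mem_minimalPrimes (Ideal.span {yB}) P hPmin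
  have hinjB : Function.Injective (algebraMap A B) := by
    intro a b hab
    exact IsFractionRing.injective A K (congrArg Subtype.val hab)
  obtain ⟨a₀, b₀, hb₀, hab⟩ := IsFractionRing.div_surjective (A := A) y
  have hb₀' : algebraMap A K b₀ ≠ 0 := by
    intro h0
    exact (nonZeroDivisors.ne_zero hb₀)
      (IsFractionRing.injective A K (by simpa using h0))
  have ha₀ : a₀ ≠ 0 := by
    rintro rfl
    rw [map_zero, zero_div] at hab
    exact hy0 hab.symm
  have ha₀P : algebraMap A B a₀ ∈ P := by
    have : algebraMap A B a₀ = yB * algebraMap A B b₀ := by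
      apply Subtype.ext
      show algebraMap A K a₀ = y * algebraMap A K b₀
      rw [← hab]; field_simp
    rw [this]
    exact P.mul_mem_right _ hyP
  obtain ⟨r, hrP, hr, hry⟩ := exists_integral_multiplier hinjB yB hφ P hPht hyP a₀ ha₀ ha₀P
  -- move to `K`
  set rK : K := (r : K) with hrK
  set cK : K := rK * y with hcK
  have hrKint : IsIntegral A rK := hr.map (B.val)
  have hcKint : IsIntegral A cK := by
    have := hry.map (B.val)
    simpa using this
  have hr0 : rK ≠ 0 := by
    intro h0
    apply hrP
    have : r = 0 := Subtype.ext h0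
    rw [this]; exact P.zero_mem
  set C' : Subalgebra A K := Algebra.adjoin A {rK, cK} with hC'
  have hC'le : C' ≤ integralClosure A K := by
    apply Algebra.adjoin_le
    rintro z (rfl | rfl)
    · exact hrKint
    · exact hcKint
  haveI hC'fin : Module.Finite A C' := by
    apply Algebra.finite_adjoin_of_finite_of_isIntegral (Set.toFinite _)
    rintro z (rfl | rfl)
    · exact hrKint
    · exact hcKint
  haveI : IsNoetherianRing C' := IsNoetherianRing.of_finite A C'
  have hC'B : C' ≤ B := by
    apply Algebra.adjoin_le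
    rintro z (rfl | rfl)
    · exact r.2
    · exact (r * yB).2
  let ι : C' →ₐ[A] B := Subalgebra.inclusion hC'B
  set rC : C' := ⟨rK, Algebra.subset_adjoin (by simp)⟩ with hrC
  set cC : C' := ⟨cK, Algebra.subset_adjoin (by simp)⟩ with hcC
  have hιr : ι rC = r := Subtype.ext rfl
  have hιc : ι cC = r * yB := Subtype.ext rfl
  let q : Ideal C' := P.comap (ι : C' →+* B)
  haveI hqprime : q.IsPrime := Ideal.comap_isPrime _ _
  have hcq : cC ∈ q := by
    show ι cC ∈ P
    rw [hιc]; exact P.mul_mem_left _ hyP
  have hrq : rC ∉ q := by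
    intro hmem
    apply hrP
    have : ι rC ∈ P := hmem
    rwa [hιr] at this
  obtain ⟨q', hq'min, hq'le⟩ := Ideal.exists_minimalPrimes_le (I := Ideal.span {cC}) (J := q)
    ((Ideal.span_singleton_le_iff_mem _).2 hcq)
  haveI hq'prime : q'.IsPrime := hq'min.1.1
  have hcq' : cC ∈ q' := hq'min.1.2 (Ideal.mem_span_singleton_self _)
  have hrq' : rC ∉ q' := fun hmem => hrq (hq'le hmem)
  have hc0 : cC ≠ 0 := by
    intro h0
    have : cK = 0 := congrArg Subtype.val h0
    rw [hcK] at this
    rcases mul_eq_zero.1 this with h1 | h1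
    · exact hr0 h1
    · exact hy0 h1
  have hq'ht : q'.height = 1 := by
    apply le_antisymm
    · exact Ideal.height_le_one_of_isPrincipal_of_mem_minimalPrimes (Ideal.span {cC}) q' hq'min
    · apply one_le_height_of_ne_bot'
      intro hbot
      rw [hbot, Ideal.mem_bot] at hcq'
      exact hc0 hcq'
  have hp'ht := h C' hC'le hC'fin q' hq'ht
  obtain ⟨s, hs, hsx⟩ := hx ⟨q'.comap (algebraMap A C'), Ideal.comap_isPrime _ _⟩ hp'ht
  -- clear denominators
  set z := algebraMap A K s * x with hz
  have hzint : IsIntegral C' z := IsIntegral.tower_top (R := A) hsx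
  obtain ⟨g, hgm, hg0⟩ := hzint
  have hinjC : Function.Injective (algebraMap C' K) := Subtype.val_injective
  have hmul : algebraMap C' K cC * z
      = algebraMap C' K (algebraMap A C' s * rC) := by
    show cK * z = (algebraMap A C' s * rC : C')
    have : ((algebraMap A C' s * rC : C') : K)
        = algebraMap A K s * rK := rfl
    rw [this, hz, hcK, hy]
    field_simp
  have hdvd := Polynomial.dvd_pow_natDegree_of_eval₂_eq_zero hinjC hgm cC
    (algebraMap A C' s * rC) z hg0 hmul
  have hmem : (algebraMap A C' s * rC) ^ g.natDegree ∈ q' := by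
    obtain ⟨w, hw⟩ := hdvd
    rw [hw]
    exact q'.mul_mem_right _ hcq'
  have hmem' := hq'prime.mem_of_pow_mem _ hmem
  rcases hq'prime.mem_or_mem hmem' with h1 | h1
  · exact hs h1
  · exact hrq' h1

end HeightOneK

section Abstract

variable (C : Type u) [CommRing C] [IsDomain C] [IsNoetherianRing C]
  (K : Type u) [Field K] [Algebra C K] [IsFractionRing C K]

/-- Injectivity of `Spec` of the integral closure over `Spec C`. -/
def InjSpec : Prop :=
  ∀ P₁ P₂ : Ideal (integralClosure C K), P₁.IsPrime → P₂.IsPrime →
    P₁.comap (algebraMap C (integralClosure C K)) =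
      P₂.comap (algebraMap C (integralClosure C K)) → P₁ = P₂

variable {C K}

theorem exists_dvr (hinj : InjSpec C K) (p : Ideal C) [hp : p.IsPrime] (hht : p.height = 1) :
    ∃ V : ValuationSubring K, IsDiscreteValuationRing V ∧
      ∀ x : K, x ∈ V ↔ ∃ s : C, s ∉ p ∧ IsIntegral C (algebraMap C K s * x) := by
  classical
  let R := Localization.AtPrime p
  have hinjCK : Function.Injective (algebraMap C K) := IsFractionRing.injective C K
  have hunits : ∀ s : p.primeCompl, IsUnit (algebraMap C K s) := by
    intro s
    apply IsUnit.mk0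
    rw [Ne, map_eq_zero_iff _ hinjCK]
    rintro h0
    exact s.2 (h0 ▸ p.zero_mem)
  let _ : Algebra R K := (IsLocalization.lift (M := p.primeCompl) hunits).toAlgebra
  have htower : IsScalarTower C R K := IsScalarTower.of_algebraMap_eq (fun c =>
    (IsLocalization.lift_eq (M := p.primeCompl) hunits c).symm)
  have hRdom : IsDomain R :=
    IsLocalization.isDomain_localization p.primeCompl_le_nonZeroDivisors
  have hRfrac : IsFractionRing R K :=
    IsFractionRing.isFractionRing_of_isDomain_of_isLocalization p.primeCompl R K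
  have hRdim : ringKrullDim R = 1 := by
    rw [IsLocalization.AtPrime.ringKrullDim_eq_height p R, hht]
    rfl
  have hRdimLE : Ring.KrullDimLE 1 R := by
    rw [Ring.krullDimLE_iff, hRdim]
    rfl
  let V : Subalgebra R K := integralClosure R K
  have hVinj : Function.Injective (algebraMap V K) := Subtype.val_injective
  have hVnoeth : IsNoetherianRing V :=
    Groth.Agent.Lib.Helper14.KrullAkizuki.isNoetherianRing_of_injective R K K hVinj
  have hVdim : Ring.KrullDimLE 1 V :=
    Groth.Agent.Lib.Helper14.KrullAkizuki.krullDimLE_one_of_injective R K K hVinj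
  have hVic : IsIntegrallyClosed V := integralClosure.isIntegrallyClosedOfFiniteExtension K
  have hVfrac : IsFractionRing V K := integralClosure.isFractionRing_of_finite_extension K K
  -- description of `V`
  have hVmem : ∀ x : K, x ∈ V ↔ ∃ s : C, s ∉ p ∧ IsIntegral C (algebraMap C K s * x) := by
    intro x
    constructor
    · intro hx
      obtain ⟨m, hm⟩ := IsIntegral.exists_multiple_integral_of_isLocalization p.primeCompl x hx
      refine ⟨m, m.2, ?_⟩
      rwa [Submonoid.smul_def, Algebra.smul_def] at hm
    · rintro ⟨s, hs, hsx⟩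
      have h1 : IsIntegral R (algebraMap C K s * x) := hsx.tower_top
      have hu : IsUnit (algebraMap C R s) := IsLocalization.map_units R (⟨s, hs⟩ : p.primeCompl)
      obtain ⟨u, hu'⟩ := hu
      have h2 : x = algebraMap R K (↑u⁻¹ : R) * (algebraMap C K s * x) := by
        rw [← mul_assoc, IsScalarTower.algebraMap_apply C R K, ← hu', ← map_mul, Units.inv_mul,
          map_one, one_mul]
      show IsIntegral R x
      rw [h2]
      exact isIntegral_algebraMap.mul h1
  -- the inclusion of the integral closure of `C` into `V`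
  let A' := integralClosure C K
  let ι : A' →+* V :=
    { toFun := fun y => ⟨y.1, (y.2 : IsIntegral C y.1).tower_top⟩
      map_one' := rfl
      map_mul' := fun _ _ => rfl
      map_zero' := rfl
      map_add' := fun _ _ => rfl }
  have hcompat : (algebraMap R V).comp (algebraMap C R) = ι.comp (algebraMap C A') := by
    refine RingHom.ext (fun c => Subtype.ext ?_)
    show algebraMap R K (algebraMap C R c) = algebraMap C K c
    rw [← IsScalarTower.algebraMap_apply C R K]
  have hVint : Algebra.IsIntegral R V := inferInstance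
  -- contraction of a maximal ideal of `V` to `C` is `p`
  have hcontr : ∀ m : Ideal V, m.IsMaximal →
      (m.comap ι).comap (algebraMap C A') = p := by
    intro m hm
    have h1 : (m.comap (algebraMap R V)).IsMaximal :=
      Ideal.isMaximal_comap_of_isIntegral_of_isMaximal m
    have h2 : m.comap (algebraMap R V) = maximalIdeal R := IsLocalRing.eq_maximalIdeal h1
    rw [Ideal.comap_comap, ← hcompat, ← Ideal.comap_comap, h2]
    exact IsLocalization.AtPrime.under_maximalIdeal R p
  have hle : ∀ m₁ m₂ : Ideal V, m₁.IsMaximal → m₂.IsMaximal → m₁ ≤ m₂ := by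
    intro m₁ m₂ hm₁ hm₂ x hx
    have hP : m₁.comap ι = m₂.comap ι := by
      apply hinj _ _ (Ideal.comap_isPrime ι m₁) (Ideal.comap_isPrime ι m₂)
      rw [hcontr m₁ hm₁, hcontr m₂ hm₂]
    obtain ⟨s, hs, hsx⟩ := (hVmem x.1).mp x.2
    let y : A' := ⟨algebraMap C K s * x.1, hsx⟩
    have hy : ι y = algebraMap C V s * x := Subtype.ext rfl
    have hy1 : y ∈ m₁.comap ι := by
      rw [Ideal.mem_comap, hy]
      exact m₁.mul_mem_left _ hx
    rw [hP, Ideal.mem_comap, hy] at hy1
    rcases hm₂.isPrime.mem_or_mem hy1 with h | h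
    · exfalso
      apply hs
      rw [← hcontr m₂ hm₂]
      show ι (algebraMap C A' s) ∈ m₂
      have : ι (algebraMap C A' s) = algebraMap C V s := Subtype.ext rfl
      rw [this]
      exact h
    · exact h
  have hVdom : IsDomain V := inferInstance
  obtain ⟨m₀, hm₀⟩ := Ideal.exists_maximal V
  have hVlocal : IsLocalRing V := IsLocalRing.of_unique_max_ideal
    ⟨m₀, hm₀, fun m hm => (hm₀.eq_of_le hm.ne_top (hle m₀ m hm₀ hm)).symm⟩
  -- principal ideal ring
  have hpir : IsPrincipalIdealRing V := by
    have h4 : IsIntegrallyClosed V ∧ ∀ P : Ideal V, P ≠ ⊥ → P.IsPrime → P = maximalIdeal V :=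
      ⟨hVic, fun P hP0 hPprime => IsLocalRing.eq_maximalIdeal (hPprime.isMaximal_of_ne_bot hP0)⟩
    exact ((tfae_of_isNoetherianRing_of_isLocalRing_of_isDomain (R := V)).out 3 0).mp h4
  have hnotfield : maximalIdeal V ≠ ⊥ := by
    intro h0
    have h1 : ((maximalIdeal V).comap (algebraMap R V)).IsMaximal :=
      Ideal.isMaximal_comap_of_isIntegral_of_isMaximal (maximalIdeal V)
    have h2 : (maximalIdeal V).comap (algebraMap R V) = maximalIdeal R :=
      IsLocalRing.eq_maximalIdeal h1
    have hinjRV : Function.Injective (algebraMap R V) := by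
      intro a b hab
      exact IsFractionRing.injective R K (congrArg Subtype.val hab)
    rw [h0, Ideal.comap_bot_of_injective _ hinjRV] at h2
    have hfield : IsField R := IsLocalRing.isField_iff_maximalIdeal_eq.mpr h2.symm
    have := ringKrullDim_eq_zero_of_isField hfield
    rw [hRdim] at this
    exact one_ne_zero this
  have hdvr : IsDiscreteValuationRing V :=
    { principal := hpir.principal
      not_a_field' := hnotfield }
  have hval : ValuationRing V := inferInstance
  let VS : ValuationSubring K :=
    { V.toSubring with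
      mem_or_inv_mem' := by
        intro x
        rcases ValuationRing.isInteger_or_isInteger V (K := K) x with ⟨v, hv⟩ | ⟨v, hv⟩
        · left
          rw [← hv]
          exact v.2
        · right
          rw [← hv]
          exact v.2 }
  let e : V ≃+* VS :=
    { toFun := fun v => ⟨v.1, v.2⟩
      invFun := fun v => ⟨v.1, v.2⟩
      left_inv := fun _ => rfl
      right_inv := fun _ => rfl
      map_mul' := fun _ _ => rfl
      map_add' := fun _ _ => rfl }
  refine ⟨VS, IsDiscreteValuationRing.RingEquivClass.isDiscreteValuationRing e, fun x => ?_⟩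
  exact hVmem x

theorem finite_bad (x : K) :
    {p : Ideal C | p.IsPrime ∧ p.height = 1 ∧
      ¬ ∃ s : C, s ∉ p ∧ IsIntegral C (algebraMap C K s * x)}.Finite := by
  obtain ⟨a, b, hb, hab⟩ := IsFractionRing.div_surjective (A := C) x
  have hb0 : b ≠ 0 := nonZeroDivisors.ne_zero hb
  have hbK : algebraMap C K b ≠ 0 := by
    rw [Ne, map_eq_zero_iff _ (IsFractionRing.injective C K)]
    exact hb0
  apply Set.Finite.subset (Ideal.finite_minimalPrimes_of_isNoetherianRing C (Ideal.span {b}))
  rintro p ⟨hp, hht, hbad⟩
  have hbp : b ∈ p := by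
    by_contra hbp
    apply hbad
    refine ⟨b, hbp, ?_⟩
    have : algebraMap C K b * x = algebraMap C K a := by
      rw [← hab]; field_simp
    rw [this]
    exact isIntegral_algebraMap
  have hle : Ideal.span {b} ≤ p := (Ideal.span_singleton_le_iff_mem _).2 hbp
  apply Ideal.mem_minimalPrimes_of_height_le hle
  rw [hht]
  apply one_le_height_of_ne_bot'
  rw [Ne, Ideal.span_singleton_eq_bot]
  exact hb0

theorem height_comap_eq_one (hinj : InjSpec C K) (C₁ : Subalgebra C K)
    (hC₁ : C₁ ≤ integralClosure C K) (q : Ideal C₁) [hq : q.IsPrime] (hht : q.height = 1) :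
    (q.comap (algebraMap C C₁)).height = 1 := by
  classical
  have hint : Algebra.IsIntegral C C₁ := by
    refine ⟨fun y => ?_⟩
    have h1 : IsIntegral C (y : K) := hC₁ y.2
    exact (isIntegral_algebraMap_iff (B := K) (A := C₁) Subtype.val_injective).mp h1
  let A' := integralClosure C K
  let j : C₁ →ₐ[C] A' := Subalgebra.inclusion hC₁
  let _ : Algebra C₁ A' := j.toRingHom.toAlgebra
  have htower : IsScalarTower C C₁ A' :=
    IsScalarTower.of_algebraMap_eq (fun c => (j.commutes c).symm)
  have hintA' : Algebra.IsIntegral C A' := inferInstance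
  have hint2 : Algebra.IsIntegral C₁ A' := Algebra.IsIntegral.tower_top (R := C)
  have hinj1 : Function.Injective (algebraMap C C₁) := by
    intro a b hab
    exact IsFractionRing.injective C K (congrArg Subtype.val hab)
  have hinj2 : Function.Injective (algebraMap C₁ A') := by
    intro a b hab
    exact Subtype.ext (congrArg (fun z : A' => (z : K)) hab)
  set p := q.comap (algebraMap C C₁) with hpdef
  have hp : p.IsPrime := Ideal.comap_isPrime _ _
  have hq0 : q ≠ ⊥ := by
    intro h
    rw [h, Ideal.height_bot] at hht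
    exact zero_ne_one hht
  obtain ⟨y, hyq, hy0⟩ := Submodule.exists_mem_ne_zero_of_ne_bot hq0
  have hp0 : p ≠ ⊥ := Ideal.comap_ne_bot_of_integral_mem hy0 hyq (hint.isIntegral y)
  have hqfh : q.FiniteHeight := ⟨Or.inr (by rw [hht]; exact ENat.one_ne_top)⟩
  apply le_antisymm
  · rw [show (1 : ℕ∞) = ((1 : ℕ) : ℕ∞) from rfl, Ideal.height_le_iff]
    intro p₁ hp₁ hlt
    by_contra hcon
    have hp₁0 : p₁ ≠ ⊥ := by
      rintro rfl
      apply hcon
      rw [Ideal.height_bot]
      exact zero_lt_one
    obtain ⟨q₁, -, hq₁, hq₁p⟩ := Ideal.exists_ideal_over_prime_of_isIntegral p₁ (⊥ : Ideal C₁)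
      (by rw [Ideal.comap_bot_of_injective _ hinj1]; exact bot_le)
    obtain ⟨q₂, hq₂ge, hq₂, hq₂p⟩ :=
      Ideal.exists_ideal_over_prime_of_isIntegral_of_isPrime p q₁ (hq₁p ▸ hlt.le)
    obtain ⟨Q, -, hQ, hQq⟩ := Ideal.exists_ideal_over_prime_of_isIntegral q (⊥ : Ideal A')
      (by rw [Ideal.comap_bot_of_injective _ hinj2]; exact bot_le)
    obtain ⟨Q₂, -, hQ₂, hQ₂q⟩ := Ideal.exists_ideal_over_prime_of_isIntegral q₂ (⊥ : Ideal A')
      (by rw [Ideal.comap_bot_of_injective _ hinj2]; exact bot_le)
    have hQQ₂ : Q = Q₂ := by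
      apply hinj Q Q₂ hQ hQ₂
      rw [IsScalarTower.algebraMap_eq C C₁ A', ← Ideal.comap_comap, ← Ideal.comap_comap,
        hQq, hQ₂q, hq₂p]
    have hqq₂ : q = q₂ := by rw [← hQq, ← hQ₂q, hQQ₂]
    have hq₁le : q₁ ≤ q := hqq₂ ▸ hq₂ge
    have hq₁ne : q₁ ≠ q := by
      intro h
      rw [h] at hq₁p
      exact hlt.ne hq₁p.symm
    have hq₁lt : q₁ < q := lt_of_le_of_ne hq₁le hq₁ne
    have hq₁0 : q₁ ≠ ⊥ := by
      intro h
      rw [h, Ideal.comap_bot_of_injective _ hinj1] at hq₁p
      exact hp₁0 hq₁p.symm
    have h1 : 1 ≤ q₁.height := one_le_height_of_ne_bot' q₁ hq₁0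
    have h2 : q₁.height < q.height := Ideal.height_strict_mono_of_isPrime_of_isPrime hq₁lt
    rw [hht] at h2
    exact absurd h1 (not_le.mpr h2)
  · exact one_le_height_of_ne_bot' p hp0

theorem isIntegral_iff_forall_height_one (hinj : InjSpec C K) (x : K) :
    IsIntegral C x ↔ ∀ (p : Ideal C), p.IsPrime → p.height = 1 →
      ∃ s : C, s ∉ p ∧ IsIntegral C (algebraMap C K s * x) := by
  constructor
  · intro hx p hp _
    refine ⟨1, fun h1 => hp.ne_top ((Ideal.eq_top_iff_one p).mpr h1), ?_⟩
    rwa [map_one, one_mul]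
  · intro h
    refine mem_integralClosure_of_forall_height_one_K K
      (fun C₁ hC₁ _ q _ hq => height_comap_eq_one hinj C₁ hC₁ q hq) x ?_
    intro p hp
    exact h p.asIdeal p.isPrime hp

end Abstract

end Groth.Agent.Lib.Helper38.MoriNagata
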