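import Mathlib
import Groth.Agent.Lib.Helper38.MoriNagata

/-!
# n-th powers up to units descend along flat local maps of normal domains (weakly unramified in
codimension one)

`main`: `A → B` flat local homomorphism of Noetherian local normal domains, `f = w hⁿ` in `B` with
`w` a unit, and every height-one prime of `A` has a weakly unramified height-one prime of `B` above
it; then `f = u gⁿ` in `A`.  Tools: `dvd_of_forall_height_one` (divisibility in a Noetherian normal
domain is checked at height-one primes), `exists_uniformizer`, `exists_eq_mul_pow` (DVR structure of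
`A_p` expressed in `A`), `mem_map_colon_range_of_flat` (flat base change of the colon of a principal
ideal by a finitely generated ideal), `height_comap_eq_one_of_flat`.
-/

set_option autoImplicit false
set_option linter.unusedSectionVars false
universe u

namespace Groth.Agent.Lib.Helper38.WeakUnram

open IsLocalRing

section Normal

variable {A : Type u} [CommRing A] [IsDomain A] [IsNoetherianRing A]

omit [IsNoetherianRing A] in
theorem eq_of_le_of_height_one {q t : Ideal A} [q.IsPrime] [t.IsPrime] (ht : t.height = 1)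
    (hq : q ≠ ⊥) (hqt : q ≤ t) : q = t := by
  by_contra hne
  have : t.FiniteHeight := ⟨Or.inr (by rw [ht]; exact ENat.one_ne_top)⟩
  have hlt : q < t := lt_of_le_of_ne hqt hne
  have h1 : q.height < t.height := Ideal.height_strict_mono_of_isPrime_of_isPrime hlt
  rw [ht] at h1
  have h0 : q.height = 0 := Order.lt_one_iff.mp h1
  exact hq (Ideal.height_eq_zero_iff_eq_bot.mp h0)

variable [IsIntegrallyClosed A]

/-- the localization at a height one prime of a noetherian normal domain is a DVR
(as in `Groth.Agent.Lib.Helper80.NormalDim2.isDVR_atPrime`). -/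
theorem isDVR_atPrime (t : Ideal A) [t.IsPrime] (ht : t.height = 1) :
    IsDiscreteValuationRing (Localization.AtPrime t) := by
  have hic : IsIntegrallyClosed (Localization.AtPrime t) :=
    isIntegrallyClosed_of_isLocalization _ t.primeCompl t.primeCompl_le_nonZeroDivisors
  have htbot : t ≠ ⊥ := by
    intro h
    rw [h, Ideal.height_bot] at ht
    exact zero_ne_one ht
  have hcomap : (maximalIdeal (Localization.AtPrime t)).comap (algebraMap A _) = t :=
    IsLocalization.AtPrime.under_maximalIdeal _ t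
  have hnf : ¬ IsField (Localization.AtPrime t) := by
    intro hf
    have : maximalIdeal (Localization.AtPrime t) = ⊥ := isField_iff_maximalIdeal_eq.mp hf
    rw [this] at hcomap
    apply htbot
    rw [← hcomap]
    ext x
    simp only [Ideal.mem_comap, Ideal.mem_bot]
    exact (IsLocalization.to_map_eq_zero_iff (Localization.AtPrime t)
      t.primeCompl_le_nonZeroDivisors)
  have h03 : IsDiscreteValuationRing (Localization.AtPrime t) ↔
      (IsIntegrallyClosed (Localization.AtPrime t) ∧
        ∃! P : Ideal (Localization.AtPrime t), P ≠ ⊥ ∧ P.IsPrime) :=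
    (IsDiscreteValuationRing.TFAE (Localization.AtPrime t) hnf).out 0 3
  refine h03.mpr ⟨hic, ?_⟩
  refine ⟨maximalIdeal _, ⟨isField_iff_maximalIdeal_eq.not.mp hnf, inferInstance⟩, ?_⟩
  rintro P ⟨hP0, hP⟩
  have hPc : (P.comap (algebraMap A (Localization.AtPrime t))).IsPrime := Ideal.comap_isPrime _ _
  have hmap : (P.comap (algebraMap A (Localization.AtPrime t))).map
      (algebraMap A (Localization.AtPrime t)) = P :=
    IsLocalization.map_under t.primeCompl _ P
  have hPc0 : P.comap (algebraMap A (Localization.AtPrime t)) ≠ ⊥ := by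
    intro h0
    rw [h0, Ideal.map_bot] at hmap
    exact hP0 hmap.symm
  have hle : P.comap (algebraMap A (Localization.AtPrime t)) ≤ t :=
    le_trans (Ideal.comap_mono (IsLocalRing.le_maximalIdeal hP.ne_top)) hcomap.le
  have := eq_of_le_of_height_one ht hPc0 hle
  rw [← hmap, this]
  exact Localization.AtPrime.map_eq_maximalIdeal

theorem injSpec_of_isIntegrallyClosed (K : Type u) [Field K] [Algebra A K] [IsFractionRing A K] :
    MoriNagata.InjSpec A K := by
  intro P₁ P₂ _ _ h
  have hsurj : Function.Surjective (algebraMap A (integralClosure A K)) := by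
    rintro ⟨y, hy⟩
    obtain ⟨a, ha⟩ := IsIntegrallyClosed.isIntegral_iff.mp hy
    exact ⟨a, Subtype.ext ha⟩
  exact Ideal.comap_injective_of_surjective _ hsurj h

/-- Divisibility in a Noetherian normal domain can be checked at height-one primes. -/
theorem dvd_of_forall_height_one (d b : A) (hd : d ≠ 0)
    (h : ∀ q : Ideal A, q.IsPrime → q.height = 1 → ∃ s, s ∉ q ∧ d ∣ s * b) : d ∣ b := by
  let K := FractionRing A
  have hdK : algebraMap A K d ≠ 0 := by
    rw [Ne, map_eq_zero_iff _ (IsFractionRing.injective A K)]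
    exact hd
  have hint : IsIntegral A (algebraMap A K b / algebraMap A K d) := by
    rw [MoriNagata.isIntegral_iff_forall_height_one (injSpec_of_isIntegrallyClosed K)]
    intro q hq hht
    obtain ⟨s, hs, c, hc⟩ := h q hq hht
    refine ⟨s, hs, ?_⟩
    have : algebraMap A K s * (algebraMap A K b / algebraMap A K d) = algebraMap A K c := by
      rw [mul_div_assoc', ← map_mul, hc, map_mul, mul_div_cancel_left₀ _ hdK]
    rw [this]
    exact isIntegral_algebraMap
  obtain ⟨y, hy⟩ := IsIntegrallyClosed.isIntegral_iff.mp hint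
  refine ⟨y, ?_⟩
  apply IsFractionRing.injective A K
  rw [map_mul, hy, mul_div_cancel₀ _ hdK]

/-- A uniformizer of `A_p`, taken in `p`. -/
theorem exists_uniformizer (p : Ideal A) [p.IsPrime] (hp : p.height = 1) :
    ∃ π : A, π ∈ p ∧ ∀ z ∈ p, ∃ t, t ∉ p ∧ π ∣ t * z := by
  have hdvr := isDVR_atPrime p hp
  let R := Localization.AtPrime p
  have hinj := IsLocalization.injective R p.primeCompl_le_nonZeroDivisors
  obtain ⟨ϖ, hϖ⟩ := IsDiscreteValuationRing.exists_irreducible R
  obtain ⟨π, t₀, hπt⟩ := IsLocalization.exists_mk'_eq p.primeCompl ϖ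
  have hmax := (IsDiscreteValuationRing.irreducible_iff_uniformizer _).mp hϖ
  have hπmem : IsLocalization.mk' R π t₀ ∈ maximalIdeal R := by
    rw [hπt, hmax]; exact Ideal.mem_span_singleton_self _
  have hπp : π ∈ p := (IsLocalization.AtPrime.mk'_mem_maximal_iff _ p π t₀).mp hπmem
  refine ⟨π, hπp, fun z hz => ?_⟩
  have hzmem : algebraMap A R z ∈ maximalIdeal R :=
    (IsLocalization.AtPrime.to_map_mem_maximal_iff _ p z).mpr hz
  rw [hmax, Ideal.mem_span_singleton'] at hzmem
  obtain ⟨c, hc⟩ := hzmem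
  obtain ⟨c₀, t₁, hct⟩ := IsLocalization.exists_mk'_eq p.primeCompl c
  refine ⟨t₁ * t₀, (t₁ * t₀).2, c₀, ?_⟩
  apply hinj
  have h1 : algebraMap A R t₁ * c = algebraMap A R c₀ := by
    rw [← hct, IsLocalization.mk'_spec']
  have h2 : algebraMap A R t₀ * ϖ = algebraMap A R π := by
    rw [← hπt, IsLocalization.mk'_spec']
  show algebraMap A R ((t₁ : A) * (t₀ : A) * z) = algebraMap A R (π * c₀)
  rw [map_mul, map_mul, map_mul, ← hc, ← h1, ← h2]
  ring

/-- Every nonzero element is, up to elements outside `p`, a power of the uniformizer. -/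
theorem exists_eq_mul_pow (p : Ideal A) [p.IsPrime] (hp : p.height = 1) (π : A) (hπ : π ∈ p)
    (hπgen : ∀ z ∈ p, ∃ t, t ∉ p ∧ π ∣ t * z) (f : A) (hf : f ≠ 0) :
    ∃ (k : ℕ) (s a : A), s ∉ p ∧ a ∉ p ∧ s * f = a * π ^ k := by
  have hdvr := isDVR_atPrime p hp
  let R := Localization.AtPrime p
  have hinj := IsLocalization.injective R p.primeCompl_le_nonZeroDivisors
  have hmax : maximalIdeal R = Ideal.span {algebraMap A R π} := by
    apply le_antisymm
    · intro x hx
      obtain ⟨z, s, rfl⟩ := IsLocalization.exists_mk'_eq p.primeCompl x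
      have hz : z ∈ p := (IsLocalization.AtPrime.mk'_mem_maximal_iff _ p z s).mp hx
      obtain ⟨t, ht, c, hc⟩ := hπgen z hz
      rw [Ideal.mem_span_singleton']
      refine ⟨IsLocalization.mk' R c (⟨t, ht⟩ * s : p.primeCompl), ?_⟩
      have hu : IsUnit (algebraMap A R ((⟨t, ht⟩ * s : p.primeCompl) : A)) :=
        IsLocalization.map_units R (⟨t, ht⟩ * s : p.primeCompl)
      apply hu.mul_left_cancel
      have hts : ((⟨t, ht⟩ * s : p.primeCompl) : A) = t * (s : A) := rfl
      rw [← mul_assoc, IsLocalization.mk'_spec', hts, map_mul, mul_assoc (algebraMap A R t),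
        IsLocalization.mk'_spec', ← map_mul, ← map_mul, hc, mul_comm]
    · rw [Ideal.span_singleton_le_iff_mem]
      exact (IsLocalization.AtPrime.to_map_mem_maximal_iff _ p π).mpr hπ
  have hirr : Irreducible (algebraMap A R π) :=
    (IsDiscreteValuationRing.irreducible_iff_uniformizer _).mpr hmax
  have hf' : algebraMap A R f ≠ 0 := by
    rw [Ne, map_eq_zero_iff _ hinj]; exact hf
  obtain ⟨k, u, hu⟩ := IsDiscreteValuationRing.eq_unit_mul_pow_irreducible hf' hirr
  obtain ⟨a, s, has⟩ := IsLocalization.exists_mk'_eq p.primeCompl (u : R)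
  have ha : a ∈ p.primeCompl := by
    rw [← IsLocalization.AtPrime.isUnit_mk'_iff R p a s, has]
    exact u.isUnit
  refine ⟨k, s, a, s.2, ha, ?_⟩
  apply hinj
  rw [map_mul, hu, ← has, ← mul_assoc, IsLocalization.mk'_spec', map_mul, map_pow]

end Normal

section FlatColon

variable {A B : Type u} [CommRing A] [CommRing B] [Algebra A B] [Module.Flat A B]

/-- Flat base change of the colon of a principal ideal by a finitely generated ideal. -/
theorem mem_map_colon_range_of_flat (f : A) {r : ℕ} (x : Fin r → A) (y : B) (z : Fin r → B)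
    (h : ∀ i, algebraMap A B (x i) * y = algebraMap A B f * z i) :
    y ∈ ((Ideal.span {f}).colon (Set.range x)).map (algebraMap A B) := by
  classical
  let fl : (Fin r → A) →ₗ[A] (A × (Fin r → A)) :=
    LinearMap.prod (Fintype.linearCombination A x) ((-f) • LinearMap.id)
  let xl : (A × (Fin r → A)) →ₗ[A] B :=
    LinearMap.coprod (LinearMap.toSpanSingleton A B y) (Fintype.linearCombination A z)
  have hfl : ∀ k : Fin r → A, fl k = (∑ i, k i • x i, (-f) • k) := fun k => by
    simp [fl, Fintype.linearCombination_apply]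
  have hxl : ∀ (t : A) (k : Fin r → A), xl (t, k) = t • y + ∑ i, k i • z i := fun t k => by
    simp [xl, Fintype.linearCombination_apply]
  have hcomp : xl ∘ₗ fl = 0 := by
    refine LinearMap.ext (fun k => ?_)
    rw [LinearMap.comp_apply, hfl, hxl, LinearMap.zero_apply, Finset.sum_smul,
      ← Finset.sum_add_distrib]
    refine Finset.sum_eq_zero (fun i _ => ?_)
    have hi := h i
    simp only [Pi.smul_apply, smul_eq_mul, Algebra.smul_def, map_mul, map_neg]
    linear_combination (algebraMap A B (k i)) * hi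
  obtain ⟨k, a, y', hya, haf⟩ := Module.Flat.exists_factorization_of_comp_eq_zero_of_free hcomp
  have hy : y = y' (a (1, 0)) := by
    have := LinearMap.congr_fun hya (1, 0)
    rw [hxl] at this
    simpa using this
  set v := a (1, 0) with hv
  have hvsum : y' v = ∑ j, v j • y' (Finsupp.single j 1) := by
    conv_lhs => rw [← Finsupp.univ_sum_single v]
    rw [map_sum]
    refine Finset.sum_congr rfl (fun j _ => ?_)
    rw [← map_smul, Finsupp.smul_single, smul_eq_mul, mul_one]
  rw [hy, hvsum]
  refine Ideal.sum_mem _ (fun j _ => ?_)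
  rw [Algebra.smul_def]
  refine Ideal.mul_mem_right _ _ (Ideal.mem_map_of_mem _ ?_)
  rw [Submodule.mem_colon]
  rintro _ ⟨i, rfl⟩
  have h0 := LinearMap.congr_fun haf (Pi.single i 1)
  have h1 : fl (Pi.single i 1) = x i • (1, 0) + (-f) • ((0 : A), (Pi.single i 1 : Fin r → A)) := by
    rw [hfl]
    have hs : ∑ i' : Fin r, (Pi.single i (1 : A) : Fin r → A) i' • x i' = x i := by
      rw [Finset.sum_eq_single i]
      · simp
      · intro b _ hb
        rw [Pi.single_eq_of_ne hb, zero_smul]
      · intro hi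
        exact absurd (Finset.mem_univ i) hi
    rw [hs]
    simp
  rw [LinearMap.comp_apply, h1, map_add, map_smul, map_smul, LinearMap.zero_apply] at h0
  have h2 := DFunLike.congr_fun h0 j
  simp only [Finsupp.coe_add, Finsupp.coe_smul, Pi.add_apply, Pi.smul_apply, smul_eq_mul,
    Finsupp.coe_zero, Pi.zero_apply] at h2
  rw [smul_eq_mul, Ideal.mem_span_singleton']
  refine ⟨a (0, Pi.single i 1) j, ?_⟩
  rw [← hv] at h2
  linear_combination -h2

end FlatColon

section GoingDown

variable {A B : Type u} [CommRing A] [IsDomain A] [CommRing B] [IsDomain B] [Algebra A B]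
  [Module.Flat A B]

theorem height_comap_eq_one_of_flat (hinj : Function.Injective (algebraMap A B)) (q : Ideal B)
    [q.IsPrime] (hq : q.height = 1) (hne : q.comap (algebraMap A B) ≠ ⊥) :
    (q.comap (algebraMap A B)).height = 1 := by
  set p := q.comap (algebraMap A B) with hpdef
  have hp : p.IsPrime := Ideal.comap_isPrime _ _
  have hqfh : q.FiniteHeight := ⟨Or.inr (by rw [hq]; exact ENat.one_ne_top)⟩
  apply le_antisymm
  · rw [show (1 : ℕ∞) = ((1 : ℕ) : ℕ∞) from rfl, Ideal.height_le_iff]
    intro p₁ hp₁ hlt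
    by_contra hcon
    have hp₁0 : p₁ ≠ ⊥ := by
      rintro rfl
      apply hcon
      rw [Ideal.height_bot]
      exact zero_lt_one
    have hlo : q.LiesOver p := ⟨rfl⟩
    obtain ⟨P, hPlt, hP, hPlo⟩ := Ideal.exists_ideal_lt_liesOver_of_lt (p := p₁) (q := p) q hlt
    have hP0 : P ≠ ⊥ := by
      intro h0
      have h1 : p₁ = P.under A := hPlo.over
      rw [h0, Ideal.under_def, Ideal.comap_bot_of_injective _ hinj] at h1
      exact hp₁0 h1
    have h1 : 1 ≤ P.height := Groth.Agent.Lib.Helper39.IntCl.one_le_height_of_ne_bot' P hP0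
    have h2 : P.height < q.height := Ideal.height_strict_mono_of_isPrime_of_isPrime hPlt
    rw [hq] at h2
    exact absurd h1 (not_le.mpr h2)
  · exact Groth.Agent.Lib.Helper39.IntCl.one_le_height_of_ne_bot' p hne

omit [Algebra A B] [Module.Flat A B] [IsDomain A] in
/-- Comparing exponents of an element of a prime ideal. -/
theorem pow_eq_of_mul_pow_eq (q : Ideal B) [hq : q.IsPrime] (ϖ U₁ U₂ : B) (hϖ : ϖ ∈ q)
    (hϖ0 : ϖ ≠ 0) (hU₁ : U₁ ∉ q) (hU₂ : U₂ ∉ q) (k m : ℕ) (h : U₁ * ϖ ^ k = U₂ * ϖ ^ m) :
    k = m := by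
  have key : ∀ (V₁ V₂ : B) (a b : ℕ), V₁ ∉ q → V₁ * ϖ ^ a = V₂ * ϖ ^ b → ¬ a < b := by
    intro V₁ V₂ a b hV₁ hab hlt
    obtain ⟨c, rfl⟩ : ∃ c, b = a + (c + 1) := ⟨b - a - 1, by omega⟩
    have h1 : ϖ ^ a * V₁ = ϖ ^ a * (V₂ * ϖ ^ (c + 1)) := by
      rw [pow_add] at hab
      linear_combination hab
    have h2 := mul_left_cancel₀ (pow_ne_zero a hϖ0) h1
    apply hV₁
    rw [h2]
    exact q.mul_mem_left _ (q.pow_mem_of_mem hϖ (c + 1) (by omega))
  have h1 := key U₁ U₂ k m hU₁ h
  have h2 := key U₂ U₁ m k hU₂ h.symm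
  omega

end GoingDown

section Main

variable {A B : Type u} [CommRing A] [IsDomain A] [IsNoetherianRing A] [IsLocalRing A]
  [IsIntegrallyClosed A] [CommRing B] [IsDomain B] [IsNoetherianRing B] [IsLocalRing B]
  [IsIntegrallyClosed B] [Algebra A B] [IsLocalHom (algebraMap A B)] [Module.Flat A B]

theorem main (f : A) (h : B) (n : ℕ) (hn : 1 < n) (w : Bˣ)
    (hf : algebraMap A B f = (w : B) * h ^ n)
    (hram : ∀ (p : Ideal A) [p.IsPrime], p.height = 1 →
      ∃ (q : Ideal B) (_ : q.IsPrime), q.height = 1 ∧ q.comap (algebraMap A B) = p ∧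
        Ideal.map (algebraMap B (Localization.AtPrime q)) (Ideal.map (algebraMap A B) p) =
          IsLocalRing.maximalIdeal (Localization.AtPrime q)) :
    ∃ (g : A) (u : Aˣ), f = (u : A) * g ^ n := by
  classical
  set φ := algebraMap A B with hφ
  have hff : Module.FaithfullyFlat A B := Module.FaithfullyFlat.of_flat_of_isLocalHom
  have hφinj : Function.Injective φ := FaithfulSMul.algebraMap_injective A B
  have hn0 : n ≠ 0 := by omega
  by_cases hf0 : f = 0
  · refine ⟨0, 1, ?_⟩
    rw [hf0, zero_pow hn0, mul_zero]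
  have hh0 : h ≠ 0 := by
    rintro rfl
    apply hf0
    apply hφinj
    rw [hf, zero_pow hn0, mul_zero, map_zero]
  -- faithful flatness: divisibility descends
  have hdesc : ∀ a b : A, φ a ∣ φ b → a ∣ b := by
    intro a b hab
    have h1 : φ b ∈ (Ideal.span {a}).map φ := by
      rw [Ideal.map_span, Set.image_singleton, Ideal.mem_span_singleton]
      exact hab
    have h2 : b ∈ ((Ideal.span {a}).map φ).comap φ := h1
    rw [Ideal.comap_map_eq_self_of_faithfullyFlat] at h2
    exact Ideal.mem_span_singleton.mp h2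
  -- (ii): elements of `hB ∩ A` generating `hB` at every height-one prime
  have hii : ∀ q : Ideal B, q.IsPrime → q.height = 1 →
      ∃ (x : A) (y : B), φ x = h * y ∧ y ∉ q := by
    intro q hq hqht
    set p := q.comap φ with hp
    have hpp : p.IsPrime := Ideal.comap_isPrime _ _
    by_cases hfp : f ∈ p
    · have hpne : p ≠ ⊥ := by
        intro hbot
        rw [hbot] at hfp
        exact hf0 hfp
      have hpht : p.height = 1 := height_comap_eq_one_of_flat hφinj q hqht hpne
      obtain ⟨π, hπp, hπgen⟩ := exists_uniformizer p hpht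
      obtain ⟨k, s, a, hs, ha, hsf⟩ := exists_eq_mul_pow p hpht π hπp hπgen f hf0
      obtain ⟨q', hq', hq'ht, hq'p, hq'max⟩ := hram p hpht
      have hπ0 : π ≠ 0 := by
        rintro rfl
        obtain ⟨t, ht, c, hc⟩ := hπgen f hfp
        rw [zero_mul] at hc
        rcases mul_eq_zero.mp hc with h1 | h1
        · exact ht (h1 ▸ p.zero_mem)
        · exact hf0 h1
      have hπ' : φ π ∈ q' := by
        have : π ∈ q'.comap φ := by rw [hq'p]; exact hπp
        exact this
      have hnotq' : ∀ t : A, t ∉ p → φ t ∉ q' := by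
        intro t ht hmem
        apply ht
        rw [← hq'p]
        exact hmem
      let R' := Localization.AtPrime q'
      have hinj' := IsLocalization.injective R' q'.primeCompl_le_nonZeroDivisors
      have hmaxle : maximalIdeal R' ≤ Ideal.span {algebraMap B R' (φ π)} := by
        rw [← hq'max, Ideal.map_le_iff_le_comap, Ideal.map_le_iff_le_comap]
        intro z₀ hz₀
        obtain ⟨t₀, ht₀, c₀, hc₀⟩ := hπgen z₀ hz₀
        show algebraMap B R' (φ z₀) ∈ Ideal.span {algebraMap B R' (φ π)}
        rw [Ideal.mem_span_singleton]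
        have hu : IsUnit (algebraMap B R' (φ t₀)) :=
          IsLocalization.map_units R' (⟨φ t₀, hnotq' t₀ ht₀⟩ : q'.primeCompl)
        rw [← hu.dvd_mul_left, ← map_mul, ← map_mul, hc₀, map_mul, map_mul]
        exact Dvd.intro _ rfl
      have hπ'gen : ∀ z ∈ q', ∃ t, t ∉ q' ∧ φ π ∣ t * z := by
        intro z hz
        have hzmem : algebraMap B R' z ∈ maximalIdeal R' :=
          (IsLocalization.AtPrime.to_map_mem_maximal_iff _ q' z).mpr hz
        have := hmaxle hzmem
        rw [Ideal.mem_span_singleton'] at this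
        obtain ⟨c, hc⟩ := this
        obtain ⟨c₀, t₁, hct⟩ := IsLocalization.exists_mk'_eq q'.primeCompl c
        refine ⟨t₁, t₁.2, c₀, ?_⟩
        apply hinj'
        have h1 : algebraMap B R' t₁ * c = algebraMap B R' c₀ := by
          rw [← hct, IsLocalization.mk'_spec']
        rw [map_mul, map_mul, ← hc, ← h1]
        ring
      obtain ⟨j, sh, ah, hsh, hah, hshh⟩ :=
        exists_eq_mul_pow q' hq'ht (φ π) hπ' hπ'gen h hh0
      have hkj : k = n * j := by
        have hπ'0 : φ π ≠ 0 := by
          rw [Ne, map_eq_zero_iff _ hφinj]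
          exact hπ0
        refine pow_eq_of_mul_pow_eq q' (φ π) (sh ^ n * φ a) (φ s * (w : B) * ah ^ n) hπ' hπ'0
          ?_ ?_ k (n * j) ?_
        · intro hmem
          rcases hq'.mem_or_mem hmem with h1 | h1
          · exact hsh (hq'.mem_of_pow_mem _ h1)
          · exact hnotq' a ha h1
        · intro hmem
          rcases hq'.mem_or_mem hmem with h1 | h1
          · rcases hq'.mem_or_mem h1 with h2 | h2
            · exact hnotq' s hs h2
            · exact hq'.ne_top (q'.eq_top_of_isUnit_mem h2 w.isUnit)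
          · exact hah (hq'.mem_of_pow_mem _ h1)
        · have e1 : φ s * φ f = φ a * φ π ^ k := by
            rw [← map_mul, hsf, map_mul, map_pow]
          have e2 : sh ^ n * h ^ n = ah ^ n * φ π ^ (n * j) := by
            rw [← mul_pow, hshh, mul_pow, ← pow_mul, mul_comm j n]
          rw [hf] at e1
          linear_combination (-(sh ^ n)) * e1 + (φ s * (w : B)) * e2
      -- the element `x`
      obtain ⟨m, rfl⟩ : ∃ m, n = m + 1 := ⟨n - 1, by omega⟩
      have hxpow : (s * a * π ^ j) ^ (m + 1) = f * (s ^ (m + 2) * a ^ m) := by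
        rw [hkj] at hsf
        have : π ^ ((m + 1) * j) = (π ^ j) ^ (m + 1) := by rw [mul_comm, pow_mul]
        rw [this] at hsf
        linear_combination (-(s ^ (m + 1) * a ^ m)) * hsf
      have ha' : s ^ (m + 2) * a ^ m ∉ p := by
        intro hmem
        rcases hpp.mem_or_mem hmem with h1 | h1
        · exact hs (hpp.mem_of_pow_mem _ h1)
        · exact ha (hpp.mem_of_pow_mem _ h1)
      have hdvd : h ^ (m + 1) ∣ (φ (s * a * π ^ j)) ^ (m + 1) := by
        rw [← map_pow, hxpow, map_mul, hf]
        exact ⟨(w : B) * φ (s ^ (m + 2) * a ^ m), by ring⟩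
      obtain ⟨y, hy⟩ := (IsIntegrallyClosed.pow_dvd_pow_iff hn0).mp hdvd
      refine ⟨s * a * π ^ j, y, hy, ?_⟩
      intro hyq
      have hypow : y ^ (m + 1) = (w : B) * φ (s ^ (m + 2) * a ^ m) := by
        apply mul_left_cancel₀ (pow_ne_zero (m + 1) hh0)
        rw [← mul_pow, ← hy, ← map_pow, hxpow, map_mul, hf]
        ring
      have h1 : (w : B) * φ (s ^ (m + 2) * a ^ m) ∈ q := by
        rw [← hypow]
        exact q.pow_mem_of_mem hyq _ (by omega)
      have h2 : φ (s ^ (m + 2) * a ^ m) ∈ q := (Ideal.unit_mul_mem_iff_mem q w.isUnit).mp h1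
      exact ha' h2
    · refine ⟨f, (w : B) * h ^ (n - 1), ?_, ?_⟩
      · rw [hf]
        obtain ⟨m, rfl⟩ : ∃ m, n = m + 1 := ⟨n - 1, by omega⟩
        simp only [Nat.add_sub_cancel]
        ring
      · intro hmem
        apply hfp
        show φ f ∈ q
        rw [hf]
        have hhq : h ∈ q := by
          rcases hq.mem_or_mem hmem with h1 | h1
          · exact absurd (q.eq_top_of_isUnit_mem h1 w.isUnit) hq.ne_top
          · exact hq.mem_of_pow_mem _ h1
        exact q.mul_mem_left _ (q.pow_mem_of_mem hhq n (by omega))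
  obtain ⟨m, rfl⟩ : ∃ m, n = m + 1 := ⟨n - 1, by omega⟩
  -- the ideals `𝔞 = hB ∩ A` and `𝔠 = (f : 𝔞)`
  let 𝔞 : Ideal A := (Ideal.span {h}).comap φ
  let 𝔠 : Ideal A := (Ideal.span {f}).colon (𝔞 : Set A)
  have hX : ∀ c ∈ 𝔠, h ^ m ∣ φ c := by
    intro c hc
    apply dvd_of_forall_height_one _ _ (pow_ne_zero _ hh0)
    intro q hq hqht
    obtain ⟨x, y, hxy, hyq⟩ := hii q hq hqht
    refine ⟨y, hyq, ?_⟩
    have hx𝔞 : x ∈ 𝔞 := by
      show φ x ∈ Ideal.span {h}
      rw [hxy]
      exact Ideal.mul_mem_right _ _ (Ideal.mem_span_singleton_self h)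
    have hcx := Submodule.mem_colon.mp hc x hx𝔞
    rw [smul_eq_mul, Ideal.mem_span_singleton] at hcx
    obtain ⟨e, he⟩ := hcx
    have h1 : φ c * (h * y) = (w : B) * h ^ (m + 1) * φ e := by
      rw [← hxy, ← map_mul, he, map_mul, hf]
    refine ⟨(w : B) * φ e, ?_⟩
    apply mul_left_cancel₀ hh0
    linear_combination h1
  have hY : h ^ m ∈ 𝔠.map φ := by
    obtain ⟨r, x, hx⟩ := Submodule.fg_iff_exists_fin_generating_family.mp
      (IsNoetherian.noetherian 𝔞)
    have hxmem : ∀ i, x i ∈ 𝔞 := fun i => hx ▸ Submodule.subset_span ⟨i, rfl⟩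
    have hxdvd : ∀ i, ∃ y : B, φ (x i) = h * y := fun i =>
      Ideal.mem_span_singleton.mp (hxmem i)
    choose y hy using hxdvd
    have hmem := mem_map_colon_range_of_flat f x (h ^ m)
      (fun i => ((w⁻¹ : Bˣ) : B) * y i) (fun i => by
        show φ (x i) * h ^ m = φ f * _
        rw [hy i, hf]
        have hw : (w : B) * ((w⁻¹ : Bˣ) : B) = 1 := Units.mul_inv w
        linear_combination (-(h ^ (m + 1) * y i)) * hw)
    refine Ideal.map_mono ?_ hmem
    intro c hc
    rw [Submodule.mem_colon] at hc ⊢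
    intro z hz
    have key : ∀ z ∈ Submodule.span A (Set.range x), c • z ∈ Ideal.span {f} := by
      intro z hz
      induction hz using Submodule.span_induction with
      | mem z hz => exact hc z hz
      | zero => rw [smul_zero]; exact Submodule.zero_mem _
      | add z₁ z₂ _ _ h₁ h₂ => rw [smul_add]; exact Submodule.add_mem _ h₁ h₂
      | smul t z _ h₁ => rw [smul_comm]; exact Submodule.smul_mem _ _ h₁
    exact key z (by rw [hx]; exact hz)
  -- a generator
  let E : Ideal B := Ideal.span {e | ∃ c ∈ 𝔠, φ c = h ^ m * e}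
  have hle : 𝔠.map φ ≤ Ideal.span {h ^ m} * E := by
    rw [Ideal.map_le_iff_le_comap]
    intro c hc
    obtain ⟨e, he⟩ := hX c hc
    show φ c ∈ Ideal.span {h ^ m} * E
    rw [he]
    exact Ideal.mul_mem_mul (Ideal.mem_span_singleton_self _) (Ideal.subset_span ⟨c, hc, he⟩)
  have h1E : (1 : B) ∈ E := by
    have := hle hY
    rw [Ideal.mem_span_singleton_mul] at this
    obtain ⟨z, hz, hzz⟩ := this
    have : z = 1 := mul_left_cancel₀ (pow_ne_zero m hh0) (by rw [hzz, mul_one])
    rwa [this] at hz
  obtain ⟨c, hc, e, hce, heu⟩ : ∃ c ∈ 𝔠, ∃ e, φ c = h ^ m * e ∧ IsUnit e := by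
    by_contra hcon
    push Not at hcon
    have hEle : E ≤ maximalIdeal B := by
      rw [Ideal.span_le]
      rintro e ⟨c, hc, he⟩
      exact (IsLocalRing.mem_maximalIdeal e).mpr (hcon c hc e he)
    exact (Ideal.ne_top_iff_one _).mp (IsLocalRing.maximalIdeal.isMaximal B).ne_top (hEle h1E)
  obtain ⟨eu, rfl⟩ := heu
  have hc0 : φ c ≠ 0 := by
    rw [hce]
    exact mul_ne_zero (pow_ne_zero m hh0) eu.ne_zero
  have heinv : (eu : B) * ((eu⁻¹ : Bˣ) : B) = 1 := Units.mul_inv eu
  have hcf : φ c ∣ φ f := by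
    refine ⟨(w : B) * h * ((eu⁻¹ : Bˣ) : B), ?_⟩
    rw [hf, hce]
    linear_combination (-((w : B) * h ^ (m + 1))) * heinv
  obtain ⟨g, hg⟩ := hdesc c f hcf
  have hφg : φ g = (w : B) * h * ((eu⁻¹ : Bˣ) : B) := by
    apply mul_left_cancel₀ hc0
    rw [← map_mul, ← hg, hf, hce]
    linear_combination (-((w : B) * h ^ (m + 1))) * heinv
  have hassoc1 : Associated h (φ g) := ⟨w * eu⁻¹, by rw [hφg]; push_cast; ring⟩
  have hassoc2 : Associated (φ f) (h ^ (m + 1)) := by
    rw [hf]
    exact associated_unit_mul_left _ _ w.isUnit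
  have hassoc3 : Associated (φ f) (φ (g ^ (m + 1))) := by
    rw [map_pow]
    exact hassoc2.trans (hassoc1.pow_pow)
  have h1 : f ∣ g ^ (m + 1) := hdesc _ _ hassoc3.dvd
  have h2 : g ^ (m + 1) ∣ f := hdesc _ _ hassoc3.symm.dvd
  obtain ⟨u, hu⟩ := associated_of_dvd_dvd h2 h1
  exact ⟨g, u, by rw [← hu, mul_comm]⟩

end Main

end Groth.Agent.Lib.Helper38.WeakUnram
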