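import Mathlib
import Groth.Agent.S9392
import Groth.Agent.S9394
import Groth.Agent.S9398

set_option autoImplicit false
universe u
open CAlg

namespace Groth.Agent.Lib.Helper38.Nagata

theorem isN2_quot_congr {R : Type u} [CommRing R] (q q' : Ideal R) (h : q = q') [hq : q.IsPrime]
    [hq' : q'.IsPrime] (hN : CAlg.IsN2 (R ⧸ q')) : CAlg.IsN2 (R ⧸ q) := by
  subst h; exact hN

/-- Nagata passes to arbitrary localizations (any model). -/
theorem isNagata_of_isLocalization (A : Type u) [CommRing A] (hA : CAlg.IsNagata A)
    (M : Submonoid A) (S : Type u) [CommRing S] [Algebra A S] [IsLocalization M S] :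
    CAlg.IsNagata S := by
  obtain ⟨hNoeth, hN2⟩ := hA
  refine ⟨IsLocalization.isNoetherianRing M S hNoeth, ?_⟩
  intro q hq
  let p : Ideal A := q.comap (algebraMap A S)
  have hp : p.IsPrime := Ideal.comap_isPrime _ _
  have hqp : q = p.map (algebraMap A S) := (IsLocalization.map_comap M S q).symm
  have hq' : (p.map (algebraMap A S)).IsPrime := hqp ▸ hq
  refine isN2_quot_congr q _ hqp ?_
  exact Groth.Agent.S9392.result (A ⧸ p) (Algebra.algebraMapSubmonoid (A ⧸ p) M)
    (S ⧸ p.map (algebraMap A S)) (hN2 p)

/-- Nagata is local on a finite principal cover (any models of the localizations). -/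
theorem isNagata_of_cover (R : Type u) [CommRing R]
    {ι : Type u} [Finite ι] (f : ι → R) (hf : Ideal.span (Set.range f) = ⊤)
    (Rf : ι → Type u) [∀ i, CommRing (Rf i)] [∀ i, Algebra R (Rf i)]
    [∀ i, IsLocalization.Away (f i) (Rf i)]
    (h : ∀ i, CAlg.IsNagata (Rf i)) : CAlg.IsNagata R := by
  classical
  have _ := Fintype.ofFinite ι
  refine ⟨?_, ?_⟩
  · apply AlgebraicGeometry.isNoetherianRing_of_away (Finset.univ.image f)
      (by rw [Finset.coe_image, Finset.coe_univ, Set.image_univ]; exact hf)
    rintro ⟨s, hs⟩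
    obtain ⟨i, -, rfl⟩ := Finset.mem_image.mp hs
    have := (h i).1
    exact isNoetherianRing_of_ringEquiv (Rf i)
      (IsLocalization.algEquiv (Submonoid.powers (f i)) (Rf i) (Localization.Away (f i))).toRingEquiv
  · intro p hp
    let ι' : Type u := {i : ι // f i ∉ p}
    let g : ι' → R ⧸ p := fun i => Ideal.Quotient.mk p (f i.1)
    have hg : Ideal.span (Set.range g) = ⊤ := by
      have h1 : Ideal.span (Set.range fun i => Ideal.Quotient.mk p (f i)) = ⊤ := by
        have := congrArg (Ideal.map (Ideal.Quotient.mk p)) hf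
        rw [Ideal.map_span, Ideal.map_top, ← Set.range_comp] at this
        exact this
      rw [eq_top_iff, ← h1, Ideal.span_le]
      rintro _ ⟨i, rfl⟩
      by_cases hi : f i ∈ p
      · have : Ideal.Quotient.mk p (f i) = 0 := Ideal.Quotient.eq_zero_iff_mem.mpr hi
        simp only [this]
        exact zero_mem _
      · exact Ideal.subset_span ⟨⟨i, hi⟩, rfl⟩
    let q : ∀ i : ι', Ideal (Rf i.1) := fun i => p.map (algebraMap R (Rf i.1))
    have hq : ∀ i, (q i).IsPrime := fun i =>
      IsLocalization.isPrime_of_isPrime_disjoint (Submonoid.powers (f i.1)) _ p hp (by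
        rw [Set.disjoint_left]
        rintro _ ⟨n, rfl⟩ hmem
        exact i.2 (hp.mem_of_pow_mem n hmem))
    have hloc : ∀ i : ι', IsLocalization.Away (g i) (Rf i.1 ⧸ q i) := by
      intro i
      have := (inferInstance : IsLocalization (Algebra.algebraMapSubmonoid (R ⧸ p)
        (Submonoid.powers (f i.1))) (Rf i.1 ⧸ p.map (algebraMap R (Rf i.1))))
      rwa [Algebra.algebraMapSubmonoid_powers] at this
    exact Groth.Agent.S9394.result (R ⧸ p) g hg (fun i => Rf i.1 ⧸ q i)
      (fun i => (h i.1).2 (q i))

theorem isUniversallyJapanese_of_isLocalization (R : Type u) [CommRing R]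
    (hR : CAlg.IsUniversallyJapanese R) (M : Submonoid R) (S : Type u) [CommRing S] [Algebra R S]
    [IsLocalization M S] : CAlg.IsUniversallyJapanese S := by
  have := Algebra.EssFiniteType.of_isLocalization S M
  exact Groth.Agent.S9398.result R hR S

/-- Universally Japanese is local on a finite principal cover (any models). -/
theorem isUniversallyJapanese_of_cover (R : Type u) [CommRing R]
    {ι : Type u} [Finite ι] (f : ι → R) (hf : Ideal.span (Set.range f) = ⊤)
    (Rf : ι → Type u) [∀ i, CommRing (Rf i)] [∀ i, Algebra R (Rf i)]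
    [∀ i, IsLocalization.Away (f i) (Rf i)]
    (h : ∀ i, CAlg.IsUniversallyJapanese (Rf i)) :
    CAlg.IsUniversallyJapanese R := by
  intro S _ _ _ hft
  let ι' : Type u := {i : ι // algebraMap R S (f i) ≠ 0}
  let g : ι' → S := fun i => algebraMap R S (f i.1)
  have hg : Ideal.span (Set.range g) = ⊤ := by
    have h1 : Ideal.span (Set.range fun i => algebraMap R S (f i)) = ⊤ := by
      have := congrArg (Ideal.map (algebraMap R S)) hf
      rw [Ideal.map_span, Ideal.map_top, ← Set.range_comp] at this
      exact this
    rw [eq_top_iff, ← h1, Ideal.span_le]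
    rintro _ ⟨i, rfl⟩
    by_cases hi : algebraMap R S (f i) = 0
    · simp only [hi]
      exact zero_mem _
    · exact Ideal.subset_span ⟨⟨i, hi⟩, rfl⟩
  have hdom : ∀ i : ι', IsDomain (Localization.Away (g i)) := fun i =>
    IsLocalization.isDomain_localization (powers_le_nonZeroDivisors_of_noZeroDivisors i.2)
  apply Groth.Agent.S9394.result S g hg (fun i => Localization.Away (g i))
  intro i
  have hu : IsUnit (algebraMap R (Localization.Away (g i)) (f i.1)) := by
    rw [IsScalarTower.algebraMap_apply R S (Localization.Away (g i))]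
    exact IsLocalization.Away.algebraMap_isUnit (g i)
  let _ : Algebra (Rf i.1) (Localization.Away (g i)) :=
    (IsLocalization.Away.lift (f i.1) hu).toAlgebra
  have htower : IsScalarTower R (Rf i.1) (Localization.Away (g i)) :=
    IsScalarTower.of_algebraMap_eq fun x => (IsLocalization.Away.lift_eq (f i.1) hu x).symm
  have hft1 : Algebra.FiniteType S (Localization.Away (g i)) :=
    IsLocalization.finiteType_of_monoid_fg (Submonoid.powers (g i)) _
  have hft2 : Algebra.FiniteType R (Localization.Away (g i)) := Algebra.FiniteType.trans hft hft1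
  have hft3 : Algebra.FiniteType (Rf i.1) (Localization.Away (g i)) :=
    Algebra.FiniteType.of_restrictScalars_finiteType R _ _
  exact h i.1 (Localization.Away (g i)) hft3

end Groth.Agent.Lib.Helper38.Nagata
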