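import Mathlib

/-!
# Core of "Nagata local domains are analytically unramified" (helper38)

Abstract form of Stacks 0330/0331: `isReduced_of_forall_prime`: `B` a Noetherian integrally closed
domain, `C` a flat Noetherian `B`-algebra, `x ≠ 0` in `B` mapping into the Jacobson radical of `C`;
if for every prime `p ∋ x` all nilpotents of `C` lie in `pC` (i.e. `C/pC` is reduced), then `C` is
reduced.  Auxiliary: flat base change of colon ideals (`mem_map_colon_of_mul_eq_mul`), associated
primes of principal ideals in normal domains are locally principal (`exists_locally_principal`).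
-/

set_option autoImplicit false

namespace Groth.Agent.Lib.Helper38.AnalUnramCore

open Ideal

section Flat

variable {B : Type*} [CommRing B] {C : Type*} [CommRing C] [Algebra B C]

/-- Flat base change of colon ideals, elementwise: if `s y = x z` in a flat `B`-algebra `C` then
`y` lies in the extension of `(xB : s)`. -/
theorem mem_map_colon_of_mul_eq_mul [Module.Flat B C] (s x : B) (y z : C)
    (h : algebraMap B C s * y = algebraMap B C x * z) :
    y ∈ ((Ideal.span {x}).colon {s}).map (algebraMap B C) := by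
  obtain ⟨k, a, w, hw, ha⟩ := Module.Flat.isTrivialRelation_of_sum_smul_eq_zero (R := B) (M := C)
    (f := ![s, -x]) (x := ![y, z]) (by simp [Fin.sum_univ_two, Algebra.smul_def, h])
  have hy := hw 0
  simp only [Matrix.cons_val_zero] at hy
  rw [hy]
  refine Ideal.sum_mem _ fun j _ => ?_
  rw [Algebra.smul_def]
  refine Ideal.mul_mem_right _ _ (Ideal.mem_map_of_mem _ ?_)
  rw [Submodule.mem_colon_singleton]
  have := ha j
  simp only [Fin.sum_univ_two, Matrix.cons_val_zero, Matrix.cons_val_one] at this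
  rw [Ideal.mem_span_singleton']
  refine ⟨a 1 j, ?_⟩
  rw [smul_eq_mul]
  linear_combination -this

/-- A nonzerodivisor modulo `x` stays so after flat base change. -/
theorem mem_map_span_of_mul_mem [Module.Flat B C] (c x : B)
    (hc : ∀ b : B, c * b ∈ Ideal.span {x} → b ∈ Ideal.span {x}) (w : C)
    (h : algebraMap B C c * w ∈ (Ideal.span {x}).map (algebraMap B C)) :
    w ∈ (Ideal.span {x}).map (algebraMap B C) := by
  rw [Ideal.map_span, Set.image_singleton, Ideal.mem_span_singleton'] at h
  obtain ⟨z, hz⟩ := h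
  have h1 := mem_map_colon_of_mul_eq_mul c x w z (by rw [← hz, mul_comm])
  refine Ideal.map_mono ?_ h1
  intro b hb
  rw [Submodule.mem_colon_singleton, smul_eq_mul] at hb
  exact hc b (by rwa [mul_comm])

theorem isSMulRegular_of_flat [IsDomain B] [Module.Flat B C] {x : B} (hx : x ≠ 0) (w : C)
    (h : algebraMap B C x * w = 0) : w = 0 := by
  have h1 := mem_map_colon_of_mul_eq_mul x 0 w 0 (by rw [h]; simp)
  have h2 : (Ideal.span {(0 : B)}).colon {x} = ⊥ := by
    rw [eq_bot_iff]
    intro b hb
    rw [Submodule.mem_colon_singleton, smul_eq_mul, Ideal.mem_span_singleton'] at hb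
    obtain ⟨a, ha⟩ := hb
    rw [mul_zero] at ha
    rcases mul_eq_zero.mp ha.symm with h | h
    · exact h
    · exact absurd h hx
  rw [h2, Ideal.map_bot] at h1
  exact h1

/-- Lemma G. -/
theorem mem_map_span_of_forall_associatedPrimes [IsNoetherianRing B] [Module.Flat B C] (x : B)
    (y : C)
    (h : ∀ p ∈ associatedPrimes B (B ⧸ Ideal.span {x}), ∃ s : B, s ∉ p ∧
      algebraMap B C s * y ∈ (Ideal.span {x}).map (algebraMap B C)) :
    y ∈ (Ideal.span {x}).map (algebraMap B C) := by
  by_contra hy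
  set I : Ideal C := (Ideal.span {x}).map (algebraMap B C) with hI
  have hne : (Ideal.Quotient.mk I y : C ⧸ I) ≠ 0 := by
    rwa [Ne, Ideal.Quotient.eq_zero_iff_mem]
  obtain ⟨P, hP, hle⟩ := exists_le_isAssociatedPrime_of_isNoetherianRing B
    (Ideal.Quotient.mk I y : C ⧸ I) hne
  rw [isAssociatedPrime_iff] at hP
  obtain ⟨hPprime, w', hPw⟩ := hP
  obtain ⟨w, rfl⟩ := Ideal.Quotient.mk_surjective w'
  have hsmul : ∀ (b : B) (c : C), b • (Ideal.Quotient.mk I c : C ⧸ I) =
      Ideal.Quotient.mk I (algebraMap B C b * c) := by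
    intro b c
    rw [Algebra.smul_def, IsScalarTower.algebraMap_apply B C (C ⧸ I), Ideal.Quotient.algebraMap_eq,
      ← map_mul]
  -- P is not contained in any associated prime of B / x
  have hnot : ¬ ((P : Set B) ⊆ ⋃ p ∈ associatedPrimes B (B ⧸ Ideal.span {x}), (id p : Ideal B)) := by
    intro hsub
    obtain ⟨p, hp, hPp⟩ := (P.subset_union_prime_finite (associatedPrimes.finite ..) (f := id) 0 0
      fun _ h _ _ ↦ h.1).1 hsub
    obtain ⟨s, hs, hsy⟩ := h p hp
    apply hs
    apply hPp
    apply hle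
    rw [Submodule.mem_colon_singleton, Submodule.mem_bot, hsmul, Ideal.Quotient.eq_zero_iff_mem]
    exact hsy
  obtain ⟨c, hcP, hc⟩ := Set.not_subset.mp hnot
  have hreg : ∀ b : B, c * b ∈ Ideal.span {x} → b ∈ Ideal.span {x} := by
    intro b hb
    by_contra hb'
    apply hc
    have : c ∈ ⋃ p ∈ associatedPrimes B (B ⧸ Ideal.span {x}), (p : Set B) := by
      rw [biUnion_associatedPrimes_eq_zero_divisors]
      refine ⟨Ideal.Quotient.mk _ b, ?_, ?_⟩
      · rwa [Ne, Ideal.Quotient.eq_zero_iff_mem]
      · rw [Algebra.smul_def, Ideal.Quotient.algebraMap_eq, ← map_mul,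
          Ideal.Quotient.eq_zero_iff_mem]
        exact hb
    exact this
  have hcw : algebraMap B C c * w ∈ I := by
    rw [hPw, SetLike.mem_coe, Submodule.mem_colon_singleton, Submodule.mem_bot, hsmul,
      Ideal.Quotient.eq_zero_iff_mem] at hcP
    exact hcP
  have hw : w ∈ I := mem_map_span_of_mul_mem c x hreg w hcw
  apply hPprime.ne_top
  rw [hPw, Ideal.eq_top_iff_one, Submodule.mem_colon_singleton, one_smul, Submodule.mem_bot,
    Ideal.Quotient.eq_zero_iff_mem]
  exact hw

/-- Lemma (b): associated primes of principal ideals in a normal Noetherian domain are locally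
principal. -/
theorem exists_locally_principal [IsDomain B] [IsNoetherianRing B]
    [IsIntegrallyClosed B] {x : B} (hx : x ≠ 0) {p : Ideal B}
    (hp : p ∈ associatedPrimes B (B ⧸ Ideal.span {x})) :
    ∃ π ∈ p, ∃ s : B, s ∉ p ∧ ∀ c ∈ p, s * c ∈ Ideal.span {π} := by
  rw [AssociatedPrimes.mem_iff, isAssociatedPrime_iff] at hp
  obtain ⟨hprime, a', hpa⟩ := hp
  obtain ⟨a, rfl⟩ := Ideal.Quotient.mk_surjective a'
  have hmem : ∀ c : B, c ∈ p ↔ ∃ b : B, c * a = x * b := by
    intro c
    rw [hpa, Submodule.mem_colon_singleton, Submodule.mem_bot, Algebra.smul_def,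
      Ideal.Quotient.algebraMap_eq, ← map_mul, Ideal.Quotient.eq_zero_iff_mem,
      Ideal.mem_span_singleton']
    constructor
    · rintro ⟨b, hb⟩; exact ⟨b, by rw [← hb, mul_comm]⟩
    · rintro ⟨b, hb⟩; exact ⟨b, by rw [hb, mul_comm]⟩
  have ha : ¬ ∃ b : B, a = x * b := by
    rintro ⟨b, hb⟩
    apply hprime.ne_top
    rw [Ideal.eq_top_iff_one, hmem]
    exact ⟨b, by rw [one_mul, hb]⟩
  have hxp : x ∈ p := (hmem x).mpr ⟨a, rfl⟩
  by_contra hcon
  push Not at hcon
  -- then z = a / x stabilises p, hence is integral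
  have hstab : ∀ c ∈ p, ∀ b : B, c * a = x * b → b ∈ p := by
    intro c hc b hb
    by_contra hbp
    obtain ⟨c', hc', hcc'⟩ := hcon c hc b hbp
    apply hcc'
    obtain ⟨b', hb'⟩ := (hmem c').mp hc'
    rw [Ideal.mem_span_singleton']
    refine ⟨b', ?_⟩
    apply mul_left_cancel₀ hx
    calc x * (b' * c) = (x * b') * c := by ring
      _ = c' * a * c := by rw [hb']
      _ = c' * (c * a) := by ring
      _ = c' * (x * b) := by rw [hb]
      _ = x * (b * c') := by ring
  let K := FractionRing B
  let z : K := algebraMap B K a / algebraMap B K x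
  have hxK : algebraMap B K x ≠ 0 := by
    rw [Ne, map_eq_zero_iff _ (IsFractionRing.injective B K)]; exact hx
  have hz : IsIntegral B z := by
    refine isIntegral_of_smul_mem_submodule (R := B) (A := K) (M := K)
      (Submodule.map (Algebra.linearMap B K) p) ?_ ?_ z ?_
    · intro h
      have : algebraMap B K x ∈ Submodule.map (Algebra.linearMap B K) p :=
        Submodule.mem_map_of_mem hxp
      rw [h, Submodule.mem_bot] at this
      exact hxK this
    · exact (IsNoetherian.noetherian p).map _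
    · rintro _ ⟨c, hc, rfl⟩
      obtain ⟨b, hb⟩ := (hmem c).mp hc
      refine ⟨b, hstab c hc b hb, ?_⟩
      rw [Algebra.linearMap_apply, Algebra.linearMap_apply, smul_eq_mul]
      have := congrArg (algebraMap B K) hb
      rw [map_mul, map_mul] at this
      show algebraMap B K b = algebraMap B K a / algebraMap B K x * algebraMap B K c
      rw [div_mul_eq_mul_div, eq_div_iff hxK]
      linear_combination -this
  obtain ⟨b, hb⟩ := IsIntegrallyClosed.isIntegral_iff.mp hz
  apply ha
  refine ⟨b, IsFractionRing.injective B K ?_⟩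
  rw [map_mul, hb]
  show algebraMap B K a = algebraMap B K x * (algebraMap B K a / algebraMap B K x)
  rw [mul_div_cancel₀ _ hxK]

/-- Lemma (c). -/
theorem exists_pow_mem_span [IsDomain B] [IsNoetherianRing B]
    {p : Ideal B} [hp : p.IsPrime] {π s x : B} (hs : s ∉ p)
    (hsp : ∀ c ∈ p, s * c ∈ Ideal.span {π}) (hπ : π ∈ p) (hx : x ≠ 0) :
    ∃ (e : ℕ) (t : B), t ∉ p ∧ t * π ^ e ∈ Ideal.span {x} := by
  let L := Localization.AtPrime p
  have hinj : Function.Injective (algebraMap B L) :=
    IsLocalization.injective L p.primeCompl_le_nonZeroDivisors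
  have hsu : IsUnit (algebraMap B L s) := IsLocalization.map_units L (⟨s, hs⟩ : p.primeCompl)
  have hm : IsLocalRing.maximalIdeal L = Ideal.span {algebraMap B L π} := by
    apply le_antisymm
    · rw [← Localization.AtPrime.map_eq_maximalIdeal, Ideal.map_le_iff_le_comap]
      intro c hc
      rw [Ideal.mem_comap]
      obtain ⟨b, hb⟩ := Ideal.mem_span_singleton'.mp (hsp c hc)
      rw [Ideal.mem_span_singleton']
      refine ⟨hsu.unit⁻¹ * algebraMap B L b, ?_⟩
      have := congrArg (algebraMap B L) hb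
      rw [map_mul, map_mul] at this
      rw [mul_assoc, this, ← mul_assoc, IsUnit.val_inv_mul, one_mul]
    · rw [Ideal.span_singleton_le_iff_mem, ← Localization.AtPrime.map_eq_maximalIdeal]
      exact Ideal.mem_map_of_mem _ hπ
  have hkrull : (⨅ n : ℕ, IsLocalRing.maximalIdeal L ^ n) = ⊥ :=
    Ideal.iInf_pow_eq_bot_of_isLocalRing _ (IsLocalRing.maximalIdeal.isMaximal L).ne_top
  have hx' : algebraMap B L x ≠ 0 := by
    rw [Ne, map_eq_zero_iff _ hinj]; exact hx
  have hex : ∃ n : ℕ, algebraMap B L x ∉ IsLocalRing.maximalIdeal L ^ n := by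
    by_contra hcon
    push Not at hcon
    apply hx'
    have : algebraMap B L x ∈ (⨅ n : ℕ, IsLocalRing.maximalIdeal L ^ n) := by
      rw [Ideal.mem_iInf]; exact hcon
    rwa [hkrull, Ideal.mem_bot] at this
  classical
  have hn0 : Nat.find hex ≠ 0 := by
    intro h0
    have := Nat.find_spec hex
    rw [h0, pow_zero, Ideal.one_eq_top] at this
    exact this Submodule.mem_top
  obtain ⟨e, he⟩ := Nat.exists_eq_succ_of_ne_zero hn0
  have hmem : algebraMap B L x ∈ IsLocalRing.maximalIdeal L ^ e := by
    have := Nat.find_min hex (m := e) (by omega)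
    push Not at this
    exact this
  rw [hm, Ideal.span_singleton_pow, Ideal.mem_span_singleton'] at hmem
  obtain ⟨u, hu⟩ := hmem
  have hunit : IsUnit u := by
    by_contra hnu
    have humem : u ∈ IsLocalRing.maximalIdeal L := (IsLocalRing.mem_maximalIdeal u).mpr hnu
    rw [hm, Ideal.mem_span_singleton'] at humem
    obtain ⟨v, hv⟩ := humem
    apply Nat.find_spec hex
    rw [he, hm, Ideal.span_singleton_pow, Ideal.mem_span_singleton']
    refine ⟨v, ?_⟩
    rw [← hu, ← hv, pow_succ]
    ring
  obtain ⟨⟨b, t⟩, hbt⟩ := IsLocalization.mk'_surjective p.primeCompl (hunit.unit⁻¹ : Lˣ).val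
  refine ⟨e, t, t.2, ?_⟩
  rw [Ideal.mem_span_singleton']
  refine ⟨b, hinj ?_⟩
  have h1 : algebraMap B L (π ^ e) = (hunit.unit⁻¹ : Lˣ).val * algebraMap B L x := by
    rw [← hu, ← mul_assoc, IsUnit.val_inv_mul, one_mul, map_pow]
  rw [map_mul, map_mul, h1, ← hbt]
  rw [mul_comm (algebraMap B L b), ← mul_assoc, IsLocalization.mk'_spec']
  ring

/-- Lemma P. -/
theorem exists_mul_mem_map_span [IsDomain B] [IsNoetherianRing B] [Module.Flat B C]
    {p : Ideal B} [hp : p.IsPrime] {π s x : B} (hs : s ∉ p)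
    (hsp : ∀ c ∈ p, s * c ∈ Ideal.span {π}) (hπ : π ∈ p) (hx : x ≠ 0) (hxp : x ∈ p)
    (hN : ∀ y : C, IsNilpotent y → y ∈ p.map (algebraMap B C)) (y : C) (hy : IsNilpotent y) :
    ∃ t : B, t ∉ p ∧ algebraMap B C t * y ∈ (Ideal.span {x}).map (algebraMap B C) := by
  have hs0 : s ≠ 0 := fun h => hs (h ▸ p.zero_mem)
  have hπ0 : π ≠ 0 := by
    rintro rfl
    have := hsp x hxp
    rw [Ideal.mem_span_singleton'] at this
    obtain ⟨b, hb⟩ := this
    rw [mul_zero] at hb
    exact (mul_ne_zero hs0 hx) hb.symm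
  have hstep : ∀ y : C, IsNilpotent y → ∃ y' : C, IsNilpotent y' ∧
      algebraMap B C s * y = algebraMap B C π * y' := by
    intro y hy
    have h1 : algebraMap B C s * y ∈ (Ideal.span {π}).map (algebraMap B C) := by
      have h2 : algebraMap B C s * y ∈ (Ideal.span {s} * p).map (algebraMap B C) := by
        rw [Ideal.map_mul]
        exact Ideal.mul_mem_mul (Ideal.mem_map_of_mem _ (Ideal.mem_span_singleton_self s)) (hN y hy)
      refine Ideal.map_mono ?_ h2
      rw [Ideal.span_singleton_mul_le_iff]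
      exact hsp
    rw [Ideal.map_span, Set.image_singleton, Ideal.mem_span_singleton'] at h1
    obtain ⟨y', hy'⟩ := h1
    refine ⟨y', ?_, by rw [← hy', mul_comm]⟩
    obtain ⟨n, hn⟩ := hy
    refine ⟨n, ?_⟩
    apply isSMulRegular_of_flat (pow_ne_zero n hπ0)
    rw [map_pow, ← mul_pow, mul_comm, hy', mul_pow, hn, mul_zero]
  have hiter : ∀ k : ℕ, ∀ y : C, IsNilpotent y → ∃ y' : C,
      algebraMap B C (s ^ k) * y = algebraMap B C (π ^ k) * y' := by
    intro k
    induction k with
    | zero => intro y _; exact ⟨y, by simp⟩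
    | succ k ih =>
      intro y hy
      obtain ⟨y1, hy1, h1⟩ := hstep y hy
      obtain ⟨y2, h2⟩ := ih y1 hy1
      refine ⟨y2, ?_⟩
      rw [pow_succ, map_mul, mul_assoc, h1, ← mul_assoc, mul_comm (algebraMap B C (s ^ k)),
        mul_assoc, h2, pow_succ, map_mul]
      ring
  obtain ⟨e, t, ht, hte⟩ := exists_pow_mem_span hs hsp hπ hx
  obtain ⟨y', hy'⟩ := hiter e y hy
  refine ⟨t * s ^ e, ?_, ?_⟩
  · intro h
    rcases hp.mem_or_mem h with h | h
    · exact ht h
    · exact hs (hp.mem_of_pow_mem e h)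
  · rw [map_mul, mul_assoc, hy', ← mul_assoc, ← map_mul]
    exact Ideal.mul_mem_right _ _ (Ideal.mem_map_of_mem _ hte)

theorem mem_of_mem_associatedPrimes_quotient_span {x : B} {p : Ideal B}
    (hp : p ∈ associatedPrimes B (B ⧸ Ideal.span {x})) : x ∈ p := by
  rw [AssociatedPrimes.mem_iff] at hp
  apply IsAssociatedPrime.annihilator_le hp
  rw [Submodule.mem_annihilator]
  intro m _
  obtain ⟨b, rfl⟩ := Ideal.Quotient.mk_surjective m
  rw [Algebra.smul_def, Ideal.Quotient.algebraMap_eq, ← map_mul, Ideal.Quotient.eq_zero_iff_mem]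
  exact Ideal.mul_mem_right _ _ (Ideal.mem_span_singleton_self x)

/-- Core theorem. -/
theorem isReduced_of_forall_prime [IsDomain B] [IsNoetherianRing B] [IsIntegrallyClosed B]
    [Module.Flat B C] [IsNoetherianRing C] {x : B} (hx : x ≠ 0)
    (hjac : algebraMap B C x ∈ Ideal.jacobson (⊥ : Ideal C))
    (hN : ∀ (p : Ideal B) [p.IsPrime], x ∈ p → ∀ y : C, IsNilpotent y →
      y ∈ p.map (algebraMap B C)) : IsReduced C := by
  have key : ∀ y : C, IsNilpotent y → ∃ y' : C, IsNilpotent y' ∧ y = algebraMap B C x * y' := by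
    intro y hy
    have h1 : y ∈ (Ideal.span {x}).map (algebraMap B C) := by
      apply mem_map_span_of_forall_associatedPrimes
      intro p hp
      have hprime : p.IsPrime := hp.isPrime
      have hxp := mem_of_mem_associatedPrimes_quotient_span hp
      obtain ⟨π, hπ, s, hs, hsp⟩ := exists_locally_principal hx hp
      exact exists_mul_mem_map_span hs hsp hπ hx hxp (hN p hxp) y hy
    rw [Ideal.map_span, Set.image_singleton, Ideal.mem_span_singleton'] at h1
    obtain ⟨y', hy'⟩ := h1
    refine ⟨y', ?_, by rw [← hy', mul_comm]⟩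
    obtain ⟨n, hn⟩ := hy
    refine ⟨n, ?_⟩
    apply isSMulRegular_of_flat (pow_ne_zero n hx)
    rw [map_pow, ← mul_pow, mul_comm, hy', hn]
  have hbot : nilradical C = ⊥ := by
    apply Submodule.eq_bot_of_le_smul_of_le_jacobson_bot (Ideal.span {algebraMap B C x})
      (nilradical C) (IsNoetherian.noetherian _)
    · intro y hy
      obtain ⟨y', hy', rfl⟩ := key y (mem_nilradical.mp hy)
      rw [smul_eq_mul]
      exact Ideal.mul_mem_mul (Ideal.mem_span_singleton_self _) (mem_nilradical.mpr hy')
    · rw [Ideal.span_singleton_le_iff_mem]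
      exact hjac
  exact nilradical_eq_bot_iff.mp hbot

end Flat

end Groth.Agent.Lib.Helper38.AnalUnramCore
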