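import Mathlib
import Groth.Prelude
import Groth.Agent.S0543
import Groth.Agent.S2114
import Groth.Agent.Lib.Helper63.ComplRing
import Groth.Agent.Lib.Helper58.AdicFunct
import Groth.Agent.Lib.Helper38.AnalUnramCore

/-!
# Nagata domains are analytically unramified (helper38)

* `nilpotent_mem_map_of_isReduced_quotient`: if the completion of `B/p` is reduced, the nilpotents of
  the `J`-adic completion of `B` lie in `p B̂`.
* `isReduced_adicCompletion_of_normal`: the inductive step for normal Noetherian domains.
* `adicMap_injective_of_finite`: the completion of `D` injects into the completion of a finite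
  extension ring `D'`.
* `isReduced_adicCompletion_of_finite`: for `A` Nagata, `D` a domain finite over `A` and ANY ideal
  `J` of `D`, the `J`-adic completion of `D` is reduced (Stacks 0331, generalised to any ideal).
-/

set_option autoImplicit false
universe u

namespace Groth.Agent.Lib.Helper38.AnalUnram

open Ideal Groth.Agent.Lib.Helper58.AdicFunct Groth.Agent.Lib.Helper63.ComplRing

variable {B : Type u} [CommRing B]

/-- (d): if the completion of `B / p` is reduced, nilpotents of the completion of `B` lie in
`p B̂`. -/
theorem nilpotent_mem_map_of_isReduced_quotient [IsNoetherianRing B] (J p : Ideal B)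
    (h : IsReduced (AdicCompletion (J.map (Ideal.Quotient.mk p)) (B ⧸ p)))
    (y : AdicCompletion J B) (hy : IsNilpotent y) :
    y ∈ p.map (algebraMap B (AdicCompletion J B)) := by
  have hJ : J.FG := IsNoetherian.noetherian J
  set J' := J.map (Ideal.Quotient.mk p) with hJ'
  have hle : J ≤ J'.comap (Ideal.Quotient.mk p) := Ideal.le_comap_map
  have h0 : adicMap J J' (Ideal.Quotient.mk p) hle y = 0 :=
    (hy.map (adicMap J J' (Ideal.Quotient.mk p) hle)).eq_zero
  apply mem_of_forall_mem_sup
  intro n
  obtain ⟨b, hb⟩ := exists_sub_mem J hJ y n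
  have h1 : AdicCompletion.evalₐ J n y = Ideal.Quotient.mk (J ^ n) b := by
    have := (mem_map_pow_iff J hJ n _).mp hb
    rw [map_sub, sub_eq_zero] at this
    rw [this, AdicCompletion.algebraMap_apply, Algebra.algebraMap_self, RingHom.id_apply,
      AdicCompletion.evalₐ_of]
  have h2 := evalₐ_adicMap J J' (Ideal.Quotient.mk p) hle n y
  rw [h0, map_zero, h1, Ideal.quotientMap_mk] at h2
  have h3 : Ideal.Quotient.mk p b ∈ J' ^ n := Ideal.Quotient.eq_zero_iff_mem.mp h2.symm
  rw [hJ', ← Ideal.map_pow, Ideal.mem_map_iff_of_surjective _ Ideal.Quotient.mk_surjective] at h3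
  obtain ⟨c, hc, hcb⟩ := h3
  have h4 : b - c ∈ p := by
    rw [← Ideal.Quotient.eq_zero_iff_mem, map_sub, hcb, sub_self]
  have : y = algebraMap B (AdicCompletion J B) (b - c) +
      (algebraMap B (AdicCompletion J B) c + (y - algebraMap B (AdicCompletion J B) b)) := by
    rw [map_sub]; ring
  rw [this]
  refine Submodule.add_mem_sup (Ideal.mem_map_of_mem _ h4) (Ideal.add_mem _ ?_ hb)
  rw [← Ideal.map_pow]
  exact Ideal.mem_map_of_mem _ hc

theorem isReduced_adicCompletion_bot [IsReduced B] : IsReduced (AdicCompletion (⊥ : Ideal B) B) :=
  isReduced_of_injective (AdicCompletion.ofAlgEquiv (⊥ : Ideal B)).symm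
    (AdicCompletion.ofAlgEquiv (⊥ : Ideal B)).symm.injective

/-- Main step: normal Noetherian domain whose proper quotient domains are analytically unramified
(for the extended ideal) is analytically unramified. -/
theorem isReduced_adicCompletion_of_normal [IsDomain B] [IsNoetherianRing B]
    [IsIntegrallyClosed B] (J : Ideal B)
    (hIH : ∀ (p : Ideal B) [p.IsPrime], p ≠ ⊥ →
      IsReduced (AdicCompletion (J.map (Ideal.Quotient.mk p)) (B ⧸ p))) :
    IsReduced (AdicCompletion J B) := by
  by_cases hJ0 : J = ⊥
  · subst hJ0
    exact isReduced_adicCompletion_bot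
  obtain ⟨x, hxJ, hx⟩ := Submodule.exists_mem_ne_zero_of_ne_bot hJ0
  have hJ : J.FG := IsNoetherian.noetherian J
  have hN : IsNoetherianRing (AdicCompletion J B) := Groth.Agent.S0543.result B J
  refine AnalUnramCore.isReduced_of_forall_prime (B := B) (C := AdicCompletion J B) hx ?_ ?_
  · exact map_le_jacobson J hJ (Ideal.mem_map_of_mem _ hxJ)
  · intro p hp hxp y hy
    have hp0 : p ≠ ⊥ := by
      rintro rfl
      exact hx (by simpa using hxp)
    exact nilpotent_mem_map_of_isReduced_quotient J p (hIH p hp0) y hy

/-- (C1) the completion of a ring injects into the completion of a finite extension. -/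
theorem adicMap_injective_of_finite {D D' : Type u} [CommRing D] [CommRing D'] [Algebra D D']
    [IsNoetherianRing D] [Module.Finite D D'] (hinj : Function.Injective (algebraMap D D'))
    (I : Ideal D) :
    Function.Injective (adicMap I (I.map (algebraMap D D')) (algebraMap D D') Ideal.le_comap_map) := by
  rw [injective_iff_map_eq_zero]
  intro y hy
  have hfinj : Function.Injective (AdicCompletion.map I (Algebra.linearMap D D')) :=
    AdicCompletion.map_injective I hinj
  apply hfinj
  rw [map_zero]
  apply AdicCompletion.ext
  intro n
  rw [AdicCompletion.map_val_apply, AdicCompletion.val_zero]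
  have h2 := evalₐ_adicMap I (I.map (algebraMap D D')) (algebraMap D D') Ideal.le_comap_map n y
  rw [hy, map_zero] at h2
  obtain ⟨b, hb⟩ := Submodule.Quotient.mk_surjective _ (y.val n)
  rw [← hb, LinearMap.reduceModIdeal_apply]
  show Submodule.Quotient.mk _ = 0
  rw [Submodule.Quotient.mk_eq_zero, Ideal.smul_top_eq_map]
  have h3 : AdicCompletion.evalₐ I n y = Ideal.Quotient.mk (I ^ n) b := by
    have h : (I ^ n • ⊤ : Ideal D) = I ^ n := by ext x; simp
    rw [← AdicCompletion.factor_eval_eq_evalₐ I y (le_of_eq h), AdicCompletion.eval_apply, ← hb]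
    rfl
  rw [h3, Ideal.quotientMap_mk] at h2
  have h4 := Ideal.Quotient.eq_zero_iff_mem.mp h2.symm
  rw [← Ideal.map_pow] at h4
  exact h4

/-- General theorem: a domain finite over a Nagata ring has reduced `J`-adic completion, for every
ideal `J`. -/
theorem isReduced_adicCompletion_of_finite_aux {A : Type u} [CommRing A] (hA : CAlg.IsNagata A)
    (p : Ideal A) :
    ∀ (D : Type u) [CommRing D] [IsDomain D] [Algebra A D] [Module.Finite A D],
      RingHom.ker (algebraMap A D) = p → ∀ J : Ideal D, IsReduced (AdicCompletion J D) := by
  have hNoeth : IsNoetherianRing A := hA.1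
  induction p using WellFoundedGT.induction with
  | ind p IH =>
  intro D _ _ _ _ hker J
  have hprime : p.IsPrime := hker ▸ RingHom.ker_isPrime _
  have hDN : IsNoetherianRing D :=
    isNoetherian_of_tower A (isNoetherian_of_isNoetherianRing_of_finite A D)
  -- D is an algebra over R = A / p
  let R := A ⧸ p
  have hR2 : CAlg.IsN2 R := hA.2 p
  let φ : R →+* D := Ideal.Quotient.lift p (algebraMap A D) (fun a ha => by
    rw [← hker] at ha; exact ha)
  let _ : Algebra R D := φ.toAlgebra
  have hφinj : Function.Injective (algebraMap R D) := by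
    apply RingHom.lift_injective_of_ker_le_ideal
    intro a ha
    rw [← hker]; exact ha
  have hst : IsScalarTower A R D := IsScalarTower.of_algebraMap_eq (fun a => rfl)
  have hfinRD : Module.Finite R D := Module.Finite.of_restrictScalars_finite A R D
  have hD2 : CAlg.IsN2 D := Groth.Agent.S2114.result (R := R) (S := D) hφinj hR2
  -- the normalization D'
  let K := FractionRing D
  let D' := integralClosure D K
  have hfinDD' : Module.Finite D D' := hD2 K inferInstance
  have hD'N : IsNoetherianRing D' :=
    isNoetherian_of_tower D (isNoetherian_of_isNoetherianRing_of_finite D D')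
  have hnormal : IsIntegrallyClosed D' := integralClosure.isIntegrallyClosedOfFiniteExtension K
  have hinjDD' : Function.Injective (algebraMap D D') := by
    intro a b hab
    apply IsFractionRing.injective D K
    exact congrArg Subtype.val hab
  let _ : Algebra A D' := ((algebraMap D D').comp (algebraMap A D)).toAlgebra
  have hst2 : IsScalarTower A D D' := IsScalarTower.of_algebraMap_eq (fun a => rfl)
  let _ : Algebra R D' := ((algebraMap D D').comp (algebraMap R D)).toAlgebra
  have hst3 : IsScalarTower R D D' := IsScalarTower.of_algebraMap_eq (fun a => rfl)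
  have hfinAD' : Module.Finite A D' := Module.Finite.trans D D'
  have hfinRD' : Module.Finite R D' := Module.Finite.trans D D'
  have hinjRD' : Function.Injective (algebraMap R D') := hinjDD'.comp hφinj
  have hred' : IsReduced (AdicCompletion (J.map (algebraMap D D')) D') := by
    apply isReduced_adicCompletion_of_normal
    intro q' hq' hq'0
    have hlt : p < RingHom.ker (algebraMap A (D' ⧸ q')) := by
      have hle : p ≤ RingHom.ker (algebraMap A (D' ⧸ q')) := by
        intro a ha
        rw [RingHom.mem_ker, IsScalarTower.algebraMap_apply A D' (D' ⧸ q'),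
          IsScalarTower.algebraMap_apply A D D']
        rw [← hker, RingHom.mem_ker] at ha
        rw [ha, map_zero, map_zero]
      refine lt_of_le_of_ne hle ?_
      intro heq
      apply hq'0
      have hint : Algebra.IsIntegral R D' := Algebra.IsIntegral.of_finite R D'
      apply Ideal.eq_bot_of_comap_eq_bot (R := R)
      rw [eq_bot_iff]
      intro r hr
      obtain ⟨a, rfl⟩ := Ideal.Quotient.mk_surjective r
      rw [Ideal.mem_comap] at hr
      have ha : a ∈ RingHom.ker (algebraMap A (D' ⧸ q')) := by
        rw [RingHom.mem_ker, IsScalarTower.algebraMap_apply A D' (D' ⧸ q'),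
          Ideal.Quotient.algebraMap_eq, Ideal.Quotient.eq_zero_iff_mem]
        exact hr
      rw [← heq] at ha
      rw [Ideal.mem_bot, Ideal.Quotient.eq_zero_iff_mem]
      exact ha
    exact IH _ hlt (D' ⧸ q') rfl _
  exact isReduced_of_injective _ (adicMap_injective_of_finite hinjDD' J)

/-- For `A` Nagata, `D` a domain finite over `A` and any ideal `J` of `D`, the `J`-adic completion of
`D` is reduced. -/
theorem isReduced_adicCompletion_of_finite {A : Type u} [CommRing A] (hA : CAlg.IsNagata A)
    (D : Type u) [CommRing D] [IsDomain D] [Algebra A D] [Module.Finite A D] (J : Ideal D) :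
    IsReduced (AdicCompletion J D) :=
  isReduced_adicCompletion_of_finite_aux hA _ D rfl J

/-- A Nagata domain is analytically unramified with respect to any ideal. -/
theorem isReduced_adicCompletion_of_nagata {A : Type u} [CommRing A] [IsDomain A]
    (hA : CAlg.IsNagata A) (J : Ideal A) : IsReduced (AdicCompletion J A) :=
  isReduced_adicCompletion_of_finite hA A J

end Groth.Agent.Lib.Helper38.AnalUnram
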