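import Mathlib
import Groth.Prelude
import Groth.Agent.S9391
import Groth.Agent.S9392
import Groth.Agent.S2114
import Groth.Agent.S2072
import Groth.Agent.Lib.Helper58.AdicFunct
import Groth.Agent.Lib.Helper38.AnalUnramCore

set_option autoImplicit false
universe u
open CAlg

namespace Groth.Agent.Lib.Helper38.NagataFT1

open Groth.Agent.Lib.Helper58.AdicFunct

theorem isN2_of_ringEquiv {A B : Type u} [CommRing A] [IsDomain A] [CommRing B] [IsDomain B]
    (e : A ≃+* B) (h : CAlg.IsN2 A) : CAlg.IsN2 B := by
  let _ : Algebra A B := e.toRingHom.toAlgebra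
  have h1 : IsLocalization (IsUnit.submonoid A) A := IsLocalization.self le_rfl
  have h2 : IsLocalization (IsUnit.submonoid A) B :=
    IsLocalization.isLocalization_of_algEquiv (IsUnit.submonoid A)
      (AlgEquiv.ofRingEquiv (f := e) (fun a => rfl) : A ≃ₐ[A] B)
  exact Groth.Agent.S9392.result A (IsUnit.submonoid A) B h

theorem isN1_of_ringEquiv {A B : Type u} [CommRing A] [IsDomain A] [CommRing B] [IsDomain B]
    (e : A ≃+* B) (h : CAlg.IsN1 A) : CAlg.IsN1 B := by
  let _ : Algebra A B := e.toRingHom.toAlgebra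
  have h1 : IsLocalization (IsUnit.submonoid A) A := IsLocalization.self le_rfl
  have h2 : IsLocalization (IsUnit.submonoid A) B :=
    IsLocalization.isLocalization_of_algEquiv (IsUnit.submonoid A)
      (AlgEquiv.ofRingEquiv (f := e) (fun a => rfl) : A ≃ₐ[A] B)
  exact Groth.Agent.S9391.result A (IsUnit.submonoid A) B h

theorem isN1_of_isIntegrallyClosed (A : Type u) [CommRing A] [IsDomain A] [IsIntegrallyClosed A] :
    CAlg.IsN1 A := by
  have h : integralClosure A (FractionRing A) = ⊥ :=
    (IsIntegrallyClosedIn.integralClosure_eq_bot_iff (FractionRing A)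
      (IsFractionRing.injective A (FractionRing A))).mpr inferInstance
  show Module.Finite A (integralClosure A (FractionRing A))
  rw [h]
  exact Subalgebra.finite_bot

theorem isN2_quot_congr' {R : Type u} [CommRing R] (q q' : Ideal R) (h : q = q') [hq : q.IsPrime]
    [hq' : q'.IsPrime] (hN : CAlg.IsN2 (R ⧸ q')) : CAlg.IsN2 (R ⧸ q) := by
  subst h; exact hN

theorem isNagata_of_surjective {A B : Type u} [CommRing A] [CommRing B] (f : A →+* B)
    (hf : Function.Surjective f) (hA : IsNagata A) : IsNagata B := by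
  have : IsNoetherianRing A := hA.1
  refine ⟨isNoetherianRing_of_surjective A B f hf, fun P hP => ?_⟩
  have hsurj : Function.Surjective ((Ideal.Quotient.mk P).comp f) :=
    Ideal.Quotient.mk_surjective.comp hf
  have hker : RingHom.ker ((Ideal.Quotient.mk P).comp f) = P.comap f := by
    ext x
    rw [RingHom.mem_ker, RingHom.comp_apply, Ideal.Quotient.eq_zero_iff_mem, Ideal.mem_comap]
  have : (P.comap f).IsPrime := Ideal.comap_isPrime f P
  have hkp : (RingHom.ker ((Ideal.Quotient.mk P).comp f)).IsPrime := by rw [hker]; infer_instance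
  have h1 : IsN2 (A ⧸ RingHom.ker ((Ideal.Quotient.mk P).comp f)) :=
    isN2_quot_congr' _ _ hker (hA.2 (P.comap f))
  exact isN2_of_ringEquiv (RingHom.quotientKerEquivOfSurjective hsurj) h1

theorem isN2_of_isNagata (A : Type u) [CommRing A] [IsDomain A] (hA : IsNagata A) : IsN2 A := by
  have : (⊥ : Ideal A).IsPrime := Ideal.isPrime_bot
  exact isN2_of_ringEquiv (RingEquiv.quotientBot A) (hA.2 ⊥)

/-- A finite algebra over a Nagata ring is Nagata. -/
theorem isNagata_of_finite (A B : Type u) [CommRing A] [CommRing B] [Algebra A B] [Module.Finite A B]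
    (hA : IsNagata A) : IsNagata B := by
  have hAN : IsNoetherianRing A := hA.1
  have hBN : IsNoetherianRing B :=
    isNoetherian_of_tower A (isNoetherian_of_isNoetherianRing_of_finite A B)
  refine ⟨hBN, fun P hP => ?_⟩
  let p := P.comap (algebraMap A B)
  have hp : p.IsPrime := Ideal.comap_isPrime _ P
  have hlo : P.LiesOver p := ⟨rfl⟩
  have hinj : Function.Injective (algebraMap (A ⧸ p) (B ⧸ P)) :=
    Ideal.algebraMap_quotient_injective
  have hfin : Module.Finite (A ⧸ p) (B ⧸ P) := inferInstance
  exact Groth.Agent.S2114.result (R := A ⧸ p) (S := B ⧸ P) hinj (hA.2 p)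

/-- Completion at a maximal ideal agrees with the completion of the local ring. -/
theorem isReduced_adicCompletion_atPrime (R : Type u) [CommRing R] (P : Ideal R) [hP : P.IsMaximal]
    [IsReduced (AdicCompletion P R)] :
    IsReduced (AdicCompletion (IsLocalRing.maximalIdeal (Localization.AtPrime P))
      (Localization.AtPrime P)) := by
  let L := Localization.AtPrime P
  have hle : P ≤ (IsLocalRing.maximalIdeal L).comap (algebraMap R L) := by
    rw [← Ideal.map_le_iff_le_comap, Localization.AtPrime.map_eq_maximalIdeal]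
  have hb : Function.Bijective (adicMap P (IsLocalRing.maximalIdeal L) (algebraMap R L) hle) := by
    apply adicMap_bijective
    intro n
    have : ⇑(Ideal.quotientMap (IsLocalRing.maximalIdeal L ^ n) (algebraMap R L)
        (pow_le_comap_pow P _ _ hle n)) =
        ⇑(IsLocalization.AtPrime.equivQuotMaximalIdealPow P L n) := by
      funext z
      obtain ⟨r, rfl⟩ := Ideal.Quotient.mk_surjective z
      rw [Ideal.quotientMap_mk, IsLocalization.AtPrime.equivQuotMaximalIdealPow_apply_mk]
    rw [this]
    exact (IsLocalization.AtPrime.equivQuotMaximalIdealPow P L n).bijective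
  let e := RingEquiv.ofBijective _ hb
  exact isReduced_of_injective e.symm e.symm.injective

/-- (G1) -/
theorem isN1_atPrime_of_isReduced (R : Type u) [CommRing R] [IsDomain R] [IsNoetherianRing R]
    (P : Ideal R) [hP : P.IsMaximal] (h : IsReduced (AdicCompletion P R)) :
    CAlg.IsN1 (Localization.AtPrime P) := by
  have := isReduced_adicCompletion_atPrime R P
  exact Groth.Agent.S2072.result

/-- (G2) -/
theorem isN1_atPrime_of_localization (B : Type u) [CommRing B] [IsDomain B] (S : Submonoid B)
    (B' : Type u) [CommRing B'] [IsDomain B'] [Algebra B B'] [IsLocalization S B']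
    (P' : Ideal B') [P'.IsPrime] (P : Ideal B) [hP : P.IsPrime]
    (hP' : P'.comap (algebraMap B B') = P)
    (h : CAlg.IsN1 (Localization.AtPrime P')) : CAlg.IsN1 (Localization.AtPrime P) := by
  subst hP'
  have : IsLocalization.AtPrime (Localization.AtPrime P') (P'.comap (algebraMap B B')) :=
    IsLocalization.isLocalization_isLocalization_atPrime_isLocalization S
      (Localization.AtPrime P') P'
  let e : Localization.AtPrime (P'.comap (algebraMap B B')) ≃ₐ[B] Localization.AtPrime P' :=
    IsLocalization.algEquiv (P'.comap (algebraMap B B')).primeCompl _ _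
  exact isN1_of_ringEquiv e.symm.toRingEquiv h

section Core

open Groth.Agent.Lib.Helper38.AnalUnramCore

variable {B : Type*} [CommRing B] {C : Type*} [CommRing C] [Algebra B C]

/-- Generalised core: local principality is only required at the associated primes. -/
theorem isReduced_of_forall_ass [IsDomain B] [IsNoetherianRing B]
    [Module.Flat B C] [IsNoetherianRing C] {x : B} (hx : x ≠ 0)
    (hjac : algebraMap B C x ∈ Ideal.jacobson (⊥ : Ideal C))
    (hN : ∀ p ∈ associatedPrimes B (B ⧸ Ideal.span {x}),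
      (∃ π ∈ p, ∃ s : B, s ∉ p ∧ ∀ c ∈ p, s * c ∈ Ideal.span {π}) ∧
      ∀ y : C, IsNilpotent y → y ∈ p.map (algebraMap B C)) : IsReduced C := by
  have key : ∀ y : C, IsNilpotent y → ∃ y' : C, IsNilpotent y' ∧ y = algebraMap B C x * y' := by
    intro y hy
    have h1 : y ∈ (Ideal.span {x}).map (algebraMap B C) := by
      apply mem_map_span_of_forall_associatedPrimes
      intro p hp
      have hprime : p.IsPrime := hp.isPrime
      have hxp := mem_of_mem_associatedPrimes_quotient_span hp
      obtain ⟨⟨π, hπ, s, hs, hsp⟩, hNp⟩ := hN p hp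
      exact exists_mul_mem_map_span hs hsp hπ hx hxp hNp y hy
    rw [Ideal.map_span, Set.image_singleton, Ideal.mem_span_singleton'] at h1
    obtain ⟨y', hy'⟩ := h1
    refine ⟨y', ?_, by rw [← hy', mul_comm]⟩
    obtain ⟨n, hn⟩ := hy
    refine ⟨n, ?_⟩
    apply isSMulRegular_of_flat (pow_ne_zero n hx)
    rw [map_pow, ← mul_pow, mul_comm, hy', hn]
  have hbot : nilradical C = ⊥ := by
    apply Submodule.eq_bot_of_le_smul_of_le_jacobson_bot (Ideal.span {algebraMap B C x})
      (nilradical C) (IsNoetherian.noetherian _)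
    · intro y hy
      obtain ⟨y', hy', rfl⟩ := key y (mem_nilradical.mp hy)
      rw [smul_eq_mul]
      exact Ideal.mul_mem_mul (Ideal.mem_span_singleton_self _) (mem_nilradical.mpr hy')
    · rw [Ideal.span_singleton_le_iff_mem]
      exact hjac
  exact nilradical_eq_bot_iff.mp hbot

theorem mem_ass_iff [IsNoetherianRing B] (x : B) (p : Ideal B) :
    p ∈ associatedPrimes B (B ⧸ Ideal.span {x}) ↔
      p.IsPrime ∧ ∃ a : B, ∀ c : B, c ∈ p ↔ ∃ b : B, c * a = x * b := by
  have hcol : ∀ a c : B, c ∈ (⊥ : Submodule B (B ⧸ Ideal.span {x})).colon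
      {(Ideal.Quotient.mk (Ideal.span {x}) a)} ↔ ∃ b : B, c * a = x * b := by
    intro a c
    rw [Submodule.mem_colon_singleton, Submodule.mem_bot, Algebra.smul_def,
      Ideal.Quotient.algebraMap_eq, ← map_mul, Ideal.Quotient.eq_zero_iff_mem,
      Ideal.mem_span_singleton']
    constructor
    · rintro ⟨b, hb⟩; exact ⟨b, by rw [← hb, mul_comm]⟩
    · rintro ⟨b, hb⟩; exact ⟨b, by rw [hb, mul_comm]⟩
  rw [AssociatedPrimes.mem_iff, isAssociatedPrime_iff]
  constructor
  · rintro ⟨hprime, a', hpa⟩
    obtain ⟨a, rfl⟩ := Ideal.Quotient.mk_surjective a'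
    refine ⟨hprime, a, fun c => ?_⟩
    rw [hpa, hcol]
  · rintro ⟨hprime, a, ha⟩
    refine ⟨hprime, Ideal.Quotient.mk _ a, ?_⟩
    ext c
    rw [ha, hcol]

theorem ass_mul [IsDomain B] [IsNoetherianRing B] {u v : B} (hu : u ≠ 0) {p : Ideal B}
    (h : p ∈ associatedPrimes B (B ⧸ Ideal.span {u * v})) :
    p ∈ associatedPrimes B (B ⧸ Ideal.span {u}) ∨ p ∈ associatedPrimes B (B ⧸ Ideal.span {v}) := by
  rw [mem_ass_iff] at h
  obtain ⟨hprime, z, hz⟩ := h
  by_cases hcase : ∃ r, r ∉ p ∧ ∃ z', r * z = u * z'
  · obtain ⟨r, hr, z', hz'⟩ := hcase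
    right
    rw [mem_ass_iff]
    refine ⟨hprime, z', fun c => ⟨fun hc => ?_, ?_⟩⟩
    · obtain ⟨b, hb⟩ := (hz (c * r)).mp (p.mul_mem_right r hc)
      refine ⟨b, mul_left_cancel₀ hu ?_⟩
      calc u * (c * z') = c * (u * z') := by ring
        _ = c * (r * z) := by rw [hz']
        _ = c * r * z := by ring
        _ = u * v * b := hb
        _ = u * (v * b) := by ring
    · rintro ⟨b, hb⟩
      have : c * r ∈ p := by
        rw [hz]
        refine ⟨b, ?_⟩
        calc c * r * z = c * (r * z) := by ring
          _ = c * (u * z') := by rw [hz']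
          _ = u * (c * z') := by ring
          _ = u * (v * b) := by rw [hb]
          _ = u * v * b := by ring
      rcases hprime.mem_or_mem this with h | h
      · exact h
      · exact absurd h hr
  · push Not at hcase
    left
    rw [mem_ass_iff]
    refine ⟨hprime, z, fun c => ⟨fun hc => ?_, ?_⟩⟩
    · obtain ⟨b, hb⟩ := (hz c).mp hc
      exact ⟨v * b, by rw [hb]; ring⟩
    · rintro ⟨b, hb⟩
      by_contra hc
      exact hcase c hc b hb

theorem ass_prod [IsDomain B] [IsNoetherianRing B] (l : Multiset B) (hl : ∀ u ∈ l, u ≠ 0) {p : Ideal B}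
    (h : p ∈ associatedPrimes B (B ⧸ Ideal.span {l.prod})) :
    ∃ u ∈ l, p ∈ associatedPrimes B (B ⧸ Ideal.span {u}) := by
  induction l using Multiset.induction_on with
  | empty =>
    exfalso
    rw [mem_ass_iff] at h
    obtain ⟨hprime, a, ha⟩ := h
    apply hprime.ne_top
    rw [Ideal.eq_top_iff_one, ha]
    exact ⟨1 * a, by rw [Multiset.prod_zero]; ring⟩
  | cons u l ih =>
    rw [Multiset.prod_cons] at h
    rcases ass_mul (hl u (Multiset.mem_cons_self u l)) h with h | h
    · exact ⟨u, Multiset.mem_cons_self u l, h⟩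
    · obtain ⟨w, hw, hw'⟩ := ih (fun w hw => hl w (Multiset.mem_cons_of_mem hw)) h
      exact ⟨w, Multiset.mem_cons_of_mem hw, hw'⟩

end Core

end Groth.Agent.Lib.Helper38.NagataFT1
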