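import Mathlib
import Groth.Prelude
import Groth.Agent.S0543
import Groth.Agent.Lib.Helper38.NagataFT1
import Groth.Agent.Lib.Helper38.AnalUnram

set_option autoImplicit false
set_option linter.unusedSectionVars false
universe u
open CAlg Polynomial

namespace Groth.Agent.Lib.Helper38.NagataFT2

open Groth.Agent.Lib.Helper38.NagataFT1 Groth.Agent.Lib.Helper38.AnalUnramCore
  Groth.Agent.Lib.Helper38.AnalUnram Groth.Agent.Lib.Helper63.ComplRing

section Setting

variable {A B : Type u} [CommRing A] [CommRing B] [Algebra A B]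

theorem exists_pow_mul_eq (x : B) (hgen : Algebra.adjoin A {x} = ⊤) (a b : A)
    (hab : algebraMap A B a * x = algebraMap A B b) (z : B) :
    ∃ (d : ℕ) (r : A), algebraMap A B a ^ d * z = algebraMap A B r := by
  have hz : z ∈ Algebra.adjoin A {x} := by rw [hgen]; trivial
  induction hz using Algebra.adjoin_induction with
  | mem y hy =>
    rw [Set.mem_singleton_iff] at hy
    subst hy
    exact ⟨1, b, by rw [pow_one, hab]⟩
  | algebraMap r => exact ⟨0, r, by rw [pow_zero, one_mul]⟩
  | add y z _ _ hy hz =>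
    obtain ⟨d₁, r₁, h₁⟩ := hy
    obtain ⟨d₂, r₂, h₂⟩ := hz
    refine ⟨d₁ + d₂, a ^ d₂ * r₁ + a ^ d₁ * r₂, ?_⟩
    rw [map_add, map_mul, map_mul, map_pow, map_pow, ← h₁, ← h₂, pow_add]
    ring
  | mul y z _ _ hy hz =>
    obtain ⟨d₁, r₁, h₁⟩ := hy
    obtain ⟨d₂, r₂, h₂⟩ := hz
    refine ⟨d₁ + d₂, r₁ * r₂, ?_⟩
    rw [map_mul, ← h₁, ← h₂, pow_add]
    ring

theorem exists_eq_add_mul (x : B) (hgen : Algebra.adjoin A {x} = ⊤) (z : B) :
    ∃ (r : A) (z' : B), z = algebraMap A B r + x * z' := by
  have hz : z ∈ Algebra.adjoin A {x} := by rw [hgen]; trivial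
  induction hz using Algebra.adjoin_induction with
  | mem y hy =>
    rw [Set.mem_singleton_iff] at hy
    subst hy
    exact ⟨0, 1, by rw [map_zero, zero_add, mul_one]⟩
  | algebraMap r => exact ⟨r, 0, by rw [mul_zero, add_zero]⟩
  | add y z _ _ hy hz =>
    obtain ⟨r₁, z₁, h₁⟩ := hy
    obtain ⟨r₂, z₂, h₂⟩ := hz
    refine ⟨r₁ + r₂, z₁ + z₂, ?_⟩
    rw [h₁, h₂, map_add]
    ring
  | mul y z _ _ hy hz =>
    obtain ⟨r₁, z₁, h₁⟩ := hy
    obtain ⟨r₂, z₂, h₂⟩ := hz
    refine ⟨r₁ * r₂, algebraMap A B r₁ * z₂ + z₁ * algebraMap A B r₂ + x * z₁ * z₂, ?_⟩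
    rw [h₁, h₂, map_mul]
    ring

variable [IsDomain A] [IsDomain B]

theorem isFractionRing (hinj : Function.Injective (algebraMap A B)) (x : B)
    (hgen : Algebra.adjoin A {x} = ⊤) (a b : A) (ha : a ≠ 0)
    (hab : algebraMap A B a * x = algebraMap A B b) : IsFractionRing A (FractionRing B) := by
  let K := FractionRing B
  have hinjK : Function.Injective (algebraMap A K) := by
    rw [IsScalarTower.algebraMap_eq A B K]
    exact (IsFractionRing.injective B K).comp hinj
  have hf : FaithfulSMul A K := (faithfulSMul_iff_algebraMap_injective A K).mpr hinjK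
  apply IsFractionRing.of_field
  intro z
  obtain ⟨β, γ, hγ, rfl⟩ := IsFractionRing.div_surjective (A := B) z
  obtain ⟨d, r₁, h₁⟩ := exists_pow_mul_eq x hgen a b hab β
  obtain ⟨e, r₂, h₂⟩ := exists_pow_mul_eq x hgen a b hab γ
  have haK : algebraMap B K (algebraMap A B a) ≠ 0 := by
    rw [← IsScalarTower.algebraMap_apply A B K, Ne, map_eq_zero_iff _ hinjK]
    exact ha
  have hγK : algebraMap B K γ ≠ 0 := by
    rw [Ne, map_eq_zero_iff _ (IsFractionRing.injective B K)]
    exact nonZeroDivisors.ne_zero hγ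
  refine ⟨a ^ e * r₁, a ^ d * r₂, ?_⟩
  have e1 : algebraMap A K (a ^ e * r₁) = algebraMap B K (algebraMap A B a) ^ e *
      (algebraMap B K (algebraMap A B a) ^ d * algebraMap B K β) := by
    rw [IsScalarTower.algebraMap_apply A B K, map_mul (algebraMap A B), ← h₁]
    simp only [map_mul, map_pow]
  have e2 : algebraMap A K (a ^ d * r₂) = algebraMap B K (algebraMap A B a) ^ d *
      (algebraMap B K (algebraMap A B a) ^ e * algebraMap B K γ) := by
    rw [IsScalarTower.algebraMap_apply A B K, map_mul (algebraMap A B), ← h₂]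
    simp only [map_mul, map_pow]
  rw [e1, e2, div_eq_div_iff hγK (mul_ne_zero (pow_ne_zero _ haK)
    (mul_ne_zero (pow_ne_zero _ haK) hγK))]
  ring

/-- The key normality claim: `xB ∩ A = xA ∩ A`. -/
theorem exists_eq_mul_of_dvd [IsIntegrallyClosed A] (hinj : Function.Injective (algebraMap A B))
    (x : B) (hgen : Algebra.adjoin A {x} = ⊤) (a b : A) (ha : a ≠ 0)
    (hab : algebraMap A B a * x = algebraMap A B b) (r : A) (w : B)
    (hw : algebraMap A B r = x * w) : ∃ w₀ : A, algebraMap A B r = x * algebraMap A B w₀ := by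
  by_cases hx : x = 0
  · exact ⟨0, by rw [hw, hx, zero_mul, zero_mul]⟩
  by_cases hr : r = 0
  · exact ⟨0, by rw [hr, map_zero, mul_zero]⟩
  let K := FractionRing B
  have hfr : IsFractionRing A K := isFractionRing hinj x hgen a b ha hab
  have hinjK : Function.Injective (algebraMap A K) := IsFractionRing.injective A K
  have hinjBK : Function.Injective (algebraMap B K) := IsFractionRing.injective B K
  have hw' : w ∈ Algebra.adjoin A {x} := by rw [hgen]; trivial
  rw [Algebra.adjoin_singleton_eq_range_aeval, AlgHom.mem_range] at hw'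
  obtain ⟨g, hg⟩ := hw'
  let xK : K := algebraMap B K x
  have hxK : xK ≠ 0 := by
    rw [Ne, map_eq_zero_iff _ hinjBK]; exact hx
  let G : A[X] := X * g - C r
  have hG : aeval xK G = 0 := by
    have h1 : aeval xK g = algebraMap B K w := by
      rw [← hg, aeval_algebraMap_apply]
    rw [map_sub, map_mul, aeval_X, aeval_C, h1, IsScalarTower.algebraMap_apply A B K, hw, map_mul,
      sub_self]
  have hG0 : G.coeff 0 = -r := by
    simp [G]
  have hGne : G ≠ 0 := by
    intro h
    rw [h, coeff_zero] at hG0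
    exact hr (neg_eq_zero.mp hG0.symm)
  have htr : G.trailingCoeff = -r := by
    have h0 : G.natTrailingDegree = 0 := by
      rw [natTrailingDegree_eq_zero]
      right
      rw [hG0]
      exact neg_ne_zero.mpr hr
    rw [trailingCoeff, h0, hG0]
  have hinv : Invertible xK := invertibleOfNonzero hxK
  have hrev : aeval (⅟xK) G.reverse = 0 := by
    rw [aeval_def, eval₂_reverse_eq_zero_iff, ← aeval_def]
    exact hG
  have hint := isIntegral_leadingCoeff_smul G.reverse (⅟xK) hrev
  rw [reverse_leadingCoeff, htr] at hint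
  have hwK : algebraMap B K w = -((-r) • ⅟xK) := by
    rw [Algebra.smul_def, map_neg, neg_mul, neg_neg, IsScalarTower.algebraMap_apply A B K, hw,
      map_mul, mul_comm (algebraMap B K x), mul_assoc, mul_invOf_self, mul_one]
  have hint2 : IsIntegral A (algebraMap B K w) := by
    rw [hwK]; exact hint.neg
  obtain ⟨w₀, hw₀⟩ := IsIntegrallyClosed.isIntegral_iff.mp hint2
  refine ⟨w₀, ?_⟩
  rw [hw]
  congr 1
  apply hinjBK
  rw [← hw₀, IsScalarTower.algebraMap_apply A B K]

/-- Analysis of the associated primes of `B / xB` for `B = A[x]` birational over a normal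
Noetherian domain `A`. -/
theorem ass_analysis [IsIntegrallyClosed A] [IsNoetherianRing A] [IsNoetherianRing B]
    (hinj : Function.Injective (algebraMap A B))
    (x : B) (hgen : Algebra.adjoin A {x} = ⊤) (a b : A) (ha : a ≠ 0)
    (hab : algebraMap A B a * x = algebraMap A B b) (hx : x ≠ 0) (Q : Ideal B)
    (hQ : Q ∈ associatedPrimes B (B ⧸ Ideal.span {x})) :
    (∃ π ∈ Q, ∃ s : B, s ∉ Q ∧ ∀ c ∈ Q, s * c ∈ Ideal.span {π}) ∧
      Function.Surjective (algebraMap A (B ⧸ Q)) := by
  rw [mem_ass_iff] at hQ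
  obtain ⟨hprime, z, hz⟩ := hQ
  have hxQ : x ∈ Q := (hz x).mpr ⟨z, rfl⟩
  have haB : algebraMap A B a ≠ 0 := by
    rw [Ne, map_eq_zero_iff _ hinj]; exact ha
  constructor
  swap
  · intro β'
    obtain ⟨β, rfl⟩ := Ideal.Quotient.mk_surjective β'
    obtain ⟨r, z', hβ⟩ := exists_eq_add_mul x hgen β
    refine ⟨r, ?_⟩
    rw [IsScalarTower.algebraMap_apply A B (B ⧸ Q), Ideal.Quotient.algebraMap_eq,
      Ideal.Quotient.eq, hβ]
    have : algebraMap A B r - (algebraMap A B r + x * z') = -(x * z') := by ring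
    rw [this]
    exact Q.neg_mem (Q.mul_mem_right _ hxQ)
  obtain ⟨z₀, z₁, hz01⟩ := exists_eq_add_mul x hgen z
  have hz' : ∀ c : B, c ∈ Q ↔ ∃ w : B, c * algebraMap A B z₀ = x * w := by
    intro c
    rw [hz c]
    constructor
    · rintro ⟨w, hw⟩
      refine ⟨w - c * z₁, ?_⟩
      rw [hz01] at hw
      linear_combination hw
    · rintro ⟨w, hw⟩
      refine ⟨w + c * z₁, ?_⟩
      rw [hz01]
      linear_combination hw
  let q : Ideal A := Q.comap (algebraMap A B)
  have hqprime : q.IsPrime := Ideal.comap_isPrime _ Q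
  have hq : ∀ t : A, t ∈ q ↔ ∃ w : A, t * (a * z₀) = b * w := by
    intro t
    show algebraMap A B t ∈ Q ↔ _
    rw [hz']
    constructor
    · rintro ⟨w, hw⟩
      rw [← map_mul] at hw
      obtain ⟨w₀, hw₀⟩ := exists_eq_mul_of_dvd hinj x hgen a b ha hab (t * z₀) w hw
      refine ⟨w₀, hinj ?_⟩
      simp only [map_mul]
      rw [← hab]
      rw [map_mul] at hw₀
      linear_combination algebraMap A B a * hw₀
    · rintro ⟨w, hw⟩
      refine ⟨algebraMap A B w, mul_left_cancel₀ haB ?_⟩
      have := congrArg (algebraMap A B) hw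
      rw [map_mul, map_mul, map_mul, ← hab] at this
      linear_combination this
  have hb0 : b ≠ 0 := by
    rintro rfl
    rw [map_zero] at hab
    rcases mul_eq_zero.mp hab with h | h
    · exact haB h
    · exact hx h
  have hqass : q ∈ associatedPrimes A (A ⧸ Ideal.span {b}) :=
    (mem_ass_iff b q).mpr ⟨hqprime, a * z₀, hq⟩
  obtain ⟨π, hπ, s, hs, hsp⟩ := exists_locally_principal hb0 hqass
  have hs0 : s ≠ 0 := fun h => hs (h ▸ q.zero_mem)
  have hbq : b ∈ q := (hq b).mpr ⟨a * z₀, rfl⟩
  have hπ0 : π ≠ 0 := by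
    rintro rfl
    have := hsp b hbq
    rw [Ideal.mem_span_singleton'] at this
    obtain ⟨c, hc⟩ := this
    rw [mul_zero] at hc
    exact (mul_ne_zero hs0 hb0) hc.symm
  obtain ⟨c₁, hc₁⟩ := (hq π).mp hπ
  have hc₁q : c₁ ∉ q := by
    intro h
    obtain ⟨c₂, hc₂⟩ := Ideal.mem_span_singleton'.mp (hsp c₁ h)
    apply hs
    rw [hq]
    refine ⟨c₂, mul_left_cancel₀ hπ0 ?_⟩
    linear_combination s * hc₁ - b * hc₂
  have hc₁x : algebraMap A B c₁ * x = algebraMap A B π * algebraMap A B z₀ := by
    apply mul_left_cancel₀ haB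
    have := congrArg (algebraMap A B) hc₁
    rw [map_mul, map_mul, map_mul, ← hab] at this
    linear_combination -this
  refine ⟨algebraMap A B π, hπ, algebraMap A B (s * c₁), ?_, ?_⟩
  · intro h
    have : s * c₁ ∈ q := h
    rcases hqprime.mem_or_mem this with h | h
    · exact hs h
    · exact hc₁q h
  · intro c hc
    obtain ⟨r, c', hcr⟩ := exists_eq_add_mul x hgen c
    have hrq : r ∈ q := by
      show algebraMap A B r ∈ Q
      have : algebraMap A B r = c - x * c' := by rw [hcr]; ring
      rw [this]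
      exact Q.sub_mem hc (Q.mul_mem_right _ hxQ)
    obtain ⟨r', hr'⟩ := Ideal.mem_span_singleton'.mp (hsp r hrq)
    rw [Ideal.mem_span_singleton']
    refine ⟨algebraMap A B c₁ * algebraMap A B r' + algebraMap A B s * algebraMap A B z₀ * c', ?_⟩
    have h1 := congrArg (algebraMap A B) hr'
    rw [map_mul, map_mul] at h1
    rw [hcr, map_mul]
    linear_combination algebraMap A B c₁ * h1 - algebraMap A B s * c' * hc₁x

theorem adjoin_sub_eq_top (x : B) (hgen : Algebra.adjoin A {x} = ⊤) (c : A) :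
    Algebra.adjoin A {x - algebraMap A B c} = ⊤ := by
  rw [eq_top_iff, ← hgen]
  apply Algebra.adjoin_le
  intro y hy
  rw [Set.mem_singleton_iff] at hy
  subst hy
  have h1 : y - algebraMap A B c ∈ Algebra.adjoin A {y - algebraMap A B c} :=
    Algebra.subset_adjoin (Set.mem_singleton _)
  have h2 := Subalgebra.add_mem _ h1
    (Subalgebra.algebraMap_mem (Algebra.adjoin A {y - algebraMap A B c}) c)
  rwa [sub_add_cancel] at h2

/-- (Lemma E) If a nonzero product of translates `x - c` lies in `J`, the `J`-adic completion of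
`B = A[x]` (birational over a normal Nagata domain `A`) is reduced. -/
theorem isReduced_adicCompletion_of_prod (hA : IsNagata A) [IsIntegrallyClosed A]
    (hinj : Function.Injective (algebraMap A B))
    (x : B) (hgen : Algebra.adjoin A {x} = ⊤) (a b : A) (ha : a ≠ 0)
    (hab : algebraMap A B a * x = algebraMap A B b) (cs : Multiset A) (J : Ideal B)
    (hyJ : (cs.map (fun c => x - algebraMap A B c)).prod ∈ J)
    (hy0 : (cs.map (fun c => x - algebraMap A B c)).prod ≠ 0) :
    IsReduced (AdicCompletion J B) := by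
  have hAN : IsNoetherianRing A := hA.1
  have hft : Algebra.FiniteType A B := ⟨⟨{x}, by rw [Finset.coe_singleton]; exact hgen⟩⟩
  have hBN : IsNoetherianRing B := Algebra.FiniteType.isNoetherianRing A B
  have hJ : J.FG := IsNoetherian.noetherian J
  have hCN : IsNoetherianRing (AdicCompletion J B) := Groth.Agent.S0543.result B J
  refine isReduced_of_forall_ass (B := B) (C := AdicCompletion J B) hy0 ?_ ?_
  · exact map_le_jacobson J hJ (Ideal.mem_map_of_mem _ hyJ)
  · intro Q hQ
    have hl : ∀ u ∈ cs.map (fun c => x - algebraMap A B c), u ≠ 0 := by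
      intro u hu h0
      apply hy0
      exact Multiset.prod_eq_zero (h0 ▸ hu)
    obtain ⟨u, hu, hQu⟩ := ass_prod _ hl hQ
    obtain ⟨c, -, rfl⟩ := Multiset.mem_map.mp hu
    have hab' : algebraMap A B a * (x - algebraMap A B c) = algebraMap A B (b - a * c) := by
      rw [map_sub, map_mul, ← hab]; ring
    obtain ⟨h1, h2⟩ := ass_analysis hinj (x - algebraMap A B c) (adjoin_sub_eq_top x hgen c) a
      (b - a * c) ha hab' (hl _ hu) Q hQu
    refine ⟨h1, ?_⟩
    have hprime : Q.IsPrime := hQ.isPrime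
    have hfin : Module.Finite A (B ⧸ Q) :=
      Module.Finite.of_surjective (Algebra.linearMap A (B ⧸ Q)) h2
    exact nilpotent_mem_map_of_isReduced_quotient J Q
      (isReduced_adicCompletion_of_finite hA (B ⧸ Q) _)

end Setting

end Groth.Agent.Lib.Helper38.NagataFT2
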