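import Mathlib
import Groth.Prelude
import Groth.Agent.Lib.Helper38.NagataFT2
import Groth.Agent.Lib.Helper38.AnUnram

set_option autoImplicit false
set_option linter.unusedSectionVars false
universe u
open CAlg Polynomial TensorProduct

namespace Groth.Agent.Lib.Helper38.NagataFT3

open Groth.Agent.Lib.Helper38.NagataFT1 Groth.Agent.Lib.Helper38.NagataFT2
  Groth.Agent.Lib.Helper38.AnalUnram

theorem isReduced_adicCompletion_of_splits
    {A B : Type u} [CommRing A] [IsDomain A] [CommRing B] [IsDomain B] [Algebra A B]
    (hA : IsNagata A) [IsIntegrallyClosed A]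
    (x : B) (hgen : Algebra.adjoin A {x} = ⊤)
    (a b : A) (ha : a ≠ 0) (hab : algebraMap A B a * x = algebraMap A B b)
    (K : Type u) [Field K] [Algebra A K] [IsFractionRing A K]
    (K'' : Type u) [Field K''] [Algebra K K''] [FiniteDimensional K K''] [Algebra A K'']
    [Algebra B K''] [IsScalarTower A K K''] [IsScalarTower A B K'']
    (hBK : Function.Injective (algebraMap B K''))
    (f : A[X]) (hf : f.Monic) (hsplit : (f.map (algebraMap A K'')).Splits)
    (P : Ideal B) (hfP : aeval x f ∈ P) (hf0 : aeval x f ≠ 0) :
    IsReduced (AdicCompletion P B) := by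
  have hAN : IsNoetherianRing A := hA.1
  have hft : Algebra.FiniteType A B := ⟨⟨{x}, by rw [Finset.coe_singleton]; exact hgen⟩⟩
  have hBN : IsNoetherianRing B := Algebra.FiniteType.isNoetherianRing A B
  let A'' := integralClosure A K''
  have hfin : Module.Finite A A'' :=
    Groth.Agent.Lib.Helper38.AnUnram.finite_integralClosure_field A K K'' (fun q _ => hA.2 q)
  have hA'' : IsNagata A'' := isNagata_of_finite A A'' hA
  have hnorm : IsIntegrallyClosed A'' := integralClosure.isIntegrallyClosedOfFiniteExtension K
  let x'' : K'' := algebraMap B K'' x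
  let B'' := Algebra.adjoin A'' {x''}
  let xB : B'' := ⟨x'', Algebra.subset_adjoin (Set.mem_singleton _)⟩
  have hinj'' : Function.Injective (algebraMap A'' B'') := by
    intro c c' h
    have := congrArg Subtype.val h
    exact Subtype.ext this
  have hgen'' : Algebra.adjoin A'' {xB} = ⊤ := by
    have := Algebra.adjoin_adjoin_coe_preimage (R := A'') (s := ({x''} : Set K''))
    convert this using 2
    ext w
    simp [xB, Subtype.ext_iff]
  -- the map B → B''
  have hmem : ∀ β : B, algebraMap B K'' β ∈ B'' := by
    intro β
    have h1 : Algebra.adjoin A {x} ≤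
        (B''.restrictScalars A).comap (IsScalarTower.toAlgHom A B K'') := by
      apply Algebra.adjoin_le
      intro y hy
      rw [Set.mem_singleton_iff] at hy
      subst hy
      exact Algebra.subset_adjoin (Set.mem_singleton _)
    have h2 : β ∈ Algebra.adjoin A {x} := by rw [hgen]; trivial
    exact h1 h2
  let φ : B →+* B'' := (algebraMap B K'').codRestrict B'' hmem
  let _ : Algebra B B'' := φ.toAlgebra
  have hφval : ∀ β : B, ((algebraMap B B'' β : B'') : K'') = algebraMap B K'' β := fun β => rfl
  have hBinj : Function.Injective (algebraMap B B'') := by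
    intro β β' h
    apply hBK
    rw [← hφval, ← hφval, h]
  have hst1 : IsScalarTower A B B'' := by
    apply IsScalarTower.of_algebraMap_eq
    intro r
    apply Subtype.ext
    rw [hφval, ← IsScalarTower.algebraMap_apply A B K'']
    rfl
  -- finiteness
  let ψ : B ⊗[A] A'' →ₐ[B] B'' :=
    Algebra.TensorProduct.productLeftAlgHom (Algebra.ofId B B'') (IsScalarTower.toAlgHom A A'' B'')
  have hψ : Function.Surjective ψ := by
    intro w
    have hw : w ∈ Algebra.adjoin A'' {xB} := by rw [hgen'']; trivial
    induction hw using Algebra.adjoin_induction with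
    | mem y hy =>
      rw [Set.mem_singleton_iff] at hy
      subst hy
      refine ⟨x ⊗ₜ 1, ?_⟩
      have : ψ (x ⊗ₜ 1) = algebraMap B B'' x := by simp [ψ, Algebra.ofId_apply]
      rw [this]
      exact Subtype.ext (hφval x)
    | algebraMap c =>
      refine ⟨1 ⊗ₜ c, ?_⟩
      simp [ψ]
    | add y z _ _ hy hz =>
      obtain ⟨y', rfl⟩ := hy
      obtain ⟨z', rfl⟩ := hz
      exact ⟨y' + z', map_add _ _ _⟩
    | mul y z _ _ hy hz =>
      obtain ⟨y', rfl⟩ := hy
      obtain ⟨z', rfl⟩ := hz
      exact ⟨y' * z', map_mul _ _ _⟩
  have hfinB : Module.Finite B B'' := Module.Finite.of_surjective ψ.toLinearMap hψ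
  -- data for Lemma E
  have hinjA : Function.Injective (algebraMap A K'') := by
    rw [IsScalarTower.algebraMap_eq A K K'']
    exact (algebraMap K K'').injective.comp (IsFractionRing.injective A K)
  have ha'' : algebraMap A A'' a ≠ 0 := by
    intro h
    apply ha
    apply hinjA
    rw [map_zero]
    have := congrArg Subtype.val h
    exact this
  have hab'' : algebraMap A'' B'' (algebraMap A A'' a) * xB =
      algebraMap A'' B'' (algebraMap A A'' b) := by
    apply Subtype.ext
    have := congrArg (algebraMap B K'') hab
    rw [map_mul, ← IsScalarTower.algebraMap_apply A B K'',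
      ← IsScalarTower.algebraMap_apply A B K''] at this
    exact this
  -- the roots
  have hroot : ∀ ρ ∈ f.aroots K'', IsIntegral A ρ := by
    intro ρ hρ
    refine ⟨f, hf, ?_⟩
    rw [← aeval_def]
    exact (mem_aroots'.mp hρ).2
  let cs : Multiset A'' := (f.aroots K'').pmap (fun ρ h => (⟨ρ, h⟩ : A'')) hroot
  have hcs : (cs.map (fun c => xB - algebraMap A'' B'' c)).prod =
      algebraMap B B'' (aeval x f) := by
    have e1 : ((cs.map (fun c => xB - algebraMap A'' B'' c)).prod : B'').val =
        ((f.aroots K'').map (fun ρ => x'' - ρ)).prod := by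
      rw [← Subalgebra.coe_val, map_multiset_prod, Multiset.map_map]
      congr 1
      simp only [cs]
      rw [Multiset.map_pmap]
      exact Multiset.pmap_eq_map _ _ _ _
    apply Subtype.ext
    rw [e1, hφval, ← aeval_algebraMap_apply,
      Splits.aeval_eq_prod_aroots_of_monic hsplit hf]
  have hred : IsReduced (AdicCompletion (P.map (algebraMap B B'')) B'') := by
    apply isReduced_adicCompletion_of_prod hA'' hinj'' xB hgen'' (algebraMap A A'' a)
      (algebraMap A A'' b) ha'' hab'' cs
    · rw [hcs]
      exact Ideal.mem_map_of_mem _ hfP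
    · rw [hcs, Ne, map_eq_zero_iff _ hBinj]
      exact hf0
  exact isReduced_of_injective _ (adicMap_injective_of_finite hBinj P)

/-- (D') `B = A[x]` birational over a normal Nagata domain `A`; if some monic polynomial in `x`
lies in the ideal `P`, the `P`-adic completion of `B` is reduced. -/
theorem isReduced_adicCompletion_of_monic
    {A B : Type u} [CommRing A] [IsDomain A] [CommRing B] [IsDomain B] [Algebra A B]
    (hA : IsNagata A) [IsIntegrallyClosed A] (hinj : Function.Injective (algebraMap A B))
    (x : B) (hgen : Algebra.adjoin A {x} = ⊤)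
    (a b : A) (ha : a ≠ 0) (hab : algebraMap A B a * x = algebraMap A B b)
    (f : A[X]) (hf : f.Monic) (P : Ideal B) (hfP : aeval x f ∈ P) :
    IsReduced (AdicCompletion P B) := by
  by_cases hf0 : aeval x f = 0
  · have hint : IsIntegral A x := ⟨f, hf, by rw [← aeval_def]; exact hf0⟩
    have hfg := hint.fg_adjoin_singleton
    rw [hgen, Algebra.top_toSubmodule] at hfg
    have hfin : Module.Finite A B := ⟨hfg⟩
    exact isReduced_adicCompletion_of_finite hA B P
  · let K := FractionRing B
    have hfr : IsFractionRing A K := isFractionRing hinj x hgen a b ha hab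
    let K'' := (f.map (algebraMap A K)).SplittingField
    have t2 : IsScalarTower A B K'' := IsScalarTower.of_algebraMap_eq (fun r => by
      rw [IsScalarTower.algebraMap_apply A K K'', IsScalarTower.algebraMap_apply B K K'',
        ← IsScalarTower.algebraMap_apply A B K])
    have hBK : Function.Injective (algebraMap B K'') := by
      rw [IsScalarTower.algebraMap_eq B K K'']
      exact (algebraMap K K'').injective.comp (IsFractionRing.injective B K)
    have hsplit : (f.map (algebraMap A K'')).Splits := by
      have := SplittingField.splits (f.map (algebraMap A K))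
      rwa [Polynomial.map_map, ← IsScalarTower.algebraMap_eq A K K''] at this
    exact isReduced_adicCompletion_of_splits hA x hgen a b ha hab K K'' hBK f hf hsplit P hfP hf0

end Groth.Agent.Lib.Helper38.NagataFT3
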