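import Mathlib

/-!
# Normal locus of a Noetherian domain (helper38)

* `exists_colon_prime_le`: localized existence of associated primes.
* `isIntegrallyClosed_iff_of_isLocalization`: normality of `M⁻¹R` inside a fixed fraction field.
* `exists_mem_associatedPrimes_colon`, `isClosed_nonnormal_locus`.
-/

set_option autoImplicit false

namespace Groth.Agent.Lib.Helper38.NormalLocus

open Submodule


/-- Localized existence of an "associated prime": if `N : x ≤ p` then some multiple `b • x` has prime
colon ideal contained in `p`. -/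
theorem exists_colon_prime_le {R M : Type*} [CommRing R] [IsNoetherianRing R] [AddCommGroup M]
    [Module R M] (N : Submodule R M) (x : M) (p : Ideal R) [hp : p.IsPrime]
    (hx : N.colon {x} ≤ p) :
    ∃ b : R, (N.colon {b • x}).IsPrime ∧ N.colon {b • x} ≤ p := by
  obtain ⟨P, ⟨b, rfl, hb⟩, hmax⟩ := set_has_maximal_iff_noetherian.mpr ‹IsNoetherianRing R›
      { P : Ideal R | ∃ b : R, P = N.colon {b • x} ∧ N.colon {b • x} ≤ p }
      ⟨_, 1, rfl, by simpa using hx⟩
  refine ⟨b, ⟨?_, ?_⟩, hb⟩
  · intro h
    exact hp.ne_top (top_le_iff.mp (h ▸ hb))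
  · intro u v huv
    rw [or_iff_not_imp_right]
    intro hv
    rw [mem_colon_singleton] at huv hv ⊢
    by_cases hvp : N.colon {v • b • x} ≤ p
    · -- maximality
      have hle : N.colon {b • x} ≤ N.colon {(v * b) • x} := by
        intro c hc
        rw [mem_colon_singleton] at hc ⊢
        rw [mul_smul, smul_comm]
        exact N.smul_mem v hc
      have hmem : N.colon {(v * b) • x} ∈
          { P : Ideal R | ∃ b : R, P = N.colon {b • x} ∧ N.colon {b • x} ≤ p } :=
        ⟨v * b, rfl, by rwa [mul_smul]⟩
      have heq := hle.eq_of_not_lt (hmax _ hmem)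
      have : u ∈ N.colon {(v * b) • x} := by
        rw [mem_colon_singleton, mul_smul, smul_smul]
        exact huv
      rw [← heq, mem_colon_singleton] at this
      exact this
    · obtain ⟨t, ht, htp⟩ := Set.not_subset.mp hvp
      rw [SetLike.mem_coe, mem_colon_singleton] at ht
      exfalso
      have hle : N.colon {b • x} ≤ N.colon {(t * b) • x} := by
        intro c hc
        rw [mem_colon_singleton] at hc ⊢
        rw [mul_smul, smul_comm]
        exact N.smul_mem t hc
      have hlep : N.colon {(t * b) • x} ≤ p := by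
        intro a ha
        rw [mem_colon_singleton, mul_smul, smul_smul] at ha
        have : a * t ∈ N.colon {b • x} := by rwa [mem_colon_singleton]
        have h2 := hb this
        rcases hp.mem_or_mem h2 with h | h
        · exact h
        · exact absurd h htp
      have hmem : N.colon {(t * b) • x} ∈
          { P : Ideal R | ∃ b : R, P = N.colon {b • x} ∧ N.colon {b • x} ≤ p } :=
        ⟨t * b, rfl, hlep⟩
      have heq := hle.eq_of_not_lt (hmax _ hmem)
      apply hv
      have : v ∈ N.colon {(t * b) • x} := by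
        rw [mem_colon_singleton, mul_smul, smul_comm]
        exact ht
      rw [← heq, mem_colon_singleton] at this
      exact this



/-- Integrally closedness of a localization `S = M⁻¹R` of a domain, expressed inside a fixed
fraction field `K` of `R`. -/
theorem isIntegrallyClosed_iff_of_isLocalization {R : Type*} [CommRing R] [IsDomain R]
    (M : Submonoid R) (hM : M ≤ nonZeroDivisors R)
    (S : Type*) [CommRing S] [Algebra R S] [IsLocalization M S]
    (K : Type*) [Field K] [Algebra R K] [IsFractionRing R K] :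
    IsIntegrallyClosed S ↔
      ∀ x : K, IsIntegral R x → ∃ m ∈ M, m • x ∈ (1 : Submodule R K) := by
  have hunits : ∀ y : M, IsUnit (algebraMap R K y) := fun y =>
    IsLocalization.map_units K (⟨y, hM y.2⟩ : nonZeroDivisors R)
  let _ : Algebra S K := (IsLocalization.lift hunits).toAlgebra
  have htower : IsScalarTower R S K :=
    IsScalarTower.of_algebraMap_eq fun x => (IsLocalization.lift_eq hunits x).symm
  have hfrac : IsFractionRing S K :=
    IsFractionRing.isFractionRing_of_isDomain_of_isLocalization M S K
  rw [isIntegrallyClosed_iff K]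
  constructor
  · intro h x hx
    obtain ⟨y, hy⟩ := h (hx.tower_top (A := S))
    obtain ⟨⟨r, m⟩, hrm⟩ := IsLocalization.mk'_surjective M y
    refine ⟨m, m.2, ?_⟩
    rw [Submodule.mem_one]
    refine ⟨r, ?_⟩
    rw [← hy, ← hrm, Algebra.smul_def, IsScalarTower.algebraMap_apply R S K r,
      IsScalarTower.algebraMap_apply R S K (m : R), ← map_mul]
    congr 1
    simp
  · intro h x hx
    obtain ⟨m, hm⟩ := IsIntegral.exists_multiple_integral_of_isLocalization M x hx
    obtain ⟨m', hm', hmem⟩ := h _ hm
    rw [Submodule.mem_one] at hmem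
    obtain ⟨r, hr⟩ := hmem
    refine ⟨IsLocalization.mk' S r (⟨m', hm'⟩ * m), ?_⟩
    have hu : IsUnit (algebraMap R K ((⟨m', hm'⟩ * m : M) : R)) := hunits _
    apply hu.mul_left_cancel
    rw [IsScalarTower.algebraMap_apply R S K, ← map_mul, IsLocalization.mul_mk'_eq_mk'_of_mul,
      IsLocalization.mk'_mul_cancel_left, ← IsScalarTower.algebraMap_apply, hr]
    simp [Algebra.smul_def, Submonoid.smul_def, mul_assoc, ← IsScalarTower.algebraMap_apply R S K]



/-- Key lemma: if `f z ∈ R` and `(R : z) ≤ p`, some multiple `b z` has `(R : b z)` an associated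
prime of `R / f R` contained in `p`. -/
theorem exists_mem_associatedPrimes_colon {R : Type*} [CommRing R] [IsDomain R]
    [IsNoetherianRing R] {K : Type*} [Field K] [Algebra R K] [IsFractionRing R K] (f : R)
    (hf : f ≠ 0) (z : K) (hz : f • z ∈ (1 : Submodule R K)) (p : Ideal R) [p.IsPrime]
    (hzp : (1 : Submodule R K).colon {z} ≤ p) :
    ∃ b : R, (1 : Submodule R K).colon {b • z} ≤ p ∧
      (1 : Submodule R K).colon {b • z} ∈ associatedPrimes R (R ⧸ Ideal.span {f}) := by
  obtain ⟨b, hprime, hle⟩ := exists_colon_prime_le (1 : Submodule R K) z p hzp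
  refine ⟨b, hle, ?_⟩
  rw [Submodule.mem_one] at hz
  obtain ⟨c0, hc0⟩ := hz
  have hinj : Function.Injective (algebraMap R K) := IsFractionRing.injective R K
  have hfK : algebraMap R K f ≠ 0 := by
    rw [Ne, map_eq_zero_iff _ hinj]
    exact hf
  have hc : algebraMap R K (b * c0) = algebraMap R K f * (algebraMap R K b * z) := by
    rw [map_mul, hc0, Algebra.smul_def]
    ring
  rw [AssociatedPrimes.mem_iff, isAssociatedPrime_iff]
  refine ⟨hprime, Ideal.Quotient.mk _ (b * c0), ?_⟩
  ext a
  rw [mem_colon_singleton, mem_colon_singleton, Submodule.mem_one, Submodule.mem_bot]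
  have h1 : a • (Ideal.Quotient.mk (Ideal.span {f})) (b * c0) =
      Ideal.Quotient.mk (Ideal.span {f}) (a * (b * c0)) := by
    rw [map_mul _ a]
    rfl
  rw [h1, Ideal.Quotient.eq_zero_iff_mem, Ideal.mem_span_singleton']
  constructor
  · rintro ⟨r, hr⟩
    refine ⟨r, hinj ?_⟩
    rw [map_mul, map_mul _ a, hc, hr, Algebra.smul_def, Algebra.smul_def]
    ring
  · rintro ⟨r, hr⟩
    refine ⟨r, ?_⟩
    apply mul_left_cancel₀ hfK
    have := congrArg (algebraMap R K) hr
    rw [map_mul, map_mul _ a, hc] at this
    rw [Algebra.smul_def, Algebra.smul_def]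
    linear_combination this

theorem isClosed_nonnormal_locus {R : Type*} [CommRing R] [IsDomain R]
    [IsNoetherianRing R] (K : Type*) [Field K] [Algebra R K] [IsFractionRing R K] (f : R)
    (hf : f ≠ 0)
    (hn : ∀ x : K, IsIntegral R x → ∃ m ∈ Submonoid.powers f, m • x ∈ (1 : Submodule R K)) :
    IsClosed {p : PrimeSpectrum R | ∃ x : K, IsIntegral R x ∧
      (1 : Submodule R K).colon {x} ≤ p.asIdeal} := by
  classical
  set F : Set (Ideal R) := {q | q ∈ associatedPrimes R (R ⧸ Ideal.span {f}) ∧
    ∃ x : K, IsIntegral R x ∧ (1 : Submodule R K).colon {x} ≤ q} with hF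
  have hFfin : F.Finite := (associatedPrimes.finite R (R ⧸ Ideal.span {f})).subset fun q hq => hq.1
  have heq : {p : PrimeSpectrum R | ∃ x : K, IsIntegral R x ∧
      (1 : Submodule R K).colon {x} ≤ p.asIdeal} = ⋃ q ∈ F, PrimeSpectrum.zeroLocus (q : Set R) := by
    ext p
    simp only [Set.mem_ofPred_eq, Set.mem_iUnion, PrimeSpectrum.mem_zeroLocus, SetLike.coe_subset_coe,
      exists_prop]
    constructor
    · rintro ⟨x, hx, hxp⟩
      obtain ⟨m, ⟨n, rfl⟩, hn'⟩ := hn x hx
      have hex : ∃ k, ¬ ((1 : Submodule R K).colon {f ^ k • x} ≤ p.asIdeal) := by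
        refine ⟨n, fun hle => ?_⟩
        have h1 : (1 : R) ∈ (1 : Submodule R K).colon {f ^ n • x} := by
          rw [mem_colon_singleton, one_smul]
          exact hn'
        exact p.2.ne_top ((Ideal.eq_top_iff_one _).mpr (hle h1))
      have hk := Nat.find_spec hex
      have hkmin := fun j => Nat.find_min hex (m := j)
      set k := Nat.find hex with hkdef
      have hk0 : k ≠ 0 := by
        intro h0
        rw [h0, pow_zero, one_smul] at hk
        exact hk hxp
      obtain ⟨j, hj⟩ := Nat.exists_eq_succ_of_ne_zero hk0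
      have hjle : (1 : Submodule R K).colon {f ^ j • x} ≤ p.asIdeal := by
        by_contra hcon
        exact hkmin j (by omega) hcon
      obtain ⟨s, hs, hsp⟩ := Set.not_subset.mp hk
      rw [SetLike.mem_coe, mem_colon_singleton, hj] at hs
      have hzint : IsIntegral R (s • f ^ j • x) := (hx.smul _).smul _
      have hfz : f • (s • f ^ j • x) ∈ (1 : Submodule R K) := by
        have : f • (s • f ^ j • x) = s • f ^ (j + 1) • x := by
          rw [pow_succ, mul_smul, smul_comm f s, smul_comm f (f ^ j)]
        rw [this]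
        exact hs
      have hzp : (1 : Submodule R K).colon {s • f ^ j • x} ≤ p.asIdeal := by
        intro a ha
        rw [mem_colon_singleton, smul_smul] at ha
        have h2 : a * s ∈ (1 : Submodule R K).colon {f ^ j • x} := by
          rwa [mem_colon_singleton]
        rcases p.2.mem_or_mem (hjle h2) with h | h
        · exact h
        · exact absurd h hsp
      obtain ⟨b, hble, hbass⟩ := exists_mem_associatedPrimes_colon f hf _ hfz p.asIdeal hzp
      exact ⟨_, ⟨hbass, _, hzint.smul b, le_rfl⟩, hble⟩
    · rintro ⟨q, ⟨_, x, hx, hxq⟩, hqp⟩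
      exact ⟨x, hx, hxq.trans hqp⟩
  rw [heq]
  exact hFfin.isClosed_biUnion fun q _ => PrimeSpectrum.isClosed_zeroLocus _



/-- If `M⁻¹R` has finite integral closure in `K`, then finitely many integral elements of `K`
generate the integral closure of `R` "up to denominators in `M`". -/
theorem exists_finset_of_finite_integralClosure {R : Type*} [CommRing R] (M : Submonoid R)
    {S : Type*} [CommRing S] [Algebra R S] [IsLocalization M S]
    {K : Type*} [CommRing K] [Algebra R K] [Algebra S K] [IsScalarTower R S K]
    (h : Module.Finite S (integralClosure S K)) :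
    ∃ T : Finset K, (∀ t ∈ T, IsIntegral R t) ∧
      ∀ y : K, IsIntegral R y → ∃ s ∈ M, s • y ∈ Submodule.span R (T : Set K) := by
  have hspan : Submodule.span S ((integralClosure R K : Set K)) =
      (integralClosure S K).toSubmodule := by
    apply le_antisymm
    · rw [Submodule.span_le]
      intro x hx
      have : IsIntegral R x := hx
      exact this.tower_top
    · intro x hx
      have hx' : IsIntegral S x := hx
      obtain ⟨m, hm⟩ := IsIntegral.exists_multiple_integral_of_isLocalization M x hx'
      have hu : IsUnit (algebraMap R S (m : R)) := IsLocalization.map_units S m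
      obtain ⟨u, hu'⟩ := hu
      have hx2 : x = (↑u⁻¹ : S) • (m • x) := by
        rw [Submonoid.smul_def, ← algebraMap_smul S (m : R) x, ← hu', smul_smul,
          Units.inv_mul, one_smul]
      rw [hx2]
      exact Submodule.smul_mem _ _ (Submodule.subset_span hm)
  have hfg : (Submodule.span S ((integralClosure R K : Set K))).FG := by
    rw [hspan, ← Module.Finite.iff_fg]
    exact h
  obtain ⟨T, hTsub, hTeq⟩ := (Submodule.fg_span_iff_fg_span_finset_subset _).mp hfg
  refine ⟨T, fun t ht => hTsub ht, fun y hy => ?_⟩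
  have hy' : y ∈ Submodule.span S (T : Set K) := by
    rw [← hTeq]
    exact Submodule.subset_span hy
  obtain ⟨t, ht⟩ := multiple_mem_span_of_mem_localization_span M S (T : Set K) y hy'
  exact ⟨t, t.2, ht⟩

/-- The chain argument: `R_f` normal and finiteness of the integral closure at the associated primes
of `R / f R` imply that the integral closure of `R` is finite. -/
theorem finite_integralClosure_of_ass {R : Type*} [CommRing R] [IsDomain R]
    [IsNoetherianRing R] (K : Type*) [Field K] [Algebra R K] [IsFractionRing R K] (f : R)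
    (hf : f ≠ 0)
    (hn : ∀ x : K, IsIntegral R x → ∃ m ∈ Submonoid.powers f, m • x ∈ (1 : Submodule R K))
    (hloc : ∀ q ∈ associatedPrimes R (R ⧸ Ideal.span {f}), ∃ T : Finset K,
      (∀ t ∈ T, IsIntegral R t) ∧
      ∀ y : K, IsIntegral R y → ∃ s, s ∉ q ∧ s • y ∈ Submodule.span R (T : Set K)) :
    Module.Finite R (integralClosure R K) := by
  classical
  let N : ℕ → Submodule R K := fun n =>
    (integralClosure R K).toSubmodule ⊓ Submodule.comap (LinearMap.lsmul R K (f ^ n)) 1
  have hN : ∀ n x, x ∈ N n ↔ IsIntegral R x ∧ f ^ n • x ∈ (1 : Submodule R K) := fun n x => Iff.rfl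
  have hNmono : ∀ {n m}, n ≤ m → N n ≤ N m := by
    intro n m hnm x hx
    rw [hN] at hx ⊢
    refine ⟨hx.1, ?_⟩
    obtain ⟨d, rfl⟩ := Nat.exists_eq_add_of_le hnm
    rw [pow_add, mul_comm, mul_smul]
    exact Submodule.smul_mem _ _ hx.2
  have hone : ∀ n, (1 : Submodule R K) ≤ N n := by
    intro n x hx
    rw [hN]
    refine ⟨?_, Submodule.smul_mem _ _ hx⟩
    obtain ⟨r, rfl⟩ := Submodule.mem_one.mp hx
    exact isIntegral_algebraMap
  -- local bounds
  have hbound : ∀ q ∈ associatedPrimes R (R ⧸ Ideal.span {f}), ∃ n : ℕ,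
      ∀ y : K, IsIntegral R y → ∃ s, s ∉ q ∧ s • y ∈ N n := by
    intro q hq
    obtain ⟨T, hTint, hT⟩ := hloc q hq
    have hTn : ∀ t ∈ T, ∃ n, t ∈ N n := by
      intro t ht
      obtain ⟨m, ⟨n, rfl⟩, hm⟩ := hn t (hTint t ht)
      exact ⟨n, (hN _ _).mpr ⟨hTint t ht, hm⟩⟩
    choose! nt hnt using hTn
    refine ⟨T.sup nt, fun y hy => ?_⟩
    obtain ⟨s, hsq, hs⟩ := hT y hy
    refine ⟨s, hsq, ?_⟩
    have hle : Submodule.span R (T : Set K) ≤ N (T.sup nt) := by
      rw [Submodule.span_le]
      intro t ht
      exact hNmono (Finset.le_sup (f := nt) ht) (hnt t ht)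
    exact hle hs
  choose! nq hnq using hbound
  have hfin := associatedPrimes.finite R (R ⧸ Ideal.span {f})
  set n := hfin.toFinset.sup nq with hndef
  have hnle : ∀ q ∈ associatedPrimes R (R ⧸ Ideal.span {f}), nq q ≤ n := fun q hq =>
    Finset.le_sup (f := nq) (hfin.mem_toFinset.mpr hq)
  have hmain : (integralClosure R K).toSubmodule ≤ N n := by
    intro x hx
    have hxint : IsIntegral R x := hx
    by_contra hxn
    have hex : ∃ k, f ^ k • x ∈ N n := by
      obtain ⟨m, ⟨k, rfl⟩, hm⟩ := hn x hxint
      exact ⟨k, hone n hm⟩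
    have hk := Nat.find_spec hex
    have hkmin := fun j => Nat.find_min hex (m := j)
    set k := Nat.find hex with hkdef
    have hk0 : k ≠ 0 := by
      intro h0
      rw [h0, pow_zero, one_smul] at hk
      exact hxn hk
    obtain ⟨j, hj⟩ := Nat.exists_eq_succ_of_ne_zero hk0
    have hx'n : f ^ j • x ∉ N n := hkmin j (by omega)
    have hx'int : IsIntegral R (f ^ j • x) := hxint.smul _
    have hfx' : f • f ^ j • x ∈ N n := by
      rw [hj, pow_succ, mul_comm, mul_smul] at hk
      exact hk
    -- z := f^n • x'
    have hzint : IsIntegral R (f ^ n • f ^ j • x) := hx'int.smul _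
    have hz1 : f ^ n • f ^ j • x ∉ (1 : Submodule R K) := fun h => hx'n ((hN _ _).mpr ⟨hx'int, h⟩)
    have hfz : f • f ^ n • f ^ j • x ∈ (1 : Submodule R K) := by
      rw [smul_comm]
      exact ((hN _ _).mp hfx').2
    have hcolon : (1 : Submodule R K).colon {f ^ n • f ^ j • x} ≠ ⊤ := by
      intro h
      have h1 : (1 : R) ∈ (1 : Submodule R K).colon {f ^ n • f ^ j • x} := h ▸ Submodule.mem_top
      rw [mem_colon_singleton, one_smul] at h1
      exact hz1 h1
    obtain ⟨p, hpmax, hple⟩ := Ideal.exists_le_maximal _ hcolon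
    have _ : p.IsPrime := hpmax.isPrime
    obtain ⟨b, -, hbass⟩ := exists_mem_associatedPrimes_colon f hf _ hfz p hple
    obtain ⟨s, hsq, hs⟩ := hnq _ hbass (b • f ^ j • x) (hx'int.smul b)
    have hs' := hNmono (hnle _ hbass) hs
    apply hsq
    rw [mem_colon_singleton]
    have := ((hN _ _).mp hs').2
    rw [smul_comm (f ^ n) s, smul_comm (f ^ n) b] at this
    exact this
  have heq : (integralClosure R K).toSubmodule = N n := le_antisymm hmain inf_le_left
  have hfK : algebraMap R K (f ^ n) ≠ 0 := by
    rw [Ne, map_eq_zero_iff _ (IsFractionRing.injective R K)]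
    exact pow_ne_zero _ hf
  have hNle : N n ≤ Submodule.span R {(algebraMap R K (f ^ n))⁻¹} := by
    intro x hx
    obtain ⟨r, hr⟩ := Submodule.mem_one.mp ((hN _ _).mp hx).2
    rw [Submodule.mem_span_singleton]
    refine ⟨r, ?_⟩
    rw [Algebra.smul_def, hr, Algebra.smul_def]
    field_simp
  have hnoeth : IsNoetherian R (Submodule.span R {(algebraMap R K (f ^ n))⁻¹}) :=
    isNoetherian_span_of_finite R (Set.finite_singleton _)
  have hfg : (N n).FG := isNoetherian_submodule.mp hnoeth _ hNle
  have hfin' : Module.Finite R (integralClosure R K).toSubmodule := by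
    rw [heq]
    exact Module.Finite.iff_fg.mpr hfg
  exact hfin'

end Groth.Agent.Lib.Helper38.NormalLocus
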