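import Mathlib
import Groth.Prelude
import Groth.Agent.S4710
import Groth.Agent.S0571
import Groth.Agent.Lib.Helper38.NagataFT3

set_option autoImplicit false
set_option linter.unusedSectionVars false
universe u
open CAlg Polynomial TensorProduct

namespace Groth.Agent.Lib.Helper38.NagataFT4

open Groth.Agent.Lib.Helper38.NagataFT1 Groth.Agent.Lib.Helper38.NagataFT2
  Groth.Agent.Lib.Helper38.NagataFT3

variable {A B : Type u} [CommRing A] [IsDomain A] [CommRing B] [IsDomain B] [Algebra A B]

theorem isN1_atPrime (hA : IsNagata A) [IsIntegrallyClosed A]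
    (hinj : Function.Injective (algebraMap A B))
    (x : B) (hgen : Algebra.adjoin A {x} = ⊤) (a b : A) (ha : a ≠ 0)
    (hab : algebraMap A B a * x = algebraMap A B b) (P : Ideal B) [hP : P.IsMaximal] :
    CAlg.IsN1 (Localization.AtPrime P) := by
  have hAN : IsNoetherianRing A := hA.1
  have hft : Algebra.FiniteType A B := ⟨⟨{x}, by rw [Finset.coe_singleton]; exact hgen⟩⟩
  have hBN : IsNoetherianRing B := Algebra.FiniteType.isNoetherianRing A B
  let p := P.comap (algebraMap A B)
  have hp : p.IsPrime := Ideal.comap_isPrime _ _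
  let Ap := Localization.AtPrime p
  let S := Algebra.algebraMapSubmonoid B p.primeCompl
  let Bp := Localization S
  have hS0 : S ≤ nonZeroDivisors B := by
    rintro _ ⟨s, hs, rfl⟩
    apply mem_nonZeroDivisors_of_ne_zero
    rw [Ne, map_eq_zero_iff _ hinj]
    rintro rfl
    exact hs p.zero_mem
  have hBpdom : IsDomain Bp := IsLocalization.isDomain_localization hS0
  have hdisj : Disjoint (S : Set B) (P : Set B) := by
    rw [Set.disjoint_left]
    rintro _ ⟨s, hs, rfl⟩ hsP
    exact hs hsP
  let P' := P.map (algebraMap B Bp)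
  have hP'prime : P'.IsPrime :=
    IsLocalization.isPrime_of_isPrime_disjoint S Bp P hP.isPrime hdisj
  have hP'comap : P'.comap (algebraMap B Bp) = P :=
    IsLocalization.under_map_of_isPrime_disjoint S Bp hP.isPrime hdisj
  have hP'max : P'.IsMaximal := by
    rw [Ideal.isMaximal_def]
    refine ⟨hP'prime.ne_top, fun I hI => ?_⟩
    by_contra hne
    have h1 : P ≤ I.comap (algebraMap B Bp) := by
      rw [← hP'comap]; exact Ideal.comap_mono hI.le
    have h2 : I.comap (algebraMap B Bp) ≠ ⊤ := by
      intro h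
      apply hne
      rw [Ideal.eq_top_iff_one] at h ⊢
      rw [Ideal.mem_comap, map_one] at h
      exact h
    have h3 := hP.eq_of_le h2 h1
    have h4 : I = P' := by
      rw [← IsLocalization.map_under S Bp I]
      show Ideal.map _ (Ideal.comap _ I) = _
      rw [← h3]
    exact hI.ne h4.symm
  let x' : Bp := algebraMap B Bp x
  have hApNag : IsNagata Ap := Groth.Agent.S4710.result A hA p.primeCompl
  have hApnorm : IsIntegrallyClosed Ap :=
    isIntegrallyClosed_of_isLocalization Ap p.primeCompl p.primeCompl_le_nonZeroDivisors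
  have hinj' : Function.Injective (algebraMap Ap Bp) := localizationAlgebra_injective Ap Bp hinj
  have hgen' : Algebra.adjoin Ap {x'} = ⊤ := by
    rw [eq_top_iff]
    rintro z -
    obtain ⟨⟨β, ⟨_, s, hs, rfl⟩⟩, hβ⟩ := IsLocalization.surj S z
    have h1 : algebraMap B Bp β ∈ Algebra.adjoin Ap {x'} := by
      have hle : Algebra.adjoin A {x} ≤
          ((Algebra.adjoin Ap {x'}).restrictScalars A).comap (IsScalarTower.toAlgHom A B Bp) := by
        apply Algebra.adjoin_le
        intro y hy
        rw [Set.mem_singleton_iff] at hy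
        subst hy
        exact Algebra.subset_adjoin (Set.mem_singleton _)
      have : β ∈ Algebra.adjoin A {x} := by rw [hgen]; trivial
      exact hle this
    have hu : algebraMap B Bp (algebraMap A B s) = algebraMap Ap Bp (algebraMap A Ap s) := by
      rw [← IsScalarTower.algebraMap_apply A B Bp, ← IsScalarTower.algebraMap_apply A Ap Bp]
    have hz : z = algebraMap Ap Bp (IsLocalization.mk' Ap 1 (⟨s, hs⟩ : p.primeCompl)) *
        algebraMap B Bp β := by
      rw [← hβ]
      simp only
      rw [hu, mul_comm z, ← mul_assoc, ← map_mul, IsLocalization.mk'_spec, map_one, map_one,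
        one_mul]
    rw [hz]
    exact Subalgebra.mul_mem _ (Subalgebra.algebraMap_mem _ _) h1
  have ha' : algebraMap A Ap a ≠ 0 := by
    rw [Ne, map_eq_zero_iff _ (IsLocalization.injective Ap p.primeCompl_le_nonZeroDivisors)]
    exact ha
  have hab' : algebraMap Ap Bp (algebraMap A Ap a) * x' = algebraMap Ap Bp (algebraMap A Ap b) := by
    rw [← IsScalarTower.algebraMap_apply A Ap Bp, ← IsScalarTower.algebraMap_apply A Ap Bp,
      IsScalarTower.algebraMap_apply A B Bp, IsScalarTower.algebraMap_apply A B Bp, ← hab, map_mul]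
  let m := IsLocalRing.maximalIdeal Ap
  have hle : m ≤ P'.comap (algebraMap Ap Bp) := by
    have hm : m = p.map (algebraMap A Ap) := Localization.AtPrime.map_eq_maximalIdeal.symm
    rw [hm, Ideal.map_le_iff_le_comap, Ideal.comap_comap]
    intro r hr
    rw [Ideal.mem_comap, ← IsScalarTower.algebraMap_eq A Ap Bp,
      IsScalarTower.algebraMap_apply A B Bp]
    exact Ideal.mem_map_of_mem _ hr
  let _ : Field (Ap ⧸ m) := Ideal.Quotient.field m
  let _ : Field (Bp ⧸ P') := Ideal.Quotient.field P'
  let _ : Algebra (Ap ⧸ m) (Bp ⧸ P') := (Ideal.quotientMap P' (algebraMap Ap Bp) hle).toAlgebra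
  have hst : IsScalarTower Ap (Ap ⧸ m) (Bp ⧸ P') := IsScalarTower.of_algebraMap_eq (fun r => rfl)
  have hft1 : Algebra.FiniteType Ap Bp := ⟨⟨{x'}, by rw [Finset.coe_singleton]; exact hgen'⟩⟩
  have hft2 : Algebra.FiniteType Ap (Bp ⧸ P') :=
    Algebra.FiniteType.of_surjective (Ideal.Quotient.mkₐ Ap P') (Ideal.Quotient.mkₐ_surjective Ap P')
  have hft3 : Algebra.FiniteType (Ap ⧸ m) (Bp ⧸ P') :=
    Algebra.FiniteType.of_restrictScalars_finiteType Ap (Ap ⧸ m) (Bp ⧸ P')
  have hfin : Module.Finite (Ap ⧸ m) (Bp ⧸ P') := finite_of_finite_type_of_isJacobsonRing _ _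
  have hint : IsIntegral (Ap ⧸ m) (Ideal.Quotient.mk P' x') := Algebra.IsIntegral.isIntegral _
  obtain ⟨g, hg, hgx⟩ := hint
  obtain ⟨f', hf'map, -, hf'⟩ := Polynomial.lifts_and_natDegree_eq_and_monic
    ((Polynomial.mem_lifts g).mpr (Polynomial.map_surjective _ Ideal.Quotient.mk_surjective g)) hg
  have hfP' : aeval x' f' ∈ P' := by
    rw [← Ideal.Quotient.eq_zero_iff_mem, aeval_def, Polynomial.hom_eval₂]
    rw [← hf'map, Polynomial.eval₂_map] at hgx
    exact hgx
  have hred := isReduced_adicCompletion_of_monic hApNag hinj' x' hgen' (algebraMap A Ap a)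
    (algebraMap A Ap b) ha' hab' f' hf' P' hfP'
  have hBpN : IsNoetherianRing Bp := IsLocalization.isNoetherianRing S Bp hBN
  have h1 : IsN1 (Localization.AtPrime P') := isN1_atPrime_of_isReduced Bp P' hred
  exact isN1_atPrime_of_localization B S Bp P' P hP'comap h1

theorem isIntegrallyClosed_away [IsIntegrallyClosed A]
    (hinj : Function.Injective (algebraMap A B))
    (x : B) (hgen : Algebra.adjoin A {x} = ⊤) (a b : A) (ha : a ≠ 0)
    (hab : algebraMap A B a * x = algebraMap A B b) :
    IsIntegrallyClosed (Localization.Away (algebraMap A B a)) := by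
  let aB := algebraMap A B a
  let L := Localization.Away aB
  have haB : aB ≠ 0 := by
    rw [Ne, map_eq_zero_iff _ hinj]; exact ha
  have hBL : Function.Injective (algebraMap B L) :=
    IsLocalization.injective L (powers_le_nonZeroDivisors_of_noZeroDivisors haB)
  have hloc : IsLocalization (Submonoid.powers a) L := by
    rw [isLocalization_iff]
    refine ⟨?_, ?_, ?_⟩
    · rintro ⟨_, n, rfl⟩
      rw [IsScalarTower.algebraMap_apply A B L, map_pow, map_pow]
      exact (IsLocalization.map_units L (⟨aB, Submonoid.mem_powers aB⟩ : Submonoid.powers aB)).pow n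
    · intro z
      obtain ⟨⟨β, ⟨_, n, rfl⟩⟩, hβ⟩ := IsLocalization.surj (Submonoid.powers aB) z
      obtain ⟨d, r, hr⟩ := exists_pow_mul_eq x hgen a b hab β
      refine ⟨(r, ⟨a ^ (n + d), n + d, rfl⟩), ?_⟩
      simp only at hβ ⊢
      rw [IsScalarTower.algebraMap_apply A B L, IsScalarTower.algebraMap_apply A B L, ← hr,
        map_pow, pow_add, map_mul, map_mul, ← mul_assoc, hβ, map_pow]
      ring
    · intro r₁ r₂ h
      refine ⟨1, ?_⟩
      have : r₁ = r₂ := by
        apply hinj
        apply hBL
        rwa [← IsScalarTower.algebraMap_apply, ← IsScalarTower.algebraMap_apply]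
      rw [this]
  exact isIntegrallyClosed_of_isLocalization L (Submonoid.powers a)
    (powers_le_nonZeroDivisors_of_noZeroDivisors ha)

/-- (Claim C) `B = A[x]` birational over a normal Nagata domain `A` is N-1. -/
theorem isN1_of_birational (hA : IsNagata A) [IsIntegrallyClosed A]
    (hinj : Function.Injective (algebraMap A B))
    (x : B) (hgen : Algebra.adjoin A {x} = ⊤) (a b : A) (ha : a ≠ 0)
    (hab : algebraMap A B a * x = algebraMap A B b) : CAlg.IsN1 B := by
  have hAN : IsNoetherianRing A := hA.1
  have hft : Algebra.FiniteType A B := ⟨⟨{x}, by rw [Finset.coe_singleton]; exact hgen⟩⟩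
  have hBN : IsNoetherianRing B := Algebra.FiniteType.isNoetherianRing A B
  rw [Groth.Agent.S0571.result B]
  refine ⟨⟨algebraMap A B a, ?_, isIntegrallyClosed_away hinj x hgen a b ha hab⟩,
    fun P hP => isN1_atPrime hA hinj x hgen a b ha hab P⟩
  rw [Ne, map_eq_zero_iff _ hinj]
  exact ha

end Groth.Agent.Lib.Helper38.NagataFT4
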