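import Mathlib
import Groth.Prelude.Def_Found

/-!
# N-1 / N-2 for polynomial rings (helper38)

Core: if `S` is a finite integrally closed extension of `R` and `Y ^ q = X` in a field `Ω`
containing `R[X]`, with `Y` transcendental over `S`, then the elements of `Frac S[Y]` that are
integral over `R[X]` lie in a Noetherian `R[X]`-submodule of `Ω`.
-/

set_option autoImplicit false
universe u

namespace Groth.Agent.Lib.Helper38.PolyN2

open Polynomial

/-- If `D` is an integrally closed domain mapping injectively to a field `Ω`, then an element of `Ω`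
which is a quotient of elements of `D` and is integral over `D` lies in `D`. -/
theorem mem_range_of_isIntegral_of_div {D Ω : Type*} [CommRing D] [IsDomain D]
    [IsIntegrallyClosed D] [Field Ω] [Algebra D Ω] (hι : Function.Injective (algebraMap D Ω))
    (c : Ω) (hc : IsIntegral D c) (a b : D) (hb : b ≠ 0)
    (hcab : c * algebraMap D Ω b = algebraMap D Ω a) : c ∈ (algebraMap D Ω).range := by
  have : FaithfulSMul D Ω := (faithfulSMul_iff_algebraMap_injective D Ω).mpr hι
  let FD := FractionRing D
  let _ : Algebra FD Ω := FractionRing.liftAlgebra D Ω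
  have : IsScalarTower D FD Ω := FractionRing.isScalarTower_liftAlgebra D Ω
  let z : FD := algebraMap D FD a / algebraMap D FD b
  have hbFD : algebraMap D FD b ≠ 0 := by
    rw [Ne, map_eq_zero_iff _ (IsFractionRing.injective D FD)]
    exact hb
  have hbΩ : algebraMap D Ω b ≠ 0 := by
    rw [Ne, map_eq_zero_iff _ hι]
    exact hb
  have hz : algebraMap FD Ω z = c := by
    rw [map_div₀, ← IsScalarTower.algebraMap_apply, ← IsScalarTower.algebraMap_apply, ← hcab]
    field_simp
  have hzint : IsIntegral D z := by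
    rw [← hz] at hc
    exact (isIntegral_algHom_iff (IsScalarTower.toAlgHom D FD Ω) (algebraMap FD Ω).injective).mp hc
  obtain ⟨y, hy⟩ := IsIntegrallyClosed.isIntegral_iff.mp hzint
  refine ⟨y, ?_⟩
  rw [← hz, ← hy, ← IsScalarTower.algebraMap_apply]

section Core

variable {R S Ω : Type*} [CommRing R] [CommRing S] [Field Ω] [Algebra R S] [Algebra R Ω]
  [Algebra S Ω] [IsScalarTower R S Ω] [Algebra R[X] Ω] [IsScalarTower R R[X] Ω]

/-- `R[X] → S[X]`, `X ↦ X ^ q`. -/
noncomputable def theta (R S : Type*) [CommRing R] [CommRing S] [Algebra R S] (q : ℕ) :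
    R[X] →+* S[X] :=
  eval₂RingHom (C.comp (algebraMap R S)) (X ^ q)

@[simp] lemma theta_C (q : ℕ) (r : R) : theta R S q (C r) = C (algebraMap R S r) := by
  simp [theta]

@[simp] lemma theta_X (q : ℕ) : theta R S q X = X ^ q := by
  simp [theta]

lemma aeval_theta (q : ℕ) (Y : Ω) (hY : Y ^ q = algebraMap R[X] Ω X) (u : R[X]) :
    aeval Y (theta R S q u) = algebraMap R[X] Ω u := by
  have h : ((aeval Y : S[X] →ₐ[S] Ω) : S[X] →+* Ω).comp (theta R S q) = algebraMap R[X] Ω := by
    apply Polynomial.ringHom_ext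
    · intro r
      simp only [RingHom.comp_apply, theta_C, RingHom.coe_coe, aeval_C]
      rw [← IsScalarTower.algebraMap_apply R S Ω, IsScalarTower.algebraMap_apply R R[X] Ω]
      rfl
    · simp only [RingHom.comp_apply, theta_X, RingHom.coe_coe, map_pow, aeval_X]
      exact hY
  exact congrArg (fun f => f u) h

/-- `S[X]` is finite over `R[X]` via `theta` when `S` is finite over `R`. -/
lemma theta_finite [Module.Finite R S] (q : ℕ) (hq : 0 < q) : (theta R S q).Finite := by
  classical
  let _ : Algebra R[X] S[X] := (theta R S q).toAlgebra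
  change Module.Finite R[X] S[X]
  obtain ⟨G, hG⟩ := (Module.Finite.fg_top : (⊤ : Submodule R S).FG)
  let T : Finset S[X] := (G ×ˢ Finset.range q).image fun sj => C sj.1 * X ^ sj.2
  refine ⟨⟨T, ?_⟩⟩
  rw [eq_top_iff]
  rintro p -
  induction p using Polynomial.induction_on' with
  | add p₁ p₂ h₁ h₂ => exact Submodule.add_mem _ h₁ h₂
  | monomial n s =>
    have hs : s ∈ Submodule.span R (G : Set S) := by rw [hG]; exact Submodule.mem_top
    rw [← C_mul_X_pow_eq_monomial]
    have hn : n = q * (n / q) + n % q := (Nat.div_add_mod n q).symm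
    have hj : n % q < q := Nat.mod_lt n hq
    -- key: for g ∈ G, C g * X^n ∈ span
    have hkey : ∀ g ∈ G, C g * X ^ n ∈ Submodule.span R[X] (T : Set S[X]) := by
      intro g hg
      have hmem : C g * X ^ (n % q) ∈ (T : Set S[X]) := by
        rw [Finset.mem_coe, Finset.mem_image]
        exact ⟨(g, n % q), Finset.mem_product.mpr ⟨hg, Finset.mem_range.mpr hj⟩, rfl⟩
      have : C g * X ^ n = (X ^ (n / q) : R[X]) • (C g * X ^ (n % q)) := by
        rw [Algebra.smul_def]
        change _ = theta R S q (X ^ (n / q)) * _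
        rw [map_pow, theta_X, ← pow_mul]
        conv_lhs => rw [hn]
        rw [pow_add]
        ring
      rw [this]
      exact Submodule.smul_mem _ _ (Submodule.subset_span hmem)
    refine Submodule.span_induction (p := fun s _ => C s * X ^ n ∈ Submodule.span R[X] (T : Set S[X]))
      ?_ ?_ ?_ ?_ hs
    · intro g hg
      exact hkey g hg
    · simp
    · intro a b _ _ ha hb
      rw [map_add, add_mul]
      exact Submodule.add_mem _ ha hb
    · intro r a _ ha
      have : C (r • a) * X ^ n = (C r : R[X]) • (C a * X ^ n) := by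
        rw [Algebra.smul_def (C r : R[X])]
        change _ = theta R S q (C r) * _
        rw [theta_C, Algebra.smul_def, map_mul, mul_assoc]
      rw [this]
      exact Submodule.smul_mem _ _ ha

omit [Algebra R[X] Ω] [IsScalarTower R R[X] Ω] in
/-- `Y` with `Y ^ q` transcendental over `R` is transcendental over an integral domain extension
`S` of `R`. -/
lemma aeval_injective_of_transcendental [IsDomain R] [IsDomain S] [Algebra.IsIntegral R S]
    (q : ℕ) (Y : Ω) (hx : Transcendental R (Y ^ q)) :
    Function.Injective (aeval Y : S[X] →ₐ[S] Ω) := by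
  rw [injective_iff_map_eq_zero]
  intro g hg
  by_contra hg0
  have h1 : IsAlgebraic S Y := ⟨g, hg0, hg⟩
  have h2 : IsAlgebraic R Y := IsAlgebraic.restrictScalars_of_isIntegral R h1
  exact hx (h2.pow q)

/-- The core finiteness statement. -/
theorem core_finite [IsNoetherianRing R] [IsDomain S] [IsIntegrallyClosed S] [Module.Finite R S]
    (q : ℕ) (hq : 0 < q) (Y : Ω) (hY : Y ^ q = algebraMap R[X] Ω X)
    (htr : Function.Injective (aeval Y : S[X] →ₐ[S] Ω)) :
    ∃ N : Submodule R[X] Ω, IsNoetherian R[X] N ∧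
      ∀ c : Ω, IsIntegral R[X] c →
        (∃ a b : S[X], b ≠ 0 ∧ c * aeval Y b = aeval Y a) → c ∈ N := by
  let _ : Algebra R[X] S[X] := (theta R S q).toAlgebra
  have hfin : Module.Finite R[X] S[X] := theta_finite q hq
  let _ : Algebra S[X] Ω := ((aeval Y : S[X] →ₐ[S] Ω) : S[X] →+* Ω).toAlgebra
  have htower : IsScalarTower R[X] S[X] Ω := IsScalarTower.of_algebraMap_eq fun u =>
    (aeval_theta q Y hY u).symm
  let ιL : S[X] →ₗ[R[X]] Ω := (IsScalarTower.toAlgHom R[X] S[X] Ω).toLinearMap
  refine ⟨LinearMap.range ιL, ?_, ?_⟩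
  · have : Module.Finite R[X] (LinearMap.range ιL) := Module.Finite.range ιL
    exact isNoetherian_of_isNoetherianRing_of_finite R[X] _
  · rintro c hc ⟨a, b, hb, hcab⟩
    have hc' : IsIntegral S[X] c := hc.tower_top
    obtain ⟨y, hy⟩ := mem_range_of_isIntegral_of_div (D := S[X]) htr c hc' a b hb hcab
    exact ⟨y, hy⟩

end Core

/-- The purely inseparable case of N-2 for polynomial rings. -/
theorem finite_integralClosure_polynomial_of_purelyInseparable (R : Type u) [CommRing R]
    [IsDomain R] [IsNoetherianRing R] (hR : CAlg.IsN2 R) (P : Type u) [Field P] [Algebra R[X] P]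
    [Algebra (FractionRing R[X]) P] [IsScalarTower R[X] (FractionRing R[X]) P]
    [FiniteDimensional (FractionRing R[X]) P] [IsPurelyInseparable (FractionRing R[X]) P] :
    Module.Finite R[X] (integralClosure R[X] P) := by
  classical
  let F := FractionRing R[X]
  let Ω := AlgebraicClosure P
  have hinjRXΩ : Function.Injective (algebraMap R[X] Ω) := by
    rw [IsScalarTower.algebraMap_eq R[X] P Ω, IsScalarTower.algebraMap_eq R[X] F P]
    exact (algebraMap P Ω).injective.comp
      ((algebraMap F P).injective.comp (IsFractionRing.injective R[X] F))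
  let _ : Algebra R Ω := ((algebraMap R[X] Ω).comp C).toAlgebra
  have htRRXΩ : IsScalarTower R R[X] Ω := IsScalarTower.of_algebraMap_eq fun r => rfl
  have hinjRΩ : Function.Injective (algebraMap R Ω) := hinjRXΩ.comp C_injective
  have : FaithfulSMul R Ω := (faithfulSMul_iff_algebraMap_injective R Ω).mpr hinjRΩ
  let K := FractionRing R
  let _ : Algebra K Ω := FractionRing.liftAlgebra R Ω
  have : IsScalarTower R K Ω := FractionRing.isScalarTower_liftAlgebra R Ω
  -- characteristic
  let p := ringExpChar F
  have hpF : ExpChar F p := inferInstance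
  have hpΩ : ExpChar Ω p := expChar_of_injective_algebraMap (algebraMap F Ω).injective p
  have hpP : ExpChar P p := expChar_of_injective_algebraMap (algebraMap F P).injective p
  -- basis and exponent
  let b : Module.Basis (Fin (Module.finrank F P)) F P := Module.finBasis F P
  have hexp : ∀ i, ∃ e : ℕ, b i ^ p ^ e ∈ (algebraMap F P).range :=
    fun i => IsPurelyInseparable.pow_mem F p (b i)
  choose ei hei using hexp
  let e := Finset.univ.sup ei
  have hbe : ∀ i, b i ^ p ^ e ∈ (algebraMap F P).range := by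
    intro i
    have hle : ei i ≤ e := Finset.le_sup (f := ei) (Finset.mem_univ i)
    obtain ⟨d, hd⟩ := Nat.exists_eq_add_of_le hle
    rw [hd, pow_add, pow_mul]
    exact pow_mem (hei i) _
  choose g hg using hbe
  have hfrac : ∀ i, ∃ u v : R[X], v ≠ 0 ∧ g i * algebraMap R[X] F v = algebraMap R[X] F u := by
    intro i
    obtain ⟨u, v, hv, huv⟩ := IsFractionRing.div_surjective (A := R[X]) (g i)
    refine ⟨u, v, nonZeroDivisors.ne_zero hv, ?_⟩
    have : algebraMap R[X] F v ≠ 0 := by
      rw [Ne, map_eq_zero_iff _ (IsFractionRing.injective R[X] F)]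
      exact nonZeroDivisors.ne_zero hv
    rw [← huv, div_mul_cancel₀ _ this]
  choose u v hv huv using hfrac
  let q := p ^ e
  have hq : 0 < q := expChar_pow_pos F p e
  let ρ : Ω ≃+* Ω := (iterateFrobeniusEquiv Ω p e).symm
  have hρ : ∀ a : Ω, ρ a ^ q = a := fun a => (iterateFrobeniusEquiv Ω p e).apply_symm_apply a
  let x : Ω := algebraMap R[X] Ω X
  let Y : Ω := ρ x
  have hY : Y ^ q = algebraMap R[X] Ω X := hρ x
  let Rts : Finset Ω := Finset.univ.biUnion fun i =>
    ((u i).coeffs ∪ (v i).coeffs).image fun a => ρ (algebraMap R Ω a)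
  have hRtsInt : ∀ z ∈ Rts, IsIntegral R z := by
    intro z hz
    simp only [Rts, Finset.mem_biUnion, Finset.mem_image] at hz
    obtain ⟨i, -, a, -, rfl⟩ := hz
    apply IsIntegral.of_pow hq
    rw [hρ]
    exact isIntegral_algebraMap
  let K2 : IntermediateField K Ω := IntermediateField.adjoin K (Rts : Set Ω)
  have hK2fd : FiniteDimensional K K2 :=
    IntermediateField.finiteDimensional_adjoin (fun z hz => (hRtsInt z hz).tower_top)
  have hSfin : Module.Finite R (integralClosure R K2) := hR K2 hK2fd
  let S := integralClosure R K2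
  have hSic : IsIntegrallyClosed S := integralClosure.isIntegrallyClosedOfFiniteExtension K
  have htRK2Ω : IsScalarTower R K2 Ω := IsScalarTower.of_algebraMap_eq fun r => rfl
  have htRSΩ : IsScalarTower R S Ω := IsScalarTower.of_algebraMap_eq fun r => rfl
  have hxtr : Transcendental R (Y ^ q) := by
    rw [hY]
    rintro ⟨h, hh0, hh⟩
    have h1 : aeval (algebraMap R[X] Ω X) h = algebraMap R[X] Ω h := by
      rw [aeval_algebraMap_apply, aeval_X_left_apply]
    rw [h1] at hh
    exact hh0 (hinjRXΩ (by rw [hh, map_zero]))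
  have htr := aeval_injective_of_transcendental (R := R) (S := S) q Y hxtr
  obtain ⟨N, hN, hNmem⟩ := core_finite (R := R) (S := S) q hq Y hY htr
  let ι' : FractionRing S[X] →+* Ω :=
    IsFractionRing.lift (g := ((aeval Y : S[X] →ₐ[S] Ω) : S[X] →+* Ω)) htr
  let 𝔽 : Subfield Ω := ι'.fieldRange
  have hmem𝔽 : ∀ a : S[X], aeval Y a ∈ 𝔽 := fun a =>
    ⟨algebraMap _ _ a, IsFractionRing.lift_algebraMap _ a⟩
  have hRX𝔽 : ∀ w : R[X], algebraMap R[X] Ω w ∈ 𝔽 := fun w => by
    rw [← aeval_theta (S := S) q Y hY w]
    exact hmem𝔽 _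
  have hF𝔽 : ∀ f : F, algebraMap F Ω f ∈ 𝔽 := by
    intro f
    obtain ⟨a, c, hc, rfl⟩ := IsFractionRing.div_surjective (A := R[X]) f
    rw [map_div₀, ← IsScalarTower.algebraMap_apply, ← IsScalarTower.algebraMap_apply]
    exact div_mem (hRX𝔽 a) (hRX𝔽 c)
  have hY𝔽 : Y ∈ 𝔽 := by
    have := hmem𝔽 X
    rwa [aeval_X] at this
  have hRts𝔽 : ∀ z ∈ Rts, z ∈ 𝔽 := by
    intro z hz
    have hzK2 : z ∈ K2 := IntermediateField.subset_adjoin K _ hz
    have hzint : IsIntegral R (⟨z, hzK2⟩ : K2) := by
      have := hRtsInt z hz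
      exact (isIntegral_algHom_iff (IsScalarTower.toAlgHom R K2 Ω)
        (algebraMap K2 Ω).injective).mp this
    let s : S := ⟨⟨z, hzK2⟩, hzint⟩
    have := hmem𝔽 (C s)
    rwa [aeval_C] at this
  have hρ𝔽 : ∀ i, ∀ w : R[X], w.coeffs ⊆ (u i).coeffs ∪ (v i).coeffs →
      ρ (algebraMap R[X] Ω w) ∈ 𝔽 := by
    intro i w hw
    have hw' : algebraMap R[X] Ω w = ∑ j ∈ w.support, algebraMap R Ω (w.coeff j) * x ^ j := by
      conv_lhs => rw [w.as_sum_support_C_mul_X_pow]
      rw [map_sum]
      refine Finset.sum_congr rfl fun j _ => ?_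
      rw [map_mul, map_pow]
      rfl
    rw [hw', map_sum]
    refine sum_mem fun j hj => ?_
    rw [map_mul, map_pow]
    refine mul_mem (hRts𝔽 _ ?_) (pow_mem hY𝔽 _)
    simp only [Rts, Finset.mem_biUnion, Finset.mem_image]
    exact ⟨i, Finset.mem_univ _, w.coeff j, hw (coeff_mem_coeffs (mem_support_iff.mp hj)), rfl⟩
  have hb𝔽 : ∀ i, algebraMap P Ω (b i) ∈ 𝔽 := by
    intro i
    have h1 : (algebraMap P Ω (b i)) ^ q = algebraMap F Ω (g i) := by
      rw [← map_pow, ← hg i, ← IsScalarTower.algebraMap_apply]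
    have h2 : algebraMap P Ω (b i) = ρ (algebraMap F Ω (g i)) := by
      rw [← h1]
      exact ((iterateFrobeniusEquiv Ω p e).symm_apply_apply _).symm
    have h3 : algebraMap F Ω (g i) * algebraMap R[X] Ω (v i) = algebraMap R[X] Ω (u i) := by
      have := congrArg (algebraMap F Ω) (huv i)
      rwa [map_mul, ← IsScalarTower.algebraMap_apply, ← IsScalarTower.algebraMap_apply] at this
    have hvΩ : algebraMap R[X] Ω (v i) ≠ 0 := by
      rw [Ne, map_eq_zero_iff _ hinjRXΩ]
      exact hv i
    have h4 : algebraMap F Ω (g i) = algebraMap R[X] Ω (u i) / algebraMap R[X] Ω (v i) :=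
      eq_div_of_mul_eq hvΩ h3
    rw [h2, h4, map_div₀]
    exact div_mem (hρ𝔽 i _ Finset.subset_union_left) (hρ𝔽 i _ Finset.subset_union_right)
  have hP𝔽 : ∀ c : P, algebraMap P Ω c ∈ 𝔽 := by
    intro c
    rw [← b.sum_repr c, map_sum]
    refine sum_mem fun i _ => ?_
    rw [Algebra.smul_def, map_mul, ← IsScalarTower.algebraMap_apply]
    exact mul_mem (hF𝔽 _) (hb𝔽 i)
  have hmemN : ∀ c : integralClosure R[X] P, algebraMap P Ω c ∈ N := by
    intro c
    have hc : IsIntegral R[X] (c : P) := c.2
    have hc' : IsIntegral R[X] (algebraMap P Ω c) := hc.map (IsScalarTower.toAlgHom R[X] P Ω)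
    refine hNmem _ hc' ?_
    obtain ⟨z, hz⟩ := hP𝔽 c
    obtain ⟨⟨a, bb⟩, rfl⟩ := IsLocalization.mk'_surjective (nonZeroDivisors S[X]) z
    refine ⟨a, bb, nonZeroDivisors.ne_zero bb.2, ?_⟩
    have h5 := IsLocalization.mk'_spec (FractionRing S[X]) a bb
    have h6 := congrArg ι' h5
    rw [map_mul, hz, IsFractionRing.lift_algebraMap, IsFractionRing.lift_algebraMap] at h6
    exact h6
  let φ : integralClosure R[X] P →ₗ[R[X]] N :=
    { toFun := fun c => ⟨algebraMap P Ω c, hmemN c⟩
      map_add' := fun c d => by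
        apply Subtype.ext
        simp
      map_smul' := fun a c => by
        apply Subtype.ext
        change algebraMap P Ω ((a • c : integralClosure R[X] P) : P) = a • algebraMap P Ω (c : P)
        rw [Subalgebra.coe_smul, Algebra.smul_def, Algebra.smul_def, map_mul,
          ← IsScalarTower.algebraMap_apply R[X] P Ω] }
  have hφ : Function.Injective φ := by
    intro c d hcd
    have := congrArg Subtype.val hcd
    exact Subtype.ext ((algebraMap P Ω).injective this)
  exact Module.Finite.of_injective φ hφ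

/-- N-1 passes to polynomial rings (Noetherian case). -/
theorem isN1_polynomial (R : Type u) [CommRing R] [IsDomain R] [IsNoetherianRing R]
    (hR : CAlg.IsN1 R) : CAlg.IsN1 R[X] := by
  classical
  let F := FractionRing R[X]
  have hinjRXF : Function.Injective (algebraMap R[X] F) := IsFractionRing.injective R[X] F
  have htRRXF : IsScalarTower R R[X] F := inferInstance
  have hinjRF : Function.Injective (algebraMap R F) := by
    rw [IsScalarTower.algebraMap_eq R R[X] F]
    exact hinjRXF.comp C_injective
  have : FaithfulSMul R F := (faithfulSMul_iff_algebraMap_injective R F).mpr hinjRF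
  let K := FractionRing R
  let _ : Algebra K F := FractionRing.liftAlgebra R F
  have : IsScalarTower R K F := FractionRing.isScalarTower_liftAlgebra R F
  let S := integralClosure R K
  have hSfin : Module.Finite R S := hR
  have hSic : IsIntegrallyClosed S := integralClosure.isIntegrallyClosedOfFiniteExtension K
  have htRSF : IsScalarTower R S F := IsScalarTower.of_algebraMap_eq fun r => by
    rw [IsScalarTower.algebraMap_apply R K F]
    rfl
  let Y : F := algebraMap R[X] F X
  have hY : Y ^ 1 = algebraMap R[X] F X := pow_one _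
  have hxtr : Transcendental R (Y ^ 1) := by
    rw [hY]
    rintro ⟨h, hh0, hh⟩
    have h1 : aeval (algebraMap R[X] F X) h = algebraMap R[X] F h := by
      rw [aeval_algebraMap_apply, aeval_X_left_apply]
    rw [h1] at hh
    exact hh0 (hinjRXF (by rw [hh, map_zero]))
  have htr := aeval_injective_of_transcendental (R := R) (S := S) 1 Y hxtr
  obtain ⟨N, hN, hNmem⟩ := core_finite (R := R) (S := S) 1 one_pos Y hY htr
  have hmemN : ∀ c : integralClosure R[X] F, (c : F) ∈ N := by
    intro c
    refine hNmem _ c.2 ?_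
    obtain ⟨a, bb, hbb, hc⟩ := IsFractionRing.div_surjective (A := R[X]) (c : F)
    have hbb0 : algebraMap R[X] F bb ≠ 0 := by
      rw [Ne, map_eq_zero_iff _ hinjRXF]
      exact nonZeroDivisors.ne_zero hbb
    refine ⟨theta R S 1 a, theta R S 1 bb, ?_, ?_⟩
    · intro h0
      apply hbb0
      rw [← aeval_theta (S := S) 1 Y hY bb, h0, map_zero]
    · rw [aeval_theta (S := S) 1 Y hY, aeval_theta (S := S) 1 Y hY, ← hc,
        div_mul_cancel₀ _ hbb0]
  let φ : integralClosure R[X] F →ₗ[R[X]] N :=
    { toFun := fun c => ⟨(c : F), hmemN c⟩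
      map_add' := fun c d => rfl
      map_smul' := fun a c => rfl }
  have hφ : Function.Injective φ := by
    intro c d hcd
    have := congrArg Subtype.val hcd
    exact Subtype.ext this
  exact Module.Finite.of_injective φ hφ

end Groth.Agent.Lib.Helper38.PolyN2
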