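import Mathlib
import Groth.Prelude
import Groth.Agent.S0570
import Groth.Agent.Lib.Helper38.NagataFT4

set_option autoImplicit false
set_option linter.unusedSectionVars false
universe u
open CAlg Polynomial TensorProduct

namespace Groth.Agent.Lib.Helper38.NagataFT5

open Groth.Agent.Lib.Helper38.NagataFT1 Groth.Agent.Lib.Helper38.NagataFT2
  Groth.Agent.Lib.Helper38.NagataFT3 Groth.Agent.Lib.Helper38.NagataFT4

/-- N-1 in terms of an arbitrary fraction field. -/
theorem finite_integralClosure_of_isN1 (B : Type u) [CommRing B] [IsDomain B] (h : IsN1 B)
    (L : Type u) [Field L] [Algebra B L] [IsFractionRing B L] :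
    Module.Finite B (integralClosure B L) := by
  let e : FractionRing B ≃ₐ[B] L := FractionRing.algEquiv B L
  have : Module.Finite B (integralClosure B (FractionRing B)) := h
  exact Module.Finite.equiv e.mapIntegralClosure.toLinearEquiv

/-- (L7) A monogenic domain extension of a Nagata domain is N-2. -/
theorem isN2_of_monogenic {R S : Type u} [CommRing R] [IsDomain R] [CommRing S] [IsDomain S]
    [Algebra R S] (hR : IsNagata R) (hinj : Function.Injective (algebraMap R S)) (x : S)
    (hgen : Algebra.adjoin R {x} = ⊤) : IsN2 S := by
  have hRN : IsNoetherianRing R := hR.1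
  have hR2 : IsN2 R := isN2_of_isNagata R hR
  have hft : Algebra.FiniteType R S := ⟨⟨{x}, by rw [Finset.coe_singleton]; exact hgen⟩⟩
  have hSN : IsNoetherianRing S := Algebra.FiniteType.isNoetherianRing R S
  by_cases htr : Transcendental R x
  · -- polynomial ring
    have h1 : Function.Injective (aeval x : R[X] →ₐ[R] S) := transcendental_iff_injective.mp htr
    have h2 : Function.Surjective (aeval x : R[X] →ₐ[R] S) := by
      intro s
      have hs : s ∈ Algebra.adjoin R {x} := by rw [hgen]; trivial
      rw [Algebra.adjoin_singleton_eq_range_aeval] at hs
      exact hs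
    let e : R[X] ≃ₐ[R] S := AlgEquiv.ofBijective (aeval x) ⟨h1, h2⟩
    exact isN2_of_ringEquiv e.toRingEquiv ((Groth.Agent.S0570.result R).2 hR2)
  · have halg : IsAlgebraic R x := by
      rwa [Transcendental, not_not] at htr
    intro L _ _ _ _ hfd
    let F := FractionRing S
    let _ : Algebra R L := ((algebraMap S L).comp (algebraMap R S)).toAlgebra
    have hRSL : IsScalarTower R S L := IsScalarTower.of_algebraMap_eq (fun _ => rfl)
    have hSL : Function.Injective (algebraMap S L) := by
      rw [IsScalarTower.algebraMap_eq S F L]
      exact (algebraMap F L).injective.comp (IsFractionRing.injective S F)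
    have hRL : Function.Injective (algebraMap R L) := hSL.comp hinj
    have hfs : FaithfulSMul R L := (faithfulSMul_iff_algebraMap_injective R L).mpr hRL
    let K := FractionRing R
    let _ : Algebra K L := FractionRing.liftAlgebra R L
    have hRKL : IsScalarTower R K L := FractionRing.isScalarTower_liftAlgebra R L
    -- L is algebraic over K
    have halgRS : Algebra.IsAlgebraic R S := by
      constructor
      intro s
      have := Algebra.isAlgebraic_adjoin_singleton_iff.mpr halg
      rw [hgen] at this
      exact this s trivial
    have halgKL : Algebra.IsAlgebraic K L := by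
      constructor
      intro l
      have h1 : IsAlgebraic F l := Algebra.IsAlgebraic.isAlgebraic l
      have h2 : IsAlgebraic S l := (IsFractionRing.isAlgebraic_iff S F L).mpr h1
      have h3 : IsAlgebraic R l := h2.restrictScalars R
      exact (IsFractionRing.isAlgebraic_iff R K L).mp h3
    have he1 : Algebra.EssFiniteType S F := Algebra.EssFiniteType.of_isLocalization F (nonZeroDivisors S)
    have he2 : Algebra.EssFiniteType S L := Algebra.EssFiniteType.comp S F L
    have he3 : Algebra.EssFiniteType R L := Algebra.EssFiniteType.comp R S L
    have he4 : Algebra.EssFiniteType K L := Algebra.EssFiniteType.of_comp R K L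
    have hfdKL : FiniteDimensional K L := Algebra.finite_of_essFiniteType_of_isAlgebraic
    -- the normalization of R in L
    let R' := integralClosure R L
    have hfinR' : Module.Finite R R' := hR2 L hfdKL
    have hR'Nag : IsNagata R' := isNagata_of_finite R R' hR
    have hR'norm : IsIntegrallyClosed R' := integralClosure.isIntegrallyClosedOfFiniteExtension K
    have hR'frac : IsFractionRing R' L := integralClosure.isFractionRing_of_finite_extension K L
    let xL : L := algebraMap S L x
    let B' := Algebra.adjoin R' {xL}
    let xB : B' := ⟨xL, Algebra.subset_adjoin (Set.mem_singleton _)⟩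
    have hinj' : Function.Injective (algebraMap R' B') := by
      intro c c' h
      have := congrArg Subtype.val h
      exact Subtype.ext this
    have hgen' : Algebra.adjoin R' {xB} = ⊤ := by
      have := Algebra.adjoin_adjoin_coe_preimage (R := R') (s := ({xL} : Set L))
      convert this using 2
      ext w
      simp [xB, Subtype.ext_iff]
    have hmem : ∀ s : S, algebraMap S L s ∈ B' := by
      intro s
      have h1 : Algebra.adjoin R {x} ≤
          (B'.restrictScalars R).comap (IsScalarTower.toAlgHom R S L) := by
        apply Algebra.adjoin_le
        intro y hy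
        rw [Set.mem_singleton_iff] at hy
        subst hy
        exact Algebra.subset_adjoin (Set.mem_singleton _)
      have h2 : s ∈ Algebra.adjoin R {x} := by rw [hgen]; trivial
      exact h1 h2
    let φ : S →+* B' := (algebraMap S L).codRestrict B' hmem
    let _ : Algebra S B' := φ.toAlgebra
    have hφval : ∀ s : S, ((algebraMap S B' s : B') : L) = algebraMap S L s := fun s => rfl
    have hst1 : IsScalarTower R S B' := by
      apply IsScalarTower.of_algebraMap_eq
      intro r
      apply Subtype.ext
      rw [hφval, ← IsScalarTower.algebraMap_apply R S L]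
      rfl
    let ψ : S ⊗[R] R' →ₐ[S] B' :=
      Algebra.TensorProduct.productLeftAlgHom (Algebra.ofId S B') (IsScalarTower.toAlgHom R R' B')
    have hψ : Function.Surjective ψ := by
      intro w
      have hw : w ∈ Algebra.adjoin R' {xB} := by rw [hgen']; trivial
      induction hw using Algebra.adjoin_induction with
      | mem y hy =>
        rw [Set.mem_singleton_iff] at hy
        subst hy
        refine ⟨x ⊗ₜ 1, ?_⟩
        have : ψ (x ⊗ₜ 1) = algebraMap S B' x := by simp [ψ, Algebra.ofId_apply]
        rw [this]
        exact Subtype.ext (hφval x)
      | algebraMap c =>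
        refine ⟨1 ⊗ₜ c, ?_⟩
        simp [ψ]
      | add y z _ _ hy hz =>
        obtain ⟨y', rfl⟩ := hy
        obtain ⟨z', rfl⟩ := hz
        exact ⟨y' + z', map_add _ _ _⟩
      | mul y z _ _ hy hz =>
        obtain ⟨y', rfl⟩ := hy
        obtain ⟨z', rfl⟩ := hz
        exact ⟨y' * z', map_mul _ _ _⟩
    have hfinB : Module.Finite S B' := Module.Finite.of_surjective ψ.toLinearMap hψ
    -- x is a fraction over R'
    obtain ⟨b, a, ha, hba⟩ := IsFractionRing.div_surjective (A := R') xL
    have ha0 : a ≠ 0 := nonZeroDivisors.ne_zero ha
    have haL : algebraMap R' L a ≠ 0 := by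
      rw [Ne, map_eq_zero_iff _ (IsFractionRing.injective R' L)]; exact ha0
    have hab : algebraMap R' B' a * xB = algebraMap R' B' b := by
      apply Subtype.ext
      show algebraMap R' L a * xL = algebraMap R' L b
      rw [← hba, mul_div_cancel₀ _ haL]
    have hB'N1 : IsN1 B' := isN1_of_birational hR'Nag hinj' xB hgen' a b ha0 hab
    -- B' has fraction field L
    have hB'frac : IsFractionRing B' L := by
      have hf : FaithfulSMul B' L := (faithfulSMul_iff_algebraMap_injective B' L).mpr
        Subtype.val_injective
      apply IsFractionRing.of_field
      intro z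
      obtain ⟨u, v, hv, rfl⟩ := IsFractionRing.div_surjective (A := R') z
      exact ⟨algebraMap R' B' u, algebraMap R' B' v, rfl⟩
    have hfinC : Module.Finite B' (integralClosure B' L) :=
      finite_integralClosure_of_isN1 B' hB'N1 L
    let C := integralClosure B' L
    let _ : Algebra S C := ((algebraMap B' C).comp (algebraMap S B')).toAlgebra
    have hst2 : IsScalarTower S B' C := IsScalarTower.of_algebraMap_eq (fun _ => rfl)
    have hfinSC : Module.Finite S C := Module.Finite.trans B' C
    have hnoeth : IsNoetherian S C := isNoetherian_of_isNoetherianRing_of_finite S C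
    have hint : Algebra.IsIntegral S B' := Algebra.IsIntegral.of_finite S B'
    let ι : integralClosure S L →ₗ[S] C :=
      { toFun := fun z => ⟨z.1, by
          have hz : IsIntegral S z.1 := z.2
          obtain ⟨p, hp, hpz⟩ := hz
          refine ⟨p.map (algebraMap S B'), hp.map _, ?_⟩
          rw [eval₂_map]
          have : (algebraMap B' L).comp (algebraMap S B') = algebraMap S L := RingHom.ext hφval
          rw [this]
          exact hpz⟩
        map_add' := fun a b => Subtype.ext rfl
        map_smul' := fun s z => Subtype.ext (by
          show s • (z : L) = ((algebraMap S C s * _ : C) : L)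
          rw [Algebra.smul_def]
          rfl) }
    have ιinj : Function.Injective ι := by
      intro z z' h
      have h1 := congrArg Subtype.val h
      exact Subtype.ext h1
    exact Module.Finite.of_injective ι ιinj

end Groth.Agent.Lib.Helper38.NagataFT5
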