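import Mathlib
import Groth.Prelude
import Groth.Agent.Lib.Helper38.NagataFT5

set_option autoImplicit false
set_option linter.unusedSectionVars false
universe u
open CAlg Polynomial

namespace Groth.Agent.Lib.Helper38.NagataFT6

open Groth.Agent.Lib.Helper38.NagataFT1 Groth.Agent.Lib.Helper38.NagataFT5

/-- The polynomial ring over a Nagata ring is Nagata. -/
theorem isNagata_polynomial (R : Type u) [CommRing R] (hR : IsNagata R) : IsNagata R[X] := by
  have hRN : IsNoetherianRing R := hR.1
  refine ⟨inferInstance, fun q hq => ?_⟩
  let p := q.comap (algebraMap R R[X])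
  have hp : p.IsPrime := Ideal.comap_isPrime _ _
  have hlo : q.LiesOver p := ⟨rfl⟩
  have hinj : Function.Injective (algebraMap (R ⧸ p) (R[X] ⧸ q)) :=
    Ideal.algebraMap_quotient_injective
  have hRp : IsNagata (R ⧸ p) :=
    isNagata_of_surjective (Ideal.Quotient.mk p) Ideal.Quotient.mk_surjective hR
  have hgen : Algebra.adjoin (R ⧸ p) {Ideal.Quotient.mk q X} = ⊤ := by
    rw [eq_top_iff]
    rintro z -
    obtain ⟨g, rfl⟩ := Ideal.Quotient.mk_surjective z
    induction g using Polynomial.induction_on' with
    | add f g hf hg =>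
      rw [map_add]
      exact Subalgebra.add_mem _ hf hg
    | monomial n r =>
      rw [← C_mul_X_pow_eq_monomial, map_mul, map_pow]
      refine Subalgebra.mul_mem _ ?_
        (Subalgebra.pow_mem _ (Algebra.subset_adjoin (Set.mem_singleton _)) n)
      have : Ideal.Quotient.mk q (C r) =
          algebraMap (R ⧸ p) (R[X] ⧸ q) (Ideal.Quotient.mk p r) := by
        rw [Ideal.Quotient.algebraMap_mk_of_liesOver]
        rfl
      rw [this]
      exact Subalgebra.algebraMap_mem _ _
  exact isN2_of_monogenic hRp hinj _ hgen

theorem isNagata_of_ringEquiv {A B : Type u} [CommRing A] [CommRing B] (e : A ≃+* B)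
    (hA : IsNagata A) : IsNagata B :=
  isNagata_of_surjective e.toRingHom e.surjective hA

theorem isNagata_mvPolynomial (R : Type u) [CommRing R] (hR : IsNagata R) (n : ℕ) :
    IsNagata (MvPolynomial (Fin n) R) := by
  induction n with
  | zero => exact isNagata_of_ringEquiv (MvPolynomial.isEmptyRingEquiv R (Fin 0)).symm hR
  | succ n ih =>
    exact isNagata_of_ringEquiv (MvPolynomial.finSuccEquiv R n).symm.toRingEquiv
      (isNagata_polynomial _ ih)

/-- Finite type algebras over Nagata rings are Nagata (Stacks 0334). -/
theorem isNagata_of_finiteType (R : Type u) [CommRing R] (hR : IsNagata R) (S : Type u)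
    [CommRing S] [Algebra R S] [Algebra.FiniteType R S] : IsNagata S := by
  obtain ⟨n, f, hf⟩ := Algebra.FiniteType.iff_quotient_mvPolynomial''.mp
    (inferInstance : Algebra.FiniteType R S)
  exact isNagata_of_surjective f.toRingHom hf (isNagata_mvPolynomial R hR n)

end Groth.Agent.Lib.Helper38.NagataFT6
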