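import Groth.Agent.S0570
import Groth.Agent.S2114
import Groth.Agent.Lib.Helper38.ComplNagata

set_option autoImplicit false
universe u

namespace Groth.Agent.Lib.Helper38.FieldN2

/-- Polynomial rings over a field are N-2. -/
theorem isN2_mvPolynomial (k : Type u) [Field k] (n : ℕ) : CAlg.IsN2 (MvPolynomial (Fin n) k) := by
  induction n with
  | zero =>
    exact Groth.Agent.Lib.Helper38.Tate.isN2_of_ringEquiv
      (MvPolynomial.isEmptyAlgEquiv k (Fin 0)).toRingEquiv.symm
      (Groth.Agent.Lib.Helper38.ComplNagata.isN2_field k)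
  | succ n ih =>
    have h1 : CAlg.IsN2 (Polynomial (MvPolynomial (Fin n) k)) :=
      (Groth.Agent.S0570.result (MvPolynomial (Fin n) k)).2 ih
    exact Groth.Agent.Lib.Helper38.Tate.isN2_of_ringEquiv
      (MvPolynomial.finSuccEquiv k n).toRingEquiv.symm h1

/-- Domains of finite type over a field are N-2. -/
theorem isN2_of_finiteType (k A : Type u) [Field k] [CommRing A] [IsDomain A] [Algebra k A]
    [Algebra.FiniteType k A] : CAlg.IsN2 A := by
  obtain ⟨s, g, hinj, hfin⟩ := exists_finite_inj_algHom_of_fg k A
  let _ : Algebra (MvPolynomial (Fin s) k) A := g.toRingHom.toAlgebra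
  have : Module.Finite (MvPolynomial (Fin s) k) A := hfin
  have : Algebra.FiniteType (MvPolynomial (Fin s) k) A := inferInstance
  exact Groth.Agent.S2114.result (R := MvPolynomial (Fin s) k) (S := A) hinj
    (isN2_mvPolynomial k s)

end Groth.Agent.Lib.Helper38.FieldN2
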