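import Mathlib

/-!
# `O_T → (f_T)_* O_{X_T}` is an isomorphism when `Γ(X, O_X) = k` (helper38)

* `isIso_appTop_of_section`: `X` integral, universally closed over a field `k`, with a `k`-rational
  point ⟹ `k → Γ(X, O_X)` is an isomorphism.
* `isIso_snd_app_of_isAffineOpen`: `f : X ⟶ S` qcqs with `S` affine and `Γ(S) → Γ(X)` an isomorphism,
  `t : T ⟶ S` flat: for affine opens `V ⊆ T`, `Γ(T, V) → Γ(X ×_S T, pr₂⁻¹ V)` is an isomorphism
  (flat base change of sections).
* `isIso_snd_c`: the same for the whole sheaf map `(pullback.snd f t).c`.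
-/

set_option autoImplicit false
set_option linter.style.haveILetI false
universe u

open CategoryTheory CategoryTheory.Limits AlgebraicGeometry Opposite TopologicalSpace

namespace Groth.Agent.Lib.Helper38.BaseChangeSections

theorem isIso_appTop_of_section {k : Type u} [Field k] {X : Scheme.{u}}
    (f : X ⟶ Spec (CommRingCat.of k)) [IsIntegral X] [UniversallyClosed f]
    (σ : Spec (CommRingCat.of k) ⟶ X) (hσ : σ ≫ f = 𝟙 (Spec (CommRingCat.of k))) :
    IsIso f.appTop := by
  have hF := isField_of_universallyClosed k f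
  have h1 : f.appTop ≫ σ.appTop = 𝟙 _ := by
    rw [← Scheme.Hom.comp_appTop, hσ]
    rfl
  letI := hF.toField
  haveI : Nontrivial Γ(Spec (CommRingCat.of k), ⊤) :=
    (Scheme.ΓSpecIso (CommRingCat.of k)).commRingCatIsoToRingEquiv.symm.injective.nontrivial
  have hinj : Function.Injective σ.appTop.hom := RingHom.injective _
  have hsurj : Function.Surjective σ.appTop.hom := fun y =>
    ⟨f.appTop.hom y, ConcreteCategory.congr_hom h1 y⟩
  haveI : IsIso σ.appTop := (ConcreteCategory.isIso_iff_bijective _).mpr ⟨hinj, hsurj⟩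
  have h2 : f.appTop = inv σ.appTop := by
    rw [← cancel_mono σ.appTop, h1, IsIso.inv_hom_id]
  rw [h2]
  infer_instance

variable {X S T : Scheme.{u}} (f : X ⟶ S) (t : T ⟶ S)

theorem isIso_snd_app_of_isAffineOpen [IsAffine S] [CompactSpace X] [QuasiSeparatedSpace X]
    [Flat t] (hf : IsIso f.appTop) (V : T.Opens) (hV : IsAffineOpen V) :
    IsIso ((pullback.snd f t).app V) := by
  have H : IsPullback (pullback.fst f t) (pullback.snd f t) f t := IsPullback.of_hasPullback f t
  have hqs : IsQuasiSeparated (α := X) ((⊤ : X.Opens) : Set X) := by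
    rw [Opens.coe_top]
    exact isQuasiSeparated_univ
  have hUY : (pullback.snd f t) ⁻¹ᵁ V =
      (pullback.fst f t) ⁻¹ᵁ ⊤ ⊓ (pullback.snd f t) ⁻¹ᵁ V := by simp
  have hiso2 := isIso_pushoutSection_of_isQuasiSeparated_of_flat_right H (US := ⊤) (UT := V)
    (UX := ⊤) (UY := (pullback.snd f t) ⁻¹ᵁ V) le_top le_top hUY (isAffineOpen_top _) hV
    isCompact_univ hqs
  haveI : IsIso (f.appLE ⊤ ⊤ le_top) := by
    have : f.appLE ⊤ ⊤ le_top = f.appTop := Scheme.Hom.appLE_eq_app (f := f) (U := ⊤)
    rw [this]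
    exact hf
  have key : pushout.inr (f.appLE ⊤ ⊤ le_top) (t.appLE ⊤ V le_top) ≫
      pushoutSection H le_top le_top hUY = (pullback.snd f t).app V := by
    simp only [pushoutSection, pushout.inr_desc]
    exact Scheme.Hom.appLE_eq_app _
  rw [← key]
  infer_instance

theorem isIso_snd_c [IsAffine S] [QuasiCompact f] [QuasiSeparated f]
    [Flat t] (hf : IsIso f.appTop) : IsIso (pullback.snd f t).c := by
  haveI : CompactSpace X := (quasiCompact_iff_compactSpace f).mp inferInstance
  haveI : QuasiSeparatedSpace X := (quasiSeparated_iff_quasiSeparatedSpace f).mp inferInstance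
  let F : TopCat.Sheaf CommRingCat T := T.sheaf
  let G : TopCat.Sheaf CommRingCat T :=
    (TopCat.Sheaf.pushforward CommRingCat (pullback.snd f t).base).obj (pullback f t).sheaf
  let φ : F ⟶ G := ⟨(pullback.snd f t).c⟩
  have hB : Opens.IsBasis (Set.range (fun V : T.affineOpens => (V.1 : T.Opens))) := by
    rw [Subtype.range_coe]
    exact T.isBasis_affineOpens
  have : IsIso φ := TopCat.Sheaf.isIso_iff_isIso_basis (φ := φ) hB
    (fun V => isIso_snd_app_of_isAffineOpen f t hf V.1 V.2)
  exact (TopCat.Sheaf.forget CommRingCat T).map_isIso φ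

end Groth.Agent.Lib.Helper38.BaseChangeSections
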