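import Mathlib
import Groth.Agent.Lib.Helper25.CompleteFinite

set_option autoImplicit false
universe u

namespace Groth.Agent.Lib.Helper38.FiniteLocal

open IsLocalRing

/-- Idempotent lifting for Henselian pairs. -/
theorem exists_idempotent_lift {B : Type*} [CommRing B] [Nontrivial B] (I : Ideal B)
    [HenselianRing B I]
    (b₀ : B) (hb₀ : b₀ * b₀ - b₀ ∈ I) : ∃ e : B, e * e = e ∧ e - b₀ ∈ I := by
  have hmonic : (Polynomial.X ^ 2 - Polynomial.X : Polynomial B).Monic := by
    apply Polynomial.monic_X_pow_sub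
    rw [Polynomial.degree_X]
    norm_num
  have heval : (Polynomial.X ^ 2 - Polynomial.X : Polynomial B).eval b₀ ∈ I := by
    simp only [Polynomial.eval_sub, Polynomial.eval_pow, Polynomial.eval_X]
    rw [pow_two]; exact hb₀
  have hder : IsUnit (Ideal.Quotient.mk I
      ((Polynomial.X ^ 2 - Polynomial.X : Polynomial B).derivative.eval b₀)) := by
    have h1 : (Polynomial.X ^ 2 - Polynomial.X : Polynomial B).derivative.eval b₀ = 2 * b₀ - 1 := by
      simp
      ring
    rw [h1]
    apply IsUnit.of_mul_eq_one (Ideal.Quotient.mk I (2 * b₀ - 1))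
    rw [← map_mul, ← map_one (Ideal.Quotient.mk I), Ideal.Quotient.eq]
    have : (2 * b₀ - 1) * (2 * b₀ - 1) - 1 = 4 * (b₀ * b₀ - b₀) := by ring
    rw [this]
    exact Ideal.mul_mem_left _ _ hb₀
  obtain ⟨e, he, he'⟩ := HenselianRing.is_henselian _ hmonic b₀ heval hder
  refine ⟨e, ?_, he'⟩
  have : (Polynomial.X ^ 2 - Polynomial.X : Polynomial B).eval e = 0 := he
  simp only [Polynomial.eval_sub, Polynomial.eval_pow, Polynomial.eval_X] at this
  rw [← pow_two]
  exact sub_eq_zero.mp this

/-- A nontrivial reduced Artinian ring with only trivial idempotents is local. -/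
theorem isLocalRing_of_artinian_reduced (R : Type*) [CommRing R] [Nontrivial R] [IsArtinianRing R]
    [IsReduced R] (h : ∀ e : R, e * e = e → e = 0 ∨ e = 1) : IsLocalRing R := by
  classical
  have hsub : ∀ m₁ m₂ : MaximalSpectrum R, m₁ = m₂ := by
    intro m₁ m₂
    by_contra hne
    let ε : R := (IsArtinianRing.equivPi R).symm (Pi.single m₁ 1)
    have hε : ε * ε = ε := by
      change (IsArtinianRing.equivPi R).symm _ * (IsArtinianRing.equivPi R).symm _ = _
      rw [← map_mul, ← Pi.single_mul, mul_one]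
    have h1 : IsArtinianRing.equivPi R ε = Pi.single m₁ 1 :=
      (IsArtinianRing.equivPi R).apply_symm_apply _
    rcases h ε hε with h0 | h0
    · rw [h0, map_zero] at h1
      have := congrFun h1 m₁
      rw [Pi.zero_apply, Pi.single_eq_same] at this
      have hnt : Nontrivial (R ⧸ m₁.asIdeal) := Ideal.Quotient.nontrivial_iff.mpr m₁.isMaximal.ne_top
      exact zero_ne_one this
    · rw [h0, map_one] at h1
      have := congrFun h1 m₂
      rw [Pi.one_apply, Pi.single_eq_of_ne (Ne.symm hne)] at this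
      have hnt : Nontrivial (R ⧸ m₂.asIdeal) := Ideal.Quotient.nontrivial_iff.mpr m₂.isMaximal.ne_top
      exact one_ne_zero this
  obtain ⟨m, hm⟩ := Ideal.exists_maximal R
  refine IsLocalRing.of_unique_max_ideal ⟨m, hm, fun m' hm' => ?_⟩
  have := hsub ⟨m', hm'⟩ ⟨m, hm⟩
  exact congrArg MaximalSpectrum.asIdeal this

/-- A domain finite over a complete Noetherian local ring is a complete local ring. -/
theorem isLocalRing_isAdicComplete_of_finite (A B : Type u) [CommRing A] [IsLocalRing A]
    [IsNoetherianRing A] [IsAdicComplete (maximalIdeal A) A] [CommRing B] [IsDomain B]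
    [Algebra A B] [Module.Finite A B] :
    ∃ _ : IsLocalRing B, IsAdicComplete (maximalIdeal B) B := by
  have hBN : IsNoetherianRing B := IsNoetherianRing.of_finite A B
  -- `B` is complete for `I = 𝔪_A B`.
  have hP : IsPrecomplete (maximalIdeal A) B :=
    Groth.Agent.Lib.Helper25.isPrecomplete_of_finite (maximalIdeal A) B
  have hc0 : IsAdicComplete (maximalIdeal A) B := {}
  have hcI : IsAdicComplete ((maximalIdeal A).map (algebraMap A B)) B :=
    (IsAdicComplete.map_algebraMap_iff (R := A) (S := B) (maximalIdeal A) B).mpr hc0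
  have hIjac : (maximalIdeal A).map (algebraMap A B) ≤ (⊥ : Ideal B).jacobson :=
    IsAdicComplete.le_jacobson_bot _
  -- the Artinian quotient and its reduction
  have : IsArtinianRing (A ⧸ maximalIdeal A) := inferInstanceAs (IsArtinianRing (ResidueField A))
  have hArt : IsArtinianRing (B ⧸ (maximalIdeal A).map (algebraMap A B)) :=
    IsArtinianRing.of_finite (A ⧸ maximalIdeal A) (B ⧸ (maximalIdeal A).map (algebraMap A B))
  have hnilp : ∃ N : ℕ, (nilradical (B ⧸ (maximalIdeal A).map (algebraMap A B))) ^ N = ⊥ :=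
    IsArtinianRing.isNilpotent_nilradical
  obtain ⟨N, hN⟩ := hnilp
  let π₁ : B →+* (B ⧸ (maximalIdeal A).map (algebraMap A B)) := Ideal.Quotient.mk _
  let π₂ : (B ⧸ (maximalIdeal A).map (algebraMap A B)) →+*
      ((B ⧸ (maximalIdeal A).map (algebraMap A B)) ⧸
        nilradical (B ⧸ (maximalIdeal A).map (algebraMap A B))) := Ideal.Quotient.mk _
  have hπ₁ : Function.Surjective π₁ := Ideal.Quotient.mk_surjective
  have hπ₂ : Function.Surjective π₂ := Ideal.Quotient.mk_surjective
  have hkerjac : ∀ x : B, π₂ (π₁ x) = 0 → x ∈ (⊥ : Ideal B).jacobson := by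
    intro x hx
    have h1 : π₁ x ∈ nilradical (B ⧸ (maximalIdeal A).map (algebraMap A B)) :=
      Ideal.Quotient.eq_zero_iff_mem.mp hx
    obtain ⟨n, hn⟩ := h1
    have h2 : x ^ n ∈ (maximalIdeal A).map (algebraMap A B) := by
      rw [← Ideal.Quotient.eq_zero_iff_mem, map_pow]; exact hn
    have h3 : x ∈ ((⊥ : Ideal B).jacobson).radical := ⟨n, hIjac h2⟩
    exact (Ideal.isRadical_jacobson ⊥) h3
  have hRred : IsReduced ((B ⧸ (maximalIdeal A).map (algebraMap A B)) ⧸
      nilradical (B ⧸ (maximalIdeal A).map (algebraMap A B))) :=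
    (Ideal.isRadical_iff_quotient_reduced _).mp (Ideal.radical_isRadical _)
  have hRnt : Nontrivial ((B ⧸ (maximalIdeal A).map (algebraMap A B)) ⧸
      nilradical (B ⧸ (maximalIdeal A).map (algebraMap A B))) := by
    refine nontrivial_of_ne 0 1 (fun h01 => ?_)
    have h1 : π₂ (π₁ 1) = 0 := by rw [map_one, map_one]; exact h01.symm
    have h2 := hkerjac 1 h1
    have h3 : (⊥ : Ideal B).jacobson = ⊤ := (Ideal.eq_top_iff_one _).mpr h2
    rw [Ideal.jacobson_eq_top_iff] at h3
    exact bot_ne_top h3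
  have hidem : ∀ ε : ((B ⧸ (maximalIdeal A).map (algebraMap A B)) ⧸
      nilradical (B ⧸ (maximalIdeal A).map (algebraMap A B))), ε * ε = ε → ε = 0 ∨ ε = 1 := by
    intro ε hε
    obtain ⟨ε₁, hε₁, hε₁'⟩ := exists_isIdempotentElem_eq_of_ker_isNilpotent π₂
      (by
        intro x hx
        have : x ∈ nilradical (B ⧸ (maximalIdeal A).map (algebraMap A B)) :=
          Ideal.Quotient.eq_zero_iff_mem.mp hx
        exact this) ε (by obtain ⟨y, hy⟩ := hπ₂ ε; exact ⟨y, hy⟩) hε
    obtain ⟨b₀, rfl⟩ := hπ₁ ε₁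
    have hb₀ : b₀ * b₀ - b₀ ∈ (maximalIdeal A).map (algebraMap A B) := by
      rw [← Ideal.Quotient.eq_zero_iff_mem, map_sub, map_mul, sub_eq_zero]
      exact hε₁
    obtain ⟨e, he, he'⟩ := exists_idempotent_lift ((maximalIdeal A).map (algebraMap A B)) b₀ hb₀
    have he01 : e = 0 ∨ e = 1 := by
      have : e * (e - 1) = 0 := by rw [mul_sub, he, mul_one, sub_self]
      rcases mul_eq_zero.mp this with h | h
      · left; exact h
      · right; exact sub_eq_zero.mp h
    have hπe : π₁ e = π₁ b₀ := Ideal.Quotient.eq.mpr he'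
    rcases he01 with rfl | rfl
    · left; rw [← hε₁', ← hπe, map_zero, map_zero]
    · right; rw [← hε₁', ← hπe, map_one, map_one]
  have hRloc := isLocalRing_of_artinian_reduced _ hidem
  have hunit : ∀ y : B, IsUnit (π₂ (π₁ y)) → IsUnit y := by
    intro y hy
    obtain ⟨z, hz⟩ := hy.exists_right_inv
    obtain ⟨z₁, rfl⟩ := hπ₂ z
    obtain ⟨z₀, rfl⟩ := hπ₁ z₁
    have h1 : π₂ (π₁ (y * z₀ - 1)) = 0 := by
      rw [map_sub, map_sub, map_mul, map_mul, hz, map_one, map_one, sub_self]
    have h2 := hkerjac _ h1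
    have h3 := (Ideal.mem_jacobson_bot.mp h2) 1
    have : (y * z₀ - 1) * 1 + 1 = y * z₀ := by ring
    rw [this] at h3
    exact isUnit_of_mul_isUnit_left h3
  have hBloc : IsLocalRing B := by
    apply IsLocalRing.of_isUnit_or_isUnit_one_sub_self
    intro x
    rcases IsLocalRing.isUnit_or_isUnit_one_sub_self (π₂ (π₁ x)) with h | h
    · left; exact hunit x h
    · right; apply hunit; rwa [map_sub, map_sub, map_one, map_one]
  refine ⟨hBloc, ?_⟩
  have hIm : (maximalIdeal A).map (algebraMap A B) ≤ maximalIdeal B := by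
    have hj := IsLocalRing.jacobson_eq_maximalIdeal (⊥ : Ideal B) bot_ne_top
    rw [← hj]
    exact hIjac
  have hmN : (maximalIdeal B) ^ N ≤ (maximalIdeal A).map (algebraMap A B) := by
    have h1 : (maximalIdeal B).map π₁ ≤ nilradical (B ⧸ (maximalIdeal A).map (algebraMap A B)) := by
      rw [Ideal.map_le_iff_le_comap]
      intro x hx
      rw [Ideal.mem_comap, ← Ideal.Quotient.eq_zero_iff_mem]
      change π₂ (π₁ x) = 0
      have hnu : ¬ IsUnit (π₂ (π₁ x)) := fun h => hx (hunit x h)
      have hjac : π₂ (π₁ x) ∈ (⊥ : Ideal _).jacobson := by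
        rw [IsLocalRing.jacobson_eq_maximalIdeal ⊥ bot_ne_top]
        exact hnu
      obtain ⟨n, hn⟩ := IsArtinianRing.isNilpotent_jacobson_bot (R := ((B ⧸ (maximalIdeal A).map
        (algebraMap A B)) ⧸ nilradical (B ⧸ (maximalIdeal A).map (algebraMap A B))))
      have h2 : (π₂ (π₁ x)) ^ n ∈ ((⊥ : Ideal _).jacobson) ^ n := Ideal.pow_mem_pow hjac n
      rw [hn] at h2
      exact IsReduced.eq_zero _ ⟨n, h2⟩
    have h2 : ((maximalIdeal B) ^ N).map π₁ ≤ ⊥ := by
      rw [Ideal.map_pow, ← hN]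
      exact Ideal.pow_right_mono h1 N
    intro x hx
    have h3 := h2 (Ideal.mem_map_of_mem π₁ hx)
    rw [Ideal.mem_bot] at h3
    exact Ideal.Quotient.eq_zero_iff_mem.mp h3
  have hPm : IsPrecomplete (maximalIdeal B) B :=
    Groth.Agent.Lib.Helper25.isPrecomplete_of_pow_le _ (maximalIdeal B) hIm N hmN
  exact {}

end Groth.Agent.Lib.Helper38.FiniteLocal
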