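import Groth.Agent.Lib.Helper22.IdealModAff
import Groth.Agent.Lib.Helper35.EndInv
import Groth.Agent.Lib.Helper22.SteinInt

/-!
# Linearly equivalent comparable effective Cartier divisors on a proper scheme over a field agree
(helper38)

* `isUnit_of_isIntegral_of_mem_nonZeroDivisors`: in an algebra integral over a field, every
  nonzerodivisor is a unit.
* `eq_of_le_of_iso`: if `D₂ ≤ D₁` are ideal sheaves with `D₁` effective Cartier, the ideal modules
  are isomorphic and every nonzerodivisor of `Γ(M, ⊤)` is a unit, then `D₁ = D₂`.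
-/

set_option autoImplicit false
universe u

open CategoryTheory AlgebraicGeometry TopologicalSpace Opposite CategoryTheory.Limits

namespace Groth.Agent.Lib.Helper38.CartierLinEq

open Groth.Agent.Lib.Helper22.IdealModAff Groth.Agent.Lib.Helper35.Gen
  Groth.Agent.Lib.Helper2.KerSec

theorem isUnit_of_isIntegral_of_mem_nonZeroDivisors {K A : Type*} [Field K] [CommRing A]
    (φ : K →+* A) (hφ : φ.IsIntegral) (a : A) (ha : a ∈ nonZeroDivisors A) : IsUnit a := by
  letI := φ.toAlgebra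
  have hia : IsIntegral K a := hφ a
  let B : Subalgebra K A := Algebra.adjoin K {a}
  haveI : Module.Finite K B := Module.Finite.iff_fg.mpr hia.fg_adjoin_singleton
  haveI : IsArtinianRing B := IsArtinianRing.of_finite K B
  let a' : B := ⟨a, Algebra.subset_adjoin rfl⟩
  have ha' : a' ∈ nonZeroDivisors B := by
    rw [mem_nonZeroDivisors_iff_right]
    intro x hx
    have h1 : (x : A) * a = 0 := congrArg Subtype.val hx
    have h2 : (x : A) = 0 := (mem_nonZeroDivisors_iff_right.1 ha) _ h1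
    exact Subtype.ext h2
  have hu : IsUnit a' := IsArtinianRing.isUnit_of_mem_nonZeroDivisors ha'
  exact hu.map B.val

variable {M : Scheme.{u}}

theorem incl_apply (I : M.IdealSheafData) (W : M.Opens) (x : Γ(ClSub.idealMod I, W)) :
    incl I W x = (ClSub.idealModι I).app W x := rfl

theorem subschemeι_app_incl (I : M.IdealSheafData) (W : M.Opens) (x : Γ(ClSub.idealMod I, W)) :
    (I.subschemeι.app W).hom (incl I W x) = 0 :=
  app_kernelι_comp (ClSub.toSubscheme I) W x

theorem exists_incl_eq (I : M.IdealSheafData) (W : M.Opens) (s : Γ(M, W))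
    (hs : (I.subschemeι.app W).hom s = 0) : ∃ t : Γ(ClSub.idealMod I, W), incl I W t = s :=
  exists_of_app_eq_zero (ClSub.toSubscheme I) W s hs

theorem subschemeι_app_eq_zero_of_le {D₁ D₂ : M.IdealSheafData} (hle : D₂ ≤ D₁) (W : M.Opens)
    (s : Γ(M, W)) (hs : (D₂.subschemeι.app W).hom s = 0) : (D₁.subschemeι.app W).hom s = 0 := by
  have key : ∀ (q : D₁.subscheme ⟶ M), q = Scheme.IdealSheafData.inclusion hle ≫ D₂.subschemeι →
      (q.app W).hom s = 0 := by
    rintro q rfl
    have h1 := congr($(Scheme.Hom.comp_app (Scheme.IdealSheafData.inclusion hle) D₂.subschemeι W) s)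
    refine h1.trans ?_
    change ((Scheme.IdealSheafData.inclusion hle).app _).hom ((D₂.subschemeι.app W).hom s) = 0
    rw [hs, map_zero]
  exact key _ (Scheme.IdealSheafData.inclusion_subschemeι hle).symm

section Main

variable (D₁ D₂ : M.IdealSheafData)

/-- the comparison endomorphism `I_{D₁} ≅ I_{D₂} ⊆ I_{D₁}` -/
theorem exists_endo (hle : D₂ ≤ D₁) (ψ : ClSub.idealMod D₁ ≅ ClSub.idealMod D₂) :
    ∃ v : ClSub.idealMod D₁ ⟶ ClSub.idealMod D₁, ∀ (W : M.Opens) (m : Γ(ClSub.idealMod D₁, W)),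
      incl D₁ W ((v.app W).hom m) = incl D₂ W ((ψ.hom.app W).hom m) := by
  let w : ClSub.idealMod D₁ ⟶ Coh.structureModule M := ψ.hom ≫ ClSub.idealModι D₂
  have hw : w ≫ ClSub.toSubscheme D₁ = 0 := by
    apply Scheme.Modules.hom_ext
    intro W
    ext m
    change (D₁.subschemeι.app W).hom (incl D₂ W ((ψ.hom.app W).hom m)) = 0
    exact subschemeι_app_eq_zero_of_le hle W _ (subschemeι_app_incl D₂ W _)
  refine ⟨kernel.lift (ClSub.toSubscheme D₁) w hw, fun W m => ?_⟩
  have h := kernel.lift_ι (ClSub.toSubscheme D₁) w hw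
  have h2 : (kernel.lift (ClSub.toSubscheme D₁) w hw ≫ kernel.ι (ClSub.toSubscheme D₁)).app W =
      w.app W := by rw [h]
  exact congr($h2 m)

theorem eq_of_le_of_iso (h₁ : BlowUp.IsEffCartierIdeal D₁) (hle : D₂ ≤ D₁)
    (ψ : ClSub.idealMod D₁ ≅ ClSub.idealMod D₂)
    (hunit : ∀ u : Γ(M, ⊤), u ∈ nonZeroDivisors Γ(M, ⊤) → IsUnit u) : D₁ = D₂ := by
  obtain ⟨v, hv⟩ := exists_endo D₁ D₂ hle ψ
  have hinv := isInvertible_of_isEffCartierIdeal D₁ h₁
  obtain ⟨u, hu⟩ := Groth.Agent.Lib.Helper35.EndInv.exists_scalar hinv v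
  have hψinj : ∀ (W : M.Opens) (x : Γ(ClSub.idealMod D₁, W)), (ψ.hom.app W).hom x = 0 → x = 0 := by
    intro W x hx
    have h := ψ.hom_inv_id
    have h2 : (ψ.hom ≫ ψ.inv).app W = (𝟙 (ClSub.idealMod D₁) : _ ⟶ _).app W := by rw [h]
    have h3 : (ψ.inv.app W).hom ((ψ.hom.app W).hom x) = x := congr($h2 x)
    rw [hx, map_zero] at h3
    exact h3.symm
  have hvinj : ∀ (W : M.Opens) (x : Γ(ClSub.idealMod D₁, W)), (v.app W).hom x = 0 → x = 0 := by
    intro W x hx
    apply hψinj W x
    apply incl_injective D₂ W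
    rw [← hv, hx, map_zero, map_zero]
  have hnzd : u ∈ nonZeroDivisors Γ(M, ⊤) := by
    rw [mem_nonZeroDivisors_iff_right]
    intro b hb
    choose U hxU f hf hI using h₁
    refine M.sheaf.eq_of_locally_eq' (fun x => (U x).1) ⊤ (fun x => homOfLE le_top)
      (fun y _ => Opens.mem_iSup.mpr ⟨y, hxU y⟩) b 0 (fun x => ?_)
    change rr M (le_top : (U x).1 ≤ ⊤) b = rr M le_top 0
    rw [map_zero]
    have hfI : f x ∈ D₁.ideal (U x) := by rw [hI x]; exact Ideal.mem_span_singleton_self _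
    obtain ⟨e, he⟩ := (mem_ideal_iff D₁ (U x) (f x)).1 hfI
    have h1 : (v.app (U x).1).hom (rr M (le_top : (U x).1 ≤ ⊤) b • e) = 0 := by
      rw [hu, ← mul_smul, ← map_mul, mul_comm, hb, map_zero, zero_smul]
    have h2 : rr M (le_top : (U x).1 ≤ ⊤) b • e = 0 := hvinj _ _ h1
    have h3 : rr M (le_top : (U x).1 ≤ ⊤) b * f x = 0 := by
      have := congrArg (incl D₁ (U x).1) h2
      rw [_root_.map_smul, he, map_zero] at this
      exact this
    exact (mem_nonZeroDivisors_iff_right.1 (hf x)) _ h3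
  have hu' := hunit u hnzd
  refine le_antisymm ?_ hle
  rw [Scheme.IdealSheafData.le_def]
  intro W a ha
  obtain ⟨t, rfl⟩ := (mem_ideal_iff D₁ W a).1 ha
  obtain ⟨uinv, huinv⟩ := hu'.exists_right_inv
  have h1 : (v.app W.1).hom (rr M (le_top : W.1 ≤ ⊤) uinv • t) = t := by
    rw [hu, ← mul_smul, ← map_mul, huinv, map_one, one_smul]
  rw [← h1, hv]
  exact (mem_ideal_iff D₂ W _).2 ⟨_, rfl⟩

end Main

end Groth.Agent.Lib.Helper38.CartierLinEq
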