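import Groth.Agent.Lib.Helper38.CohenSeed
import Groth.Prelude.Def_Found

set_option autoImplicit false
universe u

namespace Groth.Agent.Lib.Helper38.CohenCompl

section UnifRing

variable {R : Type*} [CommRing R] (π : R)
  (hdiv : ∀ x : R, IsUnit x ∨ π ∣ x) (hsep : ∀ x : R, (∀ n : ℕ, π ^ n ∣ x) → x = 0)

include hdiv hsep in
theorem exists_eq_pow_mul_unit (x : R) (hx : x ≠ 0) : ∃ (n : ℕ) (u : Rˣ), x = π ^ n * u := by
  classical
  have hex : ∃ n : ℕ, ¬ π ^ n ∣ x := by
    by_contra h
    push Not at h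
    exact hx (hsep x h)
  have hn0 : Nat.find hex ≠ 0 := by
    intro h
    have := Nat.find_spec hex
    rw [h, pow_zero] at this
    exact this (one_dvd x)
  obtain ⟨m, hm⟩ := Nat.exists_eq_succ_of_ne_zero hn0
  have hmin : ¬ ¬ π ^ m ∣ x := Nat.find_min hex (by rw [hm]; exact Nat.lt_succ_self m)
  push Not at hmin
  obtain ⟨u, rfl⟩ := hmin
  have hspec := Nat.find_spec hex
  rw [hm] at hspec
  rcases hdiv u with hu | hu
  · exact ⟨m, hu.unit, by simp⟩
  · exfalso
    apply hspec
    obtain ⟨v, rfl⟩ := hu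
    exact ⟨v, by rw [pow_succ, mul_assoc]⟩

include hdiv hsep in
theorem noZeroDivisors_of_pow_ne_zero (hpow : ∀ n : ℕ, π ^ n ≠ 0) : NoZeroDivisors R := by
  constructor
  intro a b hab
  by_contra hcon
  push Not at hcon
  obtain ⟨n, u, rfl⟩ := exists_eq_pow_mul_unit π hdiv hsep a hcon.1
  obtain ⟨m, v, rfl⟩ := exists_eq_pow_mul_unit π hdiv hsep b hcon.2
  apply hpow (n + m)
  have : π ^ (n + m) * ((u * v : Rˣ) : R) = 0 := by
    rw [← hab, pow_add, Units.val_mul]; ring
  exact (Units.mul_left_eq_zero _).mp this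

include hdiv hsep in
theorem isDiscreteValuationRing_of [IsDomain R] (hπ0 : π ≠ 0) (hπu : ¬ IsUnit π) :
    IsDiscreteValuationRing R := by
  apply IsDiscreteValuationRing.ofHasUnitMulPowIrreducibleFactorization
  refine ⟨π, ?_, ?_⟩
  · refine ⟨hπu, fun a b hab => ?_⟩
    rcases hdiv a with ha | ha
    · exact Or.inl ha
    · right
      obtain ⟨a', rfl⟩ := ha
      have h1 : π * 1 = π * (a' * b) := by rw [mul_one, ← mul_assoc]; exact hab
      have h2 := mul_left_cancel₀ hπ0 h1
      exact IsUnit.of_mul_eq_one a' (by rw [mul_comm]; exact h2.symm)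
  · intro x hx
    obtain ⟨n, u, rfl⟩ := exists_eq_pow_mul_unit π hdiv hsep x hx
    exact ⟨n, u, rfl⟩

end UnifRing

open IsLocalRing in
/-- A local ring whose maximal ideal is generated by a non-nilpotent element `π` and which is
`π`-adically complete is a complete DVR. -/
theorem isDomain_and_isDVR_of_complete {Λ : Type*} [CommRing Λ] [IsLocalRing Λ] (π : Λ)
    (hmax : maximalIdeal Λ = Ideal.span {π}) [IsHausdorff (maximalIdeal Λ) Λ]
    (hpow : ∀ n : ℕ, π ^ n ≠ 0) :
    ∃ (_ : IsDomain Λ), IsDiscreteValuationRing Λ := by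
  have hdiv : ∀ x : Λ, IsUnit x ∨ π ∣ x := by
    intro x
    by_cases hx : IsUnit x
    · exact Or.inl hx
    · right
      have : x ∈ maximalIdeal Λ := hx
      rw [hmax, Ideal.mem_span_singleton] at this
      exact this
  have hsep : ∀ x : Λ, (∀ n : ℕ, π ^ n ∣ x) → x = 0 := by
    intro x hx
    apply IsHausdorff.haus (I := maximalIdeal Λ) inferInstance
    intro n
    rw [SModEq.zero, hmax, Ideal.span_singleton_pow, smul_eq_mul, Ideal.mul_top,
      Ideal.mem_span_singleton]
    exact hx n
  have hnzd := noZeroDivisors_of_pow_ne_zero π hdiv hsep hpow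
  have hdom : IsDomain Λ := NoZeroDivisors.to_isDomain Λ
  refine ⟨hdom, ?_⟩
  apply isDiscreteValuationRing_of π hdiv hsep
  · have := hpow 1; rwa [pow_one] at this
  · intro hu
    have : π ∈ maximalIdeal Λ := by rw [hmax]; exact Ideal.mem_span_singleton_self π
    exact this hu

open IsLocalRing in
theorem exists_cohenRing' (p : ℕ) [Fact p.Prime] (k : Type u) [Field k] [CharP k p] :
    ∃ (Λ : Type u) (_ : CommRing Λ) (_ : IsLocalRing Λ) (_ : IsDomain Λ),
      IsDiscreteValuationRing Λ ∧ IsAdicComplete (maximalIdeal Λ) Λ ∧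
      maximalIdeal Λ = Ideal.span {(p : Λ)} ∧ (p : Λ) ≠ 0 ∧
      Nonempty (IsLocalRing.ResidueField Λ ≃+* k) := by
  obtain ⟨R, _, φ, hdom, hφ, hp0, hker, hunit, hsep⟩ := CohenSeed.exists_preCohen p k
  have hloc : IsLocalRing R := by
    apply IsLocalRing.of_isUnit_or_isUnit_one_sub_self
    intro a
    by_cases h : φ a = 0
    · right; apply hunit; rw [map_sub, map_one, h, sub_zero]; exact one_ne_zero
    · left; exact hunit a h
  have hmax : maximalIdeal R = Ideal.span {(p : R)} := by
    ext x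
    rw [IsLocalRing.mem_maximalIdeal, mem_nonunits_iff, Ideal.mem_span_singleton]
    constructor
    · intro hx
      by_cases h : φ x = 0
      · obtain ⟨g', rfl⟩ := hker x h; exact dvd_mul_right _ _
      · exact absurd (hunit x h) hx
    · rintro ⟨c, rfl⟩ hu
      have := hu.map φ
      rw [map_mul, map_natCast, CharP.cast_eq_zero, zero_mul] at this
      exact not_isUnit_zero this
  have hfg : (maximalIdeal R).FG := by rw [hmax]; exact ⟨{(p:R)}, by simp⟩
  have hΛloc : IsLocalRing (AdicCompletion (maximalIdeal R) R) := AdicCompletion.isLocalRing_of_fg hfg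
  have hΛmax : maximalIdeal (AdicCompletion (maximalIdeal R) R) =
      (maximalIdeal R).map (algebraMap R (AdicCompletion (maximalIdeal R) R)) :=
    AdicCompletion.maximalIdeal_eq_map_of_fg hfg
  have hΛmax' : maximalIdeal (AdicCompletion (maximalIdeal R) R) =
      Ideal.span {(p : AdicCompletion (maximalIdeal R) R)} := by
    rw [hΛmax, hmax, Ideal.map_span, Set.image_singleton, map_natCast]
  have hΛc : IsAdicComplete (maximalIdeal (AdicCompletion (maximalIdeal R) R))
      (AdicCompletion (maximalIdeal R) R) := AdicCompletion.isAdicComplete_of_fg hfg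
  have hHaus : IsHausdorff (maximalIdeal R) R := by
    constructor
    intro x hx
    apply hsep
    intro n
    have := hx n
    rw [SModEq.zero, hmax, Ideal.span_singleton_pow, smul_eq_mul, Ideal.mul_top,
      Ideal.mem_span_singleton] at this
    exact this
  have hinj : Function.Injective (algebraMap R (AdicCompletion (maximalIdeal R) R)) :=
    AdicCompletion.of_injective (maximalIdeal R) R
  have hpow : ∀ n : ℕ, (p : AdicCompletion (maximalIdeal R) R) ^ n ≠ 0 := by
    intro n h
    rw [← map_natCast (algebraMap R (AdicCompletion (maximalIdeal R) R)), ← map_pow] at h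
    exact pow_ne_zero n hp0 (hinj (by rw [h, map_zero]))
  obtain ⟨hD, hDVR⟩ := isDomain_and_isDVR_of_complete (p : AdicCompletion (maximalIdeal R) R)
    hΛmax' hpow
  refine ⟨AdicCompletion (maximalIdeal R) R, inferInstance, hΛloc, hD, hDVR, hΛc, hΛmax',
    (by have := hpow 1; rwa [pow_one] at this), ?_⟩
  have hloc' := AdicCompletion.algebraMap_isLocalHom_of_fg hfg
  have hbij := AdicCompletion.residueField_map_bijective_of_fg hfg
  let e1 : ResidueField R ≃+* ResidueField (AdicCompletion (maximalIdeal R) R) :=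
    RingEquiv.ofBijective _ hbij
  have hkerφ : RingHom.ker φ = maximalIdeal R := by
    ext x
    rw [RingHom.mem_ker, hmax, Ideal.mem_span_singleton]
    constructor
    · intro h; obtain ⟨g', rfl⟩ := hker x h; exact dvd_mul_right _ _
    · rintro ⟨c, rfl⟩
      rw [map_mul, map_natCast, CharP.cast_eq_zero, zero_mul]
  let e2 : (R ⧸ RingHom.ker φ) ≃+* k := RingHom.quotientKerEquivOfSurjective hφ
  let e3 : ResidueField R ≃+* (R ⧸ RingHom.ker φ) := Ideal.quotEquivOfEq hkerφ.symm
  exact ⟨e1.symm.trans (e3.trans e2)⟩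

theorem exists_cohenRing (p : ℕ) [Fact p.Prime] (k : Type u) [Field k] [CharP k p] :
    ∃ (Λ : Type u) (_ : CommRing Λ) (_ : IsLocalRing Λ), CAlg.IsCohenRing Λ ∧
      Nonempty (IsLocalRing.ResidueField Λ ≃+* k) := by
  obtain ⟨Λ, _, _, hD, hDVR, hc, hmax, -, he⟩ := exists_cohenRing' p k
  exact ⟨Λ, inferInstance, inferInstance, ⟨hD, hDVR, hc, p, Fact.out, hmax⟩, he⟩

end Groth.Agent.Lib.Helper38.CohenCompl
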