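import Groth.Agent.Lib.Helper38.CohenLift
import Mathlib

set_option autoImplicit false
universe u

namespace Groth.Agent.Lib.Helper38.CohenLift

open IsLocalRing

section Seq

variable {B S : Type*} [CommRing B] [CommRing S]

/-- Successive lifts along a decreasing chain of ideals. -/
noncomputable def liftSeq' (K : ℕ → Ideal S) (hK : ∀ n, K (n + 1) ≤ K n)
    (step : ∀ (n : ℕ) (h : B →+* S ⧸ K n), ∃ h' : B →+* S ⧸ K (n + 1),
      (Ideal.Quotient.factor (hK n)).comp h' = h)
    (f0 : B →+* S ⧸ K 0) : (n : ℕ) → B →+* S ⧸ K n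
  | 0 => f0
  | n + 1 => Classical.choose (step n (liftSeq' K hK step f0 n))

theorem liftSeq'_succ (K : ℕ → Ideal S) (hK : ∀ n, K (n + 1) ≤ K n)
    (step : ∀ (n : ℕ) (h : B →+* S ⧸ K n), ∃ h' : B →+* S ⧸ K (n + 1),
      (Ideal.Quotient.factor (hK n)).comp h' = h)
    (f0 : B →+* S ⧸ K 0) (n : ℕ) :
    (Ideal.Quotient.factor (hK n)).comp (liftSeq' K hK step f0 (n + 1)) =
      liftSeq' K hK step f0 n :=
  Classical.choose_spec (step n (liftSeq' K hK step f0 n))

end Seq

section Local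

variable (p : ℕ) [Fact p.Prime] {B K S : Type u} [CommRing B] [Field K] [CharP K p]
  [CommRing S] [IsLocalRing S] [IsNoetherianRing S] [IsAdicComplete (maximalIdeal S) S]

/-- Lifting along an arbitrary quotient of a complete Noetherian local ring of residue
characteristic `p`. -/
theorem exists_lift_of_complete_local (ρ : B →+* K) (hρ : Function.Surjective ρ)
    (hker : ∀ b : B, ρ b = 0 → ∃ b', b = (p : B) * b') (hpB : ∀ b : B, (p : B) * b = 0 → b = 0)
    (hpS : (p : S) ∈ maximalIdeal S) (J : Ideal S) (hJ : J ≠ ⊤) (f : B →+* S ⧸ J) :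
    ∃ g : B →+* S, (Ideal.Quotient.mk J).comp g = f := by
  have hJm : J ≤ maximalIdeal S := le_maximalIdeal hJ
  let Kn : ℕ → Ideal S := fun n => J * (maximalIdeal S) ^ n
  have hK : ∀ n, Kn (n + 1) ≤ Kn n := fun n =>
    Ideal.mul_mono_right (Ideal.pow_le_pow_right n.le_succ)
  have hKJ : ∀ n, Kn n ≤ J := fun n => Ideal.mul_le_left
  have hKm : ∀ n, Kn n ≤ (maximalIdeal S) ^ n := fun n => Ideal.mul_le_right
  have hKm' : ∀ n, Kn n ≤ (maximalIdeal S) ^ (n + 1) := fun n => by
    rw [pow_succ']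
    exact Ideal.mul_mono_left hJm
  have step : ∀ (n : ℕ) (h : B →+* S ⧸ Kn n), ∃ h' : B →+* S ⧸ Kn (n + 1),
      (Ideal.Quotient.factor (hK n)).comp h' = h := by
    intro n h
    have hq : Function.Surjective (Ideal.Quotient.factor (hK n)) :=
      Ideal.Quotient.factor_surjective _
    have hkerq : ∀ x : S ⧸ Kn (n + 1), Ideal.Quotient.factor (hK n) x = 0 →
        ∃ s ∈ Kn n, x = Ideal.Quotient.mk _ s := by
      intro x hx
      obtain ⟨s, rfl⟩ := Ideal.Quotient.mk_surjective x
      refine ⟨s, ?_, rfl⟩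
      rw [Ideal.Quotient.factor_mk, Ideal.Quotient.eq_zero_iff_mem] at hx
      exact hx
    refine exists_lift_of_sqZero p ρ hρ hker hpB _ hq ?_ ?_ h
    · intro x y hx hy
      obtain ⟨s, hs, rfl⟩ := hkerq x hx
      obtain ⟨t, ht, rfl⟩ := hkerq y hy
      rw [← map_mul, Ideal.Quotient.eq_zero_iff_mem]
      exact Ideal.mul_mem_mul (hKJ n hs) (hKm' n ht)
    · intro x hx
      obtain ⟨s, hs, rfl⟩ := hkerq x hx
      rw [← map_natCast (Ideal.Quotient.mk _), ← map_mul, Ideal.Quotient.eq_zero_iff_mem]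
      change (p : S) * s ∈ J * (maximalIdeal S) ^ (n + 1)
      have hs' : s ∈ J * (maximalIdeal S) ^ n := hs
      rw [pow_succ', ← mul_assoc, mul_comm J, mul_assoc]
      exact Ideal.mul_mem_mul hpS hs'
  have hK0 : J = Kn 0 := by
    change J = J * (maximalIdeal S) ^ 0
    rw [pow_zero, Ideal.one_eq_top, Ideal.mul_top]
  let f0 : B →+* S ⧸ Kn 0 := (Ideal.quotEquivOfEq hK0).toRingHom.comp f
  let gs := liftSeq' Kn hK step f0
  have hgs : ∀ n, (Ideal.Quotient.factor (hK n)).comp (gs (n + 1)) = gs n :=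
    liftSeq'_succ Kn hK step f0
  -- compatibility with `f`
  have hr : ∀ n, (Ideal.Quotient.factor (hKJ n)).comp (gs n) = f := by
    intro n
    induction n with
    | zero =>
      ext b
      change Ideal.Quotient.factor (hKJ 0) ((Ideal.quotEquivOfEq hK0) (f b)) = f b
      obtain ⟨t, ht⟩ := Ideal.Quotient.mk_surjective (f b)
      rw [← ht]
      rfl
    | succ n ih =>
      rw [← ih, ← hgs n, ← RingHom.comp_assoc, Ideal.Quotient.factor_comp]
  let hs : (n : ℕ) → B →+* S ⧸ (maximalIdeal S) ^ (id n) := fun n =>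
    (Ideal.Quotient.factor (hKm n)).comp (gs n)
  have hhs : ∀ {m : ℕ}, (Ideal.Quotient.factorPow (maximalIdeal S)
      (strictMono_id.monotone m.le_succ)).comp (hs (m + 1)) = hs m := by
    intro m
    change _ = (Ideal.Quotient.factor (hKm m)).comp (gs m)
    rw [← hgs m, ← RingHom.comp_assoc, ← RingHom.comp_assoc]
    change ((Ideal.Quotient.factor (Ideal.pow_le_pow_right m.le_succ)).comp
      (Ideal.Quotient.factor (hKm (m + 1)))).comp _ = _
    rw [Ideal.Quotient.factor_comp, Ideal.Quotient.factor_comp]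
  let g : B →+* S := IsAdicComplete.StrictMono.liftRingHom (maximalIdeal S) strictMono_id hs hhs
  have hg : ∀ (n : ℕ) (b : B), Ideal.Quotient.mk ((maximalIdeal S) ^ n) (g b) = hs n b :=
    fun n b => IsAdicComplete.StrictMono.mk_liftRingHom (maximalIdeal S) strictMono_id hs hhs b
  refine ⟨g, ?_⟩
  ext b
  obtain ⟨t, ht⟩ := Ideal.Quotient.mk_surjective (f b)
  rw [RingHom.comp_apply, ← ht, ← sub_eq_zero, ← map_sub]
  apply IsHausdorff.haus (I := maximalIdeal S) (M := S ⧸ J) inferInstance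
  intro n
  rw [SModEq.zero]
  obtain ⟨s, hsn⟩ := Ideal.Quotient.mk_surjective (gs n b)
  have h1 : g b - s ∈ (maximalIdeal S) ^ n := by
    rw [← Ideal.Quotient.eq, hg n b]
    change Ideal.Quotient.factor (hKm n) (gs n b) = _
    rw [← hsn]
    rfl
  have h2 : s - t ∈ J := by
    rw [← Ideal.Quotient.eq, ht, ← hr n]
    change _ = Ideal.Quotient.factor (hKJ n) (gs n b)
    rw [← hsn]
    rfl
  have h3 : Ideal.Quotient.mk J (g b - t) = Ideal.Quotient.mk J (g b - s) := by
    rw [Ideal.Quotient.eq]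
    have : g b - t - (g b - s) = s - t := by ring
    rw [this]
    exact h2
  rw [h3]
  have h4 : Ideal.Quotient.mk J (g b - s) = (g b - s) • (1 : S ⧸ J) := by
    rw [Algebra.smul_def, mul_one]
    rfl
  rw [h4]
  exact Submodule.smul_mem_smul h1 Submodule.mem_top

end Local

section Nilp

variable (p : ℕ) [Fact p.Prime] {B K A : Type u} [CommRing B] [Field K] [CharP K p] [CommRing A]

/-- Lifting along a square-zero ideal of a ring in which `p` is nilpotent. -/
theorem exists_lift_of_sqZero_of_nilpotent (ρ : B →+* K) (hρ : Function.Surjective ρ)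
    (hker : ∀ b : B, ρ b = 0 → ∃ b', b = (p : B) * b') (hpB : ∀ b : B, (p : B) * b = 0 → b = 0)
    (J : Ideal A) (hJ : J ^ 2 = ⊥) (m : ℕ) (hm : (p : A) ^ m = 0) (f : B →+* A ⧸ J) :
    ∃ g : B →+* A, (Ideal.Quotient.mk J).comp g = f := by
  let Kn : ℕ → Ideal A := fun i => Ideal.span {(p : A) ^ i} * J
  have hKJ : ∀ i, Kn i ≤ J := fun i => Ideal.mul_le_right
  have hK : ∀ i, Kn (i + 1) ≤ Kn i := by
    intro i
    apply Ideal.mul_mono_left
    rw [Ideal.span_le, Set.singleton_subset_iff, pow_succ]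
    exact Ideal.mul_mem_right _ _ (Ideal.mem_span_singleton_self _)
  have hall : ∀ i, ∃ h : B →+* A ⧸ Kn i, (Ideal.Quotient.factor (hKJ i)).comp h = f := by
    intro i
    induction i with
    | zero =>
      have hK0 : J = Kn 0 := by
        change J = Ideal.span {(p : A) ^ 0} * J
        rw [pow_zero, Ideal.span_singleton_one, Ideal.top_mul]
      refine ⟨(Ideal.quotEquivOfEq hK0).toRingHom.comp f, ?_⟩
      ext b
      change Ideal.Quotient.factor (hKJ 0) ((Ideal.quotEquivOfEq hK0) (f b)) = f b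
      obtain ⟨t, ht⟩ := Ideal.Quotient.mk_surjective (f b)
      rw [← ht]
      rfl
    | succ i ih =>
      obtain ⟨h, hh⟩ := ih
      have hq : Function.Surjective (Ideal.Quotient.factor (hK i)) :=
        Ideal.Quotient.factor_surjective _
      have hkerq : ∀ x : A ⧸ Kn (i + 1), Ideal.Quotient.factor (hK i) x = 0 →
          ∃ s ∈ Kn i, x = Ideal.Quotient.mk _ s := by
        intro x hx
        obtain ⟨s, rfl⟩ := Ideal.Quotient.mk_surjective x
        refine ⟨s, ?_, rfl⟩
        rw [Ideal.Quotient.factor_mk, Ideal.Quotient.eq_zero_iff_mem] at hx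
        exact hx
      obtain ⟨h', hh'⟩ := exists_lift_of_sqZero p ρ hρ hker hpB _ hq (by
        intro x y hx hy
        obtain ⟨s, hs, rfl⟩ := hkerq x hx
        obtain ⟨t, ht, rfl⟩ := hkerq y hy
        rw [← map_mul]
        have : s * t ∈ J ^ 2 := by
          rw [pow_two]; exact Ideal.mul_mem_mul (hKJ i hs) (hKJ i ht)
        rw [hJ, Ideal.mem_bot] at this
        rw [this, map_zero]) (by
        intro x hx
        obtain ⟨s, hs, rfl⟩ := hkerq x hx
        rw [← map_natCast (Ideal.Quotient.mk _), ← map_mul, Ideal.Quotient.eq_zero_iff_mem]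
        change (p : A) * s ∈ Ideal.span {(p : A) ^ (i + 1)} * J
        have hs' : s ∈ Ideal.span {(p : A) ^ i} * J := hs
        have h1 : (p : A) * s ∈ Ideal.span {(p : A)} * (Ideal.span {(p : A) ^ i} * J) :=
          Ideal.mul_mem_mul (Ideal.mem_span_singleton_self _) hs'
        rw [← mul_assoc, Ideal.span_singleton_mul_span_singleton, ← pow_succ'] at h1
        exact h1) h
      refine ⟨h', ?_⟩
      rw [← hh, ← hh', ← RingHom.comp_assoc, Ideal.Quotient.factor_comp]
  obtain ⟨h, hh⟩ := hall m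
  have hKm : Kn m = ⊥ := by
    change Ideal.span {(p : A) ^ m} * J = ⊥
    rw [hm, Ideal.span_singleton_eq_bot.mpr rfl, Ideal.bot_mul]
  let e : A ⧸ Kn m ≃+* A := (Ideal.quotEquivOfEq hKm).trans (RingEquiv.quotientBot A)
  refine ⟨e.toRingHom.comp h, ?_⟩
  ext b
  rw [← hh]
  obtain ⟨s, hs⟩ := Ideal.Quotient.mk_surjective (h b)
  change Ideal.Quotient.mk J (e (h b)) = Ideal.Quotient.factor (hKJ m) (h b)
  rw [← hs]
  rfl

end Nilp

end Groth.Agent.Lib.Helper38.CohenLift
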