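import Groth.Agent.Lib.Helper38.CohenZorn

set_option autoImplicit false
universe u

namespace Groth.Agent.Lib.Helper38.CohenSeed

open MvPolynomial

section Seed

variable (p : ℕ) [hp : Fact p.Prime] {k : Type u} [Field k] [CharP k p]

/-- The evaluation map `ℤ[X_T] → k`. -/
noncomputable def psi (T : Set k) : MvPolynomial T ℤ →+* k :=
  MvPolynomial.eval₂Hom (Int.castRingHom k) (fun s : T => (s : k))

theorem psi_eq_aeval_map [Algebra (ZMod p) k] (T : Set k) (f : MvPolynomial T ℤ) :
    psi T f = MvPolynomial.aeval (R := ZMod p) (fun s : T => (s : k))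
      (MvPolynomial.map (Int.castRingHom (ZMod p)) f) := by
  rw [MvPolynomial.aeval_def, MvPolynomial.eval₂_map]
  have : (algebraMap (ZMod p) k).comp (Int.castRingHom (ZMod p)) = Int.castRingHom k :=
    RingHom.ext_int _ _
  rw [this]
  rfl

theorem mem_ker_psi_iff [Algebra (ZMod p) k] (T : Set k)
    (hT : AlgebraicIndependent (ZMod p) ((↑) : T → k)) (f : MvPolynomial T ℤ) :
    f ∈ RingHom.ker (psi T) ↔ C (p : ℤ) ∣ f := by
  rw [RingHom.mem_ker, psi_eq_aeval_map p, MvPolynomial.C_dvd_iff_dvd_coeff]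
  have hinj : Function.Injective (MvPolynomial.aeval (R := ZMod p) (fun s : T => (s : k))) := hT
  rw [← map_zero (MvPolynomial.aeval (R := ZMod p) (fun s : T => (s : k))), hinj.eq_iff]
  rw [MvPolynomial.ext_iff]
  refine forall_congr' fun m => ?_
  rw [MvPolynomial.coeff_map, MvPolynomial.coeff_zero, eq_intCast,
    ZMod.intCast_zmod_eq_zero_iff_dvd]

theorem int_eq_zero_of_forall_pow_dvd (c : ℤ) (h : ∀ n : ℕ, (p : ℤ) ^ n ∣ c) : c = 0 := by
  by_contra hc
  have hp1 : 1 < p := hp.out.one_lt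
  have h1 := h c.natAbs
  have h2 : ((p : ℤ) ^ c.natAbs).natAbs ∣ c.natAbs := Int.natAbs_dvd_natAbs.mpr h1
  have h3 : p ^ c.natAbs ≤ c.natAbs := by
    have := Nat.le_of_dvd (Int.natAbs_pos.mpr hc) h2
    simpa [Int.natAbs_pow] using this
  exact absurd h3 (not_le.mpr (Nat.lt_pow_self hp1))

theorem exists_seed :
    ∃ (A : Type u) (_ : CommRing A) (_ : IsDomain A) (ρ : A →+* k),
      (p : A) ≠ 0 ∧ (∀ a : A, ρ a = 0 → ∃ a', a = (p : A) * a') ∧
      (∀ a : A, ρ a ≠ 0 → IsUnit a) ∧ (∀ a : A, (∀ n : ℕ, (p : A) ^ n ∣ a) → a = 0) ∧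
      ∀ t : k, ∃ P : Polynomial A, P.map ρ ≠ 0 ∧ Polynomial.eval₂ ρ t P = 0 := by
  classical
  let _ : Algebra (ZMod p) k := ZMod.algebra k p
  obtain ⟨T, hT⟩ := exists_isTranscendenceBasis (ZMod p) k
  have hker : ∀ f, f ∈ RingHom.ker (psi T) ↔ C (p : ℤ) ∣ f := mem_ker_psi_iff p T hT.1
  have hprimeI : (RingHom.ker (psi T)).IsPrime := RingHom.ker_isPrime (psi T)
  have hunitψ : ∀ y : (RingHom.ker (psi T)).primeCompl, IsUnit (psi T y) :=
    fun y => isUnit_iff_ne_zero.mpr (fun h => y.2 h)
  let ρ : Localization.AtPrime (RingHom.ker (psi T)) →+* k :=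
    IsLocalization.lift (M := (RingHom.ker (psi T)).primeCompl) hunitψ
  have hρ : ∀ f, ρ (algebraMap (MvPolynomial T ℤ) _ f) = psi T f := IsLocalization.lift_eq _
  have hdom : IsDomain (Localization.AtPrime (RingHom.ker (psi T))) := inferInstance
  have hCp : (C (p : ℤ) : MvPolynomial T ℤ) = (p : MvPolynomial T ℤ) := map_natCast C p
  have hmap_p : algebraMap (MvPolynomial T ℤ) (Localization.AtPrime (RingHom.ker (psi T)))
      (C (p : ℤ)) = (p : Localization.AtPrime (RingHom.ker (psi T))) := by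
    rw [hCp, map_natCast]
  have hinjA : Function.Injective (algebraMap (MvPolynomial T ℤ)
      (Localization.AtPrime (RingHom.ker (psi T)))) :=
    IsLocalization.injective _ (Ideal.primeCompl_le_nonZeroDivisors (RingHom.ker (psi T)))
  have hρmk : ∀ (f : MvPolynomial T ℤ) (s : (RingHom.ker (psi T)).primeCompl),
      ρ (IsLocalization.mk' _ f s) * psi T s = psi T f := by
    intro f s
    rw [← hρ, ← hρ f, ← map_mul, IsLocalization.mk'_spec]
  have hψs : ∀ s : (RingHom.ker (psi T)).primeCompl, psi T s ≠ 0 := fun s h => s.2 h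
  have hprimeCp : Prime (C (p : ℤ) : MvPolynomial T ℤ) := by
    have hne : (C (p : ℤ) : MvPolynomial T ℤ) ≠ 0 := by
      rw [Ne, MvPolynomial.C_eq_zero]
      exact_mod_cast hp.out.ne_zero
    rw [← Ideal.span_singleton_prime hne]
    have : Ideal.span {(C (p : ℤ) : MvPolynomial T ℤ)} = RingHom.ker (psi T) := by
      ext f
      rw [Ideal.mem_span_singleton, hker]
    rw [this]
    exact hprimeI
  refine ⟨Localization.AtPrime (RingHom.ker (psi T)), inferInstance, hdom, ρ, ?_, ?_, ?_, ?_, ?_⟩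
  · rw [← hmap_p, Ne, ← map_zero (algebraMap (MvPolynomial T ℤ) _), hinjA.eq_iff]
    exact hprimeCp.ne_zero
  · intro a ha
    obtain ⟨f, s, rfl⟩ := IsLocalization.exists_mk'_eq (RingHom.ker (psi T)).primeCompl a
    have h1 := hρmk f s
    rw [ha, zero_mul] at h1
    obtain ⟨f', rfl⟩ := (hker f).mp h1.symm
    refine ⟨IsLocalization.mk' _ f' s, ?_⟩
    rw [← hmap_p, IsLocalization.mul_mk'_eq_mk'_of_mul]
  · intro a ha
    obtain ⟨f, s, rfl⟩ := IsLocalization.exists_mk'_eq (RingHom.ker (psi T)).primeCompl a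
    have h1 := hρmk f s
    have hf : psi T f ≠ 0 := by
      rw [← h1]
      exact mul_ne_zero ha (hψs s)
    rw [IsLocalization.AtPrime.isUnit_mk'_iff]
    exact fun h => hf h
  · intro a ha
    obtain ⟨f, s, rfl⟩ := IsLocalization.exists_mk'_eq (RingHom.ker (psi T)).primeCompl a
    have hf : f = 0 := by
      have hall : ∀ n : ℕ, (C (p : ℤ) : MvPolynomial T ℤ) ^ n ∣ f := by
        intro n
        obtain ⟨b, hb⟩ := ha n
        obtain ⟨g, u, rfl⟩ := IsLocalization.exists_mk'_eq (RingHom.ker (psi T)).primeCompl b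
        rw [← hmap_p, ← map_pow, IsLocalization.mul_mk'_eq_mk'_of_mul,
          IsLocalization.mk'_eq_iff_eq] at hb
        have hb' := hinjA hb
        have hdvd : (C (p : ℤ) : MvPolynomial T ℤ) ^ n ∣ f * (u : MvPolynomial T ℤ) := by
          refine ⟨(s : MvPolynomial T ℤ) * g, ?_⟩
          rw [mul_comm f, hb']
          ring
        refine hprimeCp.pow_dvd_of_dvd_mul_right n ?_ hdvd
        intro hdvdu
        exact u.2 ((hker _).mpr hdvdu)
      ext m
      rw [MvPolynomial.coeff_zero]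
      apply int_eq_zero_of_forall_pow_dvd p
      intro n
      have := hall n
      rw [← map_pow, MvPolynomial.C_dvd_iff_dvd_coeff] at this
      exact this m
    rw [hf, IsLocalization.mk'_zero]
  · intro t
    have halg := hT.isAlgebraic
    obtain ⟨Q, hQ0, hQt⟩ := halg.isAlgebraic t
    have hrange : ∀ x ∈ Algebra.adjoin (ZMod p) (Set.range ((↑) : T → k)), x ∈ Set.range ρ := by
      intro x hx
      rw [Algebra.adjoin_range_eq_range_aeval] at hx
      obtain ⟨g, rfl⟩ := hx
      obtain ⟨f, rfl⟩ := MvPolynomial.map_surjective (Int.castRingHom (ZMod p))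
        (ZMod.intCast_surjective) g
      exact ⟨algebraMap _ _ f, by rw [hρ, psi_eq_aeval_map p]; rfl⟩
    have hlift : Q.map (algebraMap _ k) ∈ Polynomial.lifts ρ := by
      rw [Polynomial.lifts_iff_coeff_lifts]
      intro n
      rw [Polynomial.coeff_map]
      exact hrange _ (Q.coeff n).2
    obtain ⟨P, hP⟩ := (Polynomial.mem_lifts _).mp hlift
    refine ⟨P, ?_, ?_⟩
    · rw [hP]
      intro h0
      apply hQ0
      exact (Polynomial.map_eq_zero_iff (Subtype.val_injective)).mp h0
    · rw [Polynomial.eval₂_eq_eval_map, hP, ← Polynomial.eval₂_eq_eval_map, ← Polynomial.aeval_def]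
      exact hQt

open Groth.Agent.Lib.Helper38.CohenZorn in
/-- Existence of a (not necessarily complete) discrete valuation ring with uniformizer `p` and
residue field `k`, in the form of a list of elementary properties. -/
theorem exists_preCohen (k : Type u) [Field k] [CharP k p] :
    ∃ (R : Type u) (_ : CommRing R) (φ : R →+* k), IsDomain R ∧ Function.Surjective φ ∧
      (p : R) ≠ 0 ∧ (∀ g : R, φ g = 0 → ∃ g', g = (p : R) * g') ∧ (∀ g : R, φ g ≠ 0 → IsUnit g) ∧
      (∀ g : R, (∀ n : ℕ, (p : R) ^ n ∣ g) → g = 0) := by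
  obtain ⟨A, _, _, ρ, hp0, h1, h2, h3, h5⟩ := exists_seed p (k := k)
  let _ : Algebra A k := ρ.toAlgebra
  have hinj : Function.Injective (algebraMap A (AlgebraicClosure (FractionRing A))) := by
    rw [IsScalarTower.algebraMap_eq A (FractionRing A) (AlgebraicClosure (FractionRing A))]
    exact (algebraMap (FractionRing A) (AlgebraicClosure (FractionRing A))).injective.comp
      (IsFractionRing.injective A (FractionRing A))
  have hpL : (p : AlgebraicClosure (FractionRing A)) ≠ 0 := by
    rw [← map_natCast (algebraMap A (AlgebraicClosure (FractionRing A)))]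
    intro h
    exact hp0 (hinj (by rw [h, map_zero]))
  have hpk : (p : k) = 0 := CharP.cast_eq_zero k p
  have hbot : Good p (⊥ : Subalgebra A (AlgebraicClosure (FractionRing A) × k)) :=
    good_bot hinj h1 h2 h3
  obtain ⟨Γ, hΓ, hsurj⟩ := exists_good_surjective hpL hpk hbot h5
  exact exists_ring_of_good hpL hΓ hsurj

end Seed

end Groth.Agent.Lib.Helper38.CohenSeed
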