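import Groth.Agent.Lib.Helper38.CohenStructure
import Groth.Prelude.Def_EGA41

set_option autoImplicit false
universe u

namespace Groth.Agent.Lib.Helper38.CohenUnique

open IsLocalRing

/-- Unpacked Cohen ring data. -/
theorem cohen_data {Λ : Type u} [CommRing Λ] [IsLocalRing Λ] (h : CAlg.IsCohenRing Λ) :
    ∃ (_ : IsDomain Λ) (p : ℕ), IsDiscreteValuationRing Λ ∧
      IsAdicComplete (maximalIdeal Λ) Λ ∧ p.Prime ∧ maximalIdeal Λ = Ideal.span {(p : Λ)} ∧
      (p : Λ) ≠ 0 ∧ CharP (ResidueField Λ) p := by
  obtain ⟨hD, hDVR, hc, p, hp, hmax⟩ := h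
  have hp0 : (p : Λ) ≠ 0 := by
    intro h0
    rw [h0, Ideal.span_singleton_eq_bot.mpr rfl] at hmax
    exact IsDiscreteValuationRing.not_a_field Λ hmax
  have hpK : (p : ResidueField Λ) = 0 := by
    rw [← map_natCast (residue Λ), residue_eq_zero_iff, hmax]
    exact Ideal.mem_span_singleton_self _
  exact ⟨hD, p, hDVR, hc, hp, hmax, hp0, (CharP.charP_iff_prime_eq_zero hp).mpr hpK⟩

/-- A ring map between Cohen rings of the same residue characteristic inducing a bijection on residue
fields is bijective. -/
theorem bijective_of_residue_bijective {W W' : Type u} [CommRing W] [IsLocalRing W] [IsDomain W]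
    [IsDiscreteValuationRing W] [CommRing W'] [IsLocalRing W'] [IsDomain W']
    [IsAdicComplete (maximalIdeal W) W] [IsAdicComplete (maximalIdeal W') W'] (p : ℕ)
    (hmax : maximalIdeal W = Ideal.span {(p : W)}) (hmax' : maximalIdeal W' = Ideal.span {(p : W')})
    (hp0' : (p : W') ≠ 0) (g : W →+* W')
    (hsurj : Function.Surjective ((residue W').comp g)) : Function.Bijective g := by
  have hmap : (Ideal.span {(p : W)}).map g = maximalIdeal W' := by
    rw [Ideal.map_span, Set.image_singleton, map_natCast, hmax']
  constructor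
  · rw [injective_iff_map_eq_zero]
    intro x hx
    by_contra hx0
    have hirr : Irreducible (p : W) := by
      have := IsDiscreteValuationRing.irreducible_of_span_eq_maximalIdeal (p : W)
        (by
          intro h0
          have : maximalIdeal W = ⊥ := by rw [hmax, h0, Ideal.span_singleton_eq_bot.mpr rfl]
          exact IsDiscreteValuationRing.not_a_field W this) hmax
      exact this
    obtain ⟨n, u, rfl⟩ := IsDiscreteValuationRing.eq_unit_mul_pow_irreducible hx0 hirr
    rw [map_mul, map_pow, map_natCast] at hx
    rcases mul_eq_zero.mp hx with h1 | h1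
    · exact (u.isUnit.map g).ne_zero h1
    · exact pow_ne_zero n hp0' h1
  · have : IsPrecomplete (Ideal.span {(p : W)}) W := by
      rw [← hmax]; infer_instance
    have : IsHausdorff ((Ideal.span {(p : W)}).map g) W' := by
      rw [hmap]; infer_instance
    apply surjective_of_mk_map_comp_surjective (I := Ideal.span {(p : W)})
    intro y
    obtain ⟨r, rfl⟩ := Ideal.Quotient.mk_surjective y
    obtain ⟨c, hc⟩ := hsurj (residue W' r)
    refine ⟨c, ?_⟩
    rw [RingHom.comp_apply, Ideal.Quotient.eq, hmap]
    have : residue W' (g c - r) = 0 := by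
      rw [map_sub, sub_eq_zero]; exact hc
    exact (residue_eq_zero_iff _).mp this

end Groth.Agent.Lib.Helper38.CohenUnique
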