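import Mathlib

set_option autoImplicit false
universe u

namespace Groth.Agent.Lib.Helper38.CohenZorn

open Polynomial


/-- If `x⁻¹` is integral over `R` then `x⁻¹` is a polynomial in `x`. -/
theorem exists_aeval_eq_inv_of_isIntegral_inv {R S : Type*} [CommRing R] [Field S] [Algebra R S]
    (x : S) (hx : x ≠ 0) (h : IsIntegral R x⁻¹) : ∃ Q : R[X], aeval x Q = x⁻¹ := by
  obtain ⟨Ψ, hΨ, hroot⟩ := h
  have h1 : eval₂ (algebraMap R S) x Ψ.reverse = 0 := by
    have := Polynomial.eval₂_reverse_mul_pow (algebraMap R S) (Units.mk0 x hx)⁻¹ Ψ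
    simp only [Units.val_mk0] at this
    rw [hroot, ] at this
    have hx' : x⁻¹ ^ Ψ.natDegree ≠ 0 := pow_ne_zero _ (inv_ne_zero hx)
    exact (mul_eq_zero.mp this).resolve_right hx'
  have h2 : Ψ.reverse = Ψ.reverse.divX * X + C 1 := by
    conv_lhs => rw [← Polynomial.divX_mul_X_add Ψ.reverse]
    rw [Polynomial.coeff_zero_reverse, hΨ.leadingCoeff]
  rw [h2, eval₂_add, eval₂_mul, eval₂_X, eval₂_C, map_one] at h1
  refine ⟨-Ψ.reverse.divX, ?_⟩
  rw [map_neg, aeval_def]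
  have : eval₂ (algebraMap R S) x Ψ.reverse.divX * x = -1 := by
    rw [← add_eq_zero_iff_eq_neg]; exact h1
  apply eq_inv_of_mul_eq_one_left
  rw [neg_mul, this, neg_neg]



/-- If `h` is integral over `R`, `a` maps to zero in the field `k` and elements of `R` not mapping
to zero are units, then `1 + a h` is invertible in `R[h]`. -/
theorem exists_mul_eq_one_of_isIntegral {R E k : Type*} [CommRing R] [CommRing E] [Algebra R E]
    [Field k] (φ : R →+* k) (hunit : ∀ r : R, φ r ≠ 0 → IsUnit r) (a : R) (ha : φ a = 0)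
    (h : E) (hint : IsIntegral R h) :
    ∃ w' ∈ Algebra.adjoin R {h}, (1 + algebraMap R E a * h) * w' = 1 := by
  obtain ⟨Ψ, hΨ, hroot⟩ := hint
  have hroot' : aeval h Ψ = 0 := by rw [aeval_def]; exact hroot
  set Ψ₁ := scaleRoots Ψ a with hΨ₁
  have h1 : aeval (algebraMap R E a * h) Ψ₁ = 0 := scaleRoots_aeval_eq_zero hroot'
  set χ : R[X] := Ψ₁.comp (X - C 1) with hχ
  set w : E := 1 + algebraMap R E a * h with hw
  have h2 : aeval w χ = 0 := by
    rw [hχ, aeval_comp, map_sub, aeval_X, aeval_C, map_one, hw, add_sub_cancel_left]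
    exact h1
  have h3 : φ (χ.coeff 0) ≠ 0 := by
    rw [coeff_zero_eq_eval_zero, hχ, eval_comp, eval_sub, eval_X, eval_C, zero_sub]
    rw [← Polynomial.eval₂_at_apply, Polynomial.eval₂_eq_eval_map, hΨ₁,
      map_scaleRoots _ _ _ (by rw [hΨ.leadingCoeff, map_one]; exact one_ne_zero), ha,
      scaleRoots_zero, (hΨ.map φ).leadingCoeff, one_smul, eval_pow, eval_X]
    exact pow_ne_zero _ (by rw [map_neg, map_one]; exact neg_ne_zero.mpr one_ne_zero)
  obtain ⟨u, hu⟩ := hunit _ h3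
  have h4 : χ = χ.divX * X + C (χ.coeff 0) := (Polynomial.divX_mul_X_add χ).symm
  rw [h4, map_add, map_mul, aeval_X, aeval_C] at h2
  refine ⟨-(aeval w χ.divX) * algebraMap R E ((u⁻¹ : Rˣ) : R), ?_, ?_⟩
  · refine Subalgebra.mul_mem _ (Subalgebra.neg_mem _ ?_) (Subalgebra.algebraMap_mem _ _)
    have hwmem : w ∈ Algebra.adjoin R {h} :=
      Subalgebra.add_mem _ (Subalgebra.one_mem _)
        (Subalgebra.mul_mem _ (Subalgebra.algebraMap_mem _ _) (Algebra.self_mem_adjoin_singleton R h))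
    exact Algebra.adjoin_le (Set.singleton_subset_iff.mpr hwmem)
      (Polynomial.aeval_mem_adjoin_singleton R w)
  · have h5 : w * aeval w χ.divX = - algebraMap R E (u : R) := by
      rw [hu, eq_neg_iff_add_eq_zero, mul_comm]; exact h2
    calc w * (-(aeval w χ.divX) * algebraMap R E ((u⁻¹ : Rˣ) : R))
        = -(w * aeval w χ.divX) * algebraMap R E ((u⁻¹ : Rˣ) : R) := by ring
      _ = algebraMap R E (u : R) * algebraMap R E ((u⁻¹ : Rˣ) : R) := by rw [h5, neg_neg]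
      _ = 1 := by rw [← map_mul, Units.mul_inv, map_one]



section Good

variable (p : ℕ) {A : Type u} [CommRing A] {L k : Type u} [Field L] [Field k]
  [Algebra A L] [Algebra A k]

/-- A subalgebra of `L × k` which is the graph of a "DVR with uniformizer `p`" inside `L`
together with its residue map to `k`. -/
structure Good (Γ : Subalgebra A (L × k)) : Prop where
  inj : ∀ g ∈ Γ, g.1 = 0 → g.2 = 0
  ker : ∀ g ∈ Γ, g.2 = 0 → ∃ g' ∈ Γ, g = (p : L × k) * g'
  inv : ∀ g ∈ Γ, g.2 ≠ 0 → (g.1⁻¹, g.2⁻¹) ∈ Γ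
  sep : ∀ g ∈ Γ, (∀ n : ℕ, ∃ c ∈ Γ, g = (p : L × k) ^ n * c) → g = 0

theorem mem_sSup_of_chain {c : Set (Subalgebra A (L × k))} (hc : IsChain (· ≤ ·) c)
    (hne : c.Nonempty) (x : L × k) : x ∈ sSup c ↔ ∃ Γ ∈ c, x ∈ Γ := by
  have : Nonempty c := hne.to_subtype
  rw [sSup_eq_iSup', ← SetLike.mem_coe, Subalgebra.coe_iSup_of_directed hc.directed]
  simp

variable {p}

theorem good_bot
    (hinj : Function.Injective (algebraMap A L))
    (h1 : ∀ a : A, algebraMap A k a = 0 → ∃ a', a = p * a')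
    (h2 : ∀ a : A, algebraMap A k a ≠ 0 → IsUnit a)
    (h3 : ∀ a : A, (∀ n : ℕ, (p : A) ^ n ∣ a) → a = 0) :
    Good p (⊥ : Subalgebra A (L × k)) := by
  refine ⟨?_, ?_, ?_, ?_⟩
  · rintro g hg h
    obtain ⟨a, rfl⟩ := Algebra.mem_bot.mp hg
    have : algebraMap A L a = 0 := h
    have ha : a = 0 := hinj (by rw [this, map_zero])
    simp [ha]
  · rintro g hg h
    obtain ⟨a, rfl⟩ := Algebra.mem_bot.mp hg
    obtain ⟨a', rfl⟩ := h1 a h
    exact ⟨algebraMap A (L × k) a', Subalgebra.algebraMap_mem _ _, by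
      rw [map_mul, map_natCast]⟩
  · rintro g hg h
    obtain ⟨a, rfl⟩ := Algebra.mem_bot.mp hg
    obtain ⟨u, rfl⟩ := h2 a h
    have : ((algebraMap A (L × k) (u : A)).1⁻¹, (algebraMap A (L × k) (u : A)).2⁻¹) =
        algebraMap A (L × k) ((u⁻¹ : Aˣ) : A) := by
      ext
      · change (algebraMap A L u)⁻¹ = algebraMap A L _
        rw [map_units_inv]
      · change (algebraMap A k u)⁻¹ = algebraMap A k _
        rw [map_units_inv]
    rw [this]
    exact Subalgebra.algebraMap_mem _ _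
  · rintro g hg h
    obtain ⟨a, rfl⟩ := Algebra.mem_bot.mp hg
    have ha : a = 0 := by
      apply h3
      intro n
      obtain ⟨c, hc, hcn⟩ := h n
      obtain ⟨b, rfl⟩ := Algebra.mem_bot.mp hc
      refine ⟨b, hinj ?_⟩
      have := congrArg Prod.fst hcn
      simpa using this
    simp [ha]

/-- In a good subalgebra, a nonzero element is `p ^ m * u` with `u.2 ≠ 0`. -/
theorem Good.exists_eq_pow_mul {Γ : Subalgebra A (L × k)} (hΓ : Good p Γ) {g : L × k}
    (hg : g ∈ Γ) (h0 : g ≠ 0) :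
    ∃ (m : ℕ) (u : L × k), u ∈ Γ ∧ g = (p : L × k) ^ m * u ∧ u.2 ≠ 0 ∧
      ¬ ∃ c ∈ Γ, g = (p : L × k) ^ (m + 1) * c := by
  classical
  have hex : ∃ n : ℕ, ¬ ∃ c ∈ Γ, g = (p : L × k) ^ n * c := by
    by_contra hcon
    push Not at hcon
    exact h0 (hΓ.sep g hg hcon)
  have hn0 : Nat.find hex ≠ 0 := by
    intro h
    have := Nat.find_spec hex
    rw [h] at this
    exact this ⟨g, hg, by simp⟩
  obtain ⟨m, hm⟩ := Nat.exists_eq_succ_of_ne_zero hn0
  have hmin : ¬ ¬ ∃ c ∈ Γ, g = (p : L × k) ^ m * c :=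
    Nat.find_min hex (by rw [hm]; exact Nat.lt_succ_self m)
  push Not at hmin
  obtain ⟨u, hu, hgu⟩ := hmin
  have hspec := Nat.find_spec hex
  rw [hm] at hspec
  refine ⟨m, u, hu, hgu, ?_, hspec⟩
  intro hu2
  obtain ⟨u', hu', rfl⟩ := hΓ.ker u hu hu2
  exact hspec ⟨u', hu', by rw [hgu, pow_succ, mul_assoc]⟩

theorem good_sSup (hpL : (p : L) ≠ 0) (hpk : (p : k) = 0) {c : Set (Subalgebra A (L × k))}
    (hc : IsChain (· ≤ ·) c) (hne : c.Nonempty) (hgood : ∀ Γ ∈ c, Good p Γ) :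
    Good p (sSup c) := by
  refine ⟨?_, ?_, ?_, ?_⟩
  · intro g hg h
    obtain ⟨Γ, hΓ, hgΓ⟩ := (mem_sSup_of_chain hc hne g).mp hg
    exact (hgood Γ hΓ).inj g hgΓ h
  · intro g hg h
    obtain ⟨Γ, hΓ, hgΓ⟩ := (mem_sSup_of_chain hc hne g).mp hg
    obtain ⟨g', hg', e⟩ := (hgood Γ hΓ).ker g hgΓ h
    exact ⟨g', (mem_sSup_of_chain hc hne g').mpr ⟨Γ, hΓ, hg'⟩, e⟩
  · intro g hg h
    obtain ⟨Γ, hΓ, hgΓ⟩ := (mem_sSup_of_chain hc hne g).mp hg
    exact (mem_sSup_of_chain hc hne _).mpr ⟨Γ, hΓ, (hgood Γ hΓ).inv g hgΓ h⟩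
  · intro g hg h
    obtain ⟨Γ, hΓ, hgΓ⟩ := (mem_sSup_of_chain hc hne g).mp hg
    by_contra h0
    obtain ⟨m, u, hu, hgu, hu2, hno⟩ := (hgood Γ hΓ).exists_eq_pow_mul hgΓ h0
    obtain ⟨d, hd, hgd⟩ := h (m + 1)
    obtain ⟨Γ', hΓ', hdΓ'⟩ := (mem_sSup_of_chain hc hne d).mp hd
    rcases hc.total hΓ hΓ' with hle | hle
    · -- Γ ≤ Γ'
      have hw : u - (p : L × k) * d ∈ Γ' := Subalgebra.sub_mem _ (hle hu)
        (Subalgebra.mul_mem _ (Subalgebra.natCast_mem _ _) hdΓ')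
      have h1 : (u - (p : L × k) * d).1 = 0 := by
        have e : (p : L × k) ^ m * u = (p : L × k) ^ (m + 1) * d := by rw [← hgu, hgd]
        have e1 := congrArg Prod.fst e
        simp only [Prod.fst_mul, Prod.pow_fst, Prod.fst_natCast] at e1
        have hpm : (p : L) ^ m ≠ 0 := pow_ne_zero _ hpL
        have : u.1 = (p : L) * d.1 := by
          apply mul_left_cancel₀ hpm
          rw [e1, pow_succ, mul_assoc]
        simp [this]
      have h2 := (hgood Γ' hΓ').inj _ hw h1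
      apply hu2
      have : (u - (p : L × k) * d).2 = u.2 := by simp [hpk]
      rw [← this, h2]
    · exact hno ⟨d, hle hdΓ', hgd⟩

end Good


section Extend

variable {p : ℕ} {A : Type u} [CommRing A] {L k : Type u} [Field L] [Field k]
  [Algebra A L] [Algebra A k]

/-- First projection of a subalgebra of `L × k`. -/
def fstHom (Γ : Subalgebra A (L × k)) : ↥Γ →+* L := (RingHom.fst L k).comp Γ.val.toRingHom

/-- Second projection of a subalgebra of `L × k`. -/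
def sndHom (Γ : Subalgebra A (L × k)) : ↥Γ →+* k := (RingHom.snd L k).comp Γ.val.toRingHom

@[simp] theorem fstHom_apply (Γ : Subalgebra A (L × k)) (g : ↥Γ) : fstHom Γ g = (g : L × k).1 := rfl
@[simp] theorem sndHom_apply (Γ : Subalgebra A (L × k)) (g : ↥Γ) : sndHom Γ g = (g : L × k).2 := rfl

variable {Γ : Subalgebra A (L × k)} (hΓ : Good p Γ)

include hΓ

theorem Good.fstHom_injective : Function.Injective (fstHom Γ) := by
  rw [injective_iff_map_eq_zero]
  intro g hg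
  have h2 := hΓ.inj g g.2 hg
  exact Subtype.ext (Prod.ext hg h2)

theorem Good.isDomain : IsDomain ↥Γ := Function.Injective.isDomain (fstHom Γ) hΓ.fstHom_injective

theorem Good.exists_eq_mul (g : ↥Γ) (hg : sndHom Γ g = 0) : ∃ g' : ↥Γ, g = (p : ↥Γ) * g' := by
  obtain ⟨g', hg', e⟩ := hΓ.ker g g.2 hg
  exact ⟨⟨g', hg'⟩, Subtype.ext (by simpa using e)⟩

theorem Good.isUnit (g : ↥Γ) (hg : sndHom Γ g ≠ 0) : IsUnit g := by
  have h1 : (g : L × k).1 ≠ 0 := fun h => hg (hΓ.inj g g.2 h)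
  refine IsUnit.of_mul_eq_one ⟨_, hΓ.inv g g.2 hg⟩ (Subtype.ext ?_)
  apply Prod.ext
  · simp [mul_inv_cancel₀ h1]
  · have : (g : L × k).2 ≠ 0 := hg
    simp [mul_inv_cancel₀ this]

omit hΓ in
theorem sndHom_natCast (hpk : (p : k) = 0) : sndHom Γ (p : ↥Γ) = 0 := by
  rw [map_natCast, hpk]

/-- The residue field of a good subalgebra, as a subfield of `k`. -/
def Good.resField : Subfield k :=
  { (sndHom Γ).range with
    inv_mem' := by
      rintro _ ⟨g, rfl⟩
      by_cases h : sndHom Γ g = 0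
      · rw [h, inv_zero]; exact ⟨0, map_zero _⟩
      · obtain ⟨u, rfl⟩ := hΓ.isUnit g h
        exact ⟨((u⁻¹ : (↥Γ)ˣ) : ↥Γ), by rw [map_units_inv]⟩ }

theorem Good.mem_resField (x : k) : x ∈ hΓ.resField ↔ ∃ g : ↥Γ, sndHom Γ g = x := Iff.rfl

/-- The residue map to the residue field. -/
def Good.resHom : ↥Γ →+* ↥hΓ.resField :=
  (sndHom Γ).codRestrict hΓ.resField (fun g => ⟨g, rfl⟩)

theorem Good.resHom_surjective : Function.Surjective hΓ.resHom := by
  rintro ⟨x, g, rfl⟩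
  exact ⟨g, rfl⟩

theorem Good.subtype_comp_resHom : hΓ.resField.subtype.comp hΓ.resHom = sndHom Γ := rfl

theorem Good.exists_eq_C_mul (G : (↥Γ)[X]) (hG : G.map (sndHom Γ) = 0) :
    ∃ G₁ : (↥Γ)[X], G = C (p : ↥Γ) * G₁ := by
  have : C (p : ↥Γ) ∣ G := by
    rw [Polynomial.C_dvd_iff_dvd_coeff]
    intro i
    have h1 : sndHom Γ (G.coeff i) = 0 := by
      rw [← Polynomial.coeff_map, hG, coeff_zero]
    obtain ⟨g', hg'⟩ := hΓ.exists_eq_mul _ h1
    exact ⟨g', hg'⟩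
  exact this

theorem Good.exists_eq_C_pow_mul (G : (↥Γ)[X]) (hG : G ≠ 0) :
    ∃ (j : ℕ) (G₁ : (↥Γ)[X]), G = C (p : ↥Γ) ^ j * G₁ ∧ G₁.map (sndHom Γ) ≠ 0 := by
  by_contra hcon
  push Not at hcon
  have hall : ∀ j : ℕ, ∃ G₁ : (↥Γ)[X], G = C (p : ↥Γ) ^ j * G₁ := by
    intro j
    induction j with
    | zero => exact ⟨G, by simp⟩
    | succ j ih =>
      obtain ⟨G₁, hG₁⟩ := ih
      obtain ⟨G₂, hG₂⟩ := hΓ.exists_eq_C_mul G₁ (hcon j G₁ hG₁)
      exact ⟨G₂, by rw [hG₁, hG₂, pow_succ, mul_assoc]⟩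
  apply hG
  refine Polynomial.ext fun i => ?_
  rw [coeff_zero]
  have hsep := hΓ.sep (G.coeff i) (G.coeff i).2 ?_
  · exact Subtype.ext (by rw [hsep]; rfl)
  · intro n
    obtain ⟨G₁, hG₁⟩ := hall n
    refine ⟨(G₁.coeff i : L × k), (G₁.coeff i).2, ?_⟩
    have : G.coeff i = (p : ↥Γ) ^ n * G₁.coeff i := by
      conv_lhs => rw [hG₁]
      rw [← C_pow, coeff_C_mul]
    have h2 := congrArg (Subtype.val) this
    simpa using h2

end Extend

section Adjoin

variable {p : ℕ} {A : Type u} [CommRing A] {L k : Type u} [Field L] [Field k]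
  [Algebra A L] [Algebra A k] {Γ : Subalgebra A (L × k)}

theorem aeval_fst (θ : L × k) (G : (↥Γ)[X]) :
    (aeval θ G).1 = eval θ.1 (G.map (fstHom Γ)) := by
  rw [aeval_def, ← Polynomial.eval₂_eq_eval_map]
  exact Polynomial.hom_eval₂ G (algebraMap ↥Γ (L × k)) (RingHom.fst L k) θ

theorem aeval_snd (θ : L × k) (G : (↥Γ)[X]) :
    (aeval θ G).2 = eval θ.2 (G.map (sndHom Γ)) := by
  rw [aeval_def, ← Polynomial.eval₂_eq_eval_map]
  exact Polynomial.hom_eval₂ G (algebraMap ↥Γ (L × k)) (RingHom.snd L k) θ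

variable (hΓ : Good p Γ) (hpL : (p : L) ≠ 0) (hpk : (p : k) = 0)
  (F : (↥Γ)[X]) (hF : F.Monic) (θ : L × k) (hθ : aeval θ F = 0)

include hΓ hF hθ in
theorem exists_rep (z : L × k) (hz : z ∈ Algebra.adjoin ↥Γ {θ}) :
    ∃ G : (↥Γ)[X], G.degree < F.degree ∧ aeval θ G = z := by
  have := hΓ.isDomain
  rw [Algebra.adjoin_singleton_eq_range_aeval] at hz
  obtain ⟨G₀, rfl⟩ := hz
  refine ⟨G₀ %ₘ F, Polynomial.degree_modByMonic_lt G₀ hF, ?_⟩
  conv_rhs => rw [← Polynomial.modByMonic_add_div G₀ F]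
  change _ = aeval θ (G₀ %ₘ F + F * (G₀ /ₘ F))
  rw [map_add, map_mul, hθ, zero_mul, add_zero]

include hΓ hpL hpk hF hθ in
theorem no_inv_p (h : L × k) (hh : h ∈ Algebra.adjoin ↥Γ {θ}) : 1 + (p : L) * h.1 ≠ 0 := by
  intro hcon
  have hθint : IsIntegral ↥Γ θ := ⟨F, hF, by rw [← aeval_def]; exact hθ⟩
  have hint : IsIntegral ↥Γ h := _root_.adjoin_le_integralClosure hθint hh
  let _ : Algebra ↥Γ L := (fstHom Γ).toAlgebra
  let fstA : (L × k) →ₐ[↥Γ] L := { RingHom.fst L k with commutes' := fun g => rfl }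
  have hint1 : IsIntegral ↥Γ h.1 := hint.map fstA
  have hh1 : h.1 = -(p : L)⁻¹ := by
    field_simp
    linear_combination hcon
  have hint2 : IsIntegral ↥Γ ((p : L)⁻¹) := by
    have := hint1.neg
    rwa [hh1, neg_neg] at this
  obtain ⟨Q, hQ⟩ := exists_aeval_eq_inv_of_isIntegral_inv (R := ↥Γ) (p : L) hpL hint2
  have hp' : (p : L) = algebraMap ↥Γ L (p : ↥Γ) := by rw [map_natCast]
  rw [hp', Polynomial.aeval_algebraMap_apply] at hQ
  set w : ↥Γ := Q.eval (p : ↥Γ)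
  have h1 : fstHom Γ ((p : ↥Γ) * w - 1) = 0 := by
    rw [map_sub, map_mul, map_one]
    change algebraMap ↥Γ L (p : ↥Γ) * algebraMap ↥Γ L w - 1 = 0
    have e : algebraMap ↥Γ L w = (algebraMap ↥Γ L (p : ↥Γ))⁻¹ := by
      rw [← hQ]; simp [w]
    rw [e, mul_inv_cancel₀ (by rw [← hp']; exact hpL), sub_self]
  have h2 : (p : ↥Γ) * w - 1 = 0 := hΓ.fstHom_injective (by rw [h1, map_zero])
  have h3 := congrArg (sndHom Γ) h2
  rw [map_sub, map_mul, sndHom_natCast hpk, zero_mul, map_one, map_zero, zero_sub,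
    neg_eq_zero] at h3
  exact one_ne_zero h3

include hΓ hpL hpk hF hθ in
theorem good_adjoin
    (hmin : ∀ G : (↥Γ)[X], G.degree < F.degree → eval θ.2 (G.map (sndHom Γ)) = 0 →
      G.map (sndHom Γ) = 0)
    (hbez : ∀ G : (↥Γ)[X], G.degree < F.degree → G.map (sndHom Γ) ≠ 0 →
      ∃ U V H : (↥Γ)[X], U * F + V * G = 1 + C (p : ↥Γ) * H) :
    Good p ((Algebra.adjoin ↥Γ {θ}).restrictScalars A) := by
  have hdom := hΓ.isDomain
  have hpΓ : (p : ↥Γ) ≠ 0 := by
    intro h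
    apply hpL
    have := congrArg (fstHom Γ) h
    rwa [map_natCast, map_zero] at this
  have hpE : (p : L × k) = algebraMap ↥Γ (L × k) (p : ↥Γ) := by rw [map_natCast]
  have hmemaeval : ∀ G : (↥Γ)[X], aeval θ G ∈ Algebra.adjoin ↥Γ {θ} :=
    fun G => Polynomial.aeval_mem_adjoin_singleton _ _
  -- key: a nonzero G of small degree does not vanish at θ.1
  have key : ∀ G : (↥Γ)[X], G.degree < F.degree → (aeval θ G).1 = 0 → G = 0 := by
    intro G hdeg hz
    by_contra hG0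
    obtain ⟨j, G₁, hG₁, hG₁φ⟩ := hΓ.exists_eq_C_pow_mul G hG0
    have hdeg₁ : G₁.degree < F.degree := by
      have : G.degree = G₁.degree := by
        rw [hG₁, ← C_pow, Polynomial.degree_C_mul (pow_ne_zero _ hpΓ)]
      rwa [← this]
    have hz₁ : (aeval θ G₁).1 = 0 := by
      rw [hG₁, map_mul, map_pow, aeval_C, ← hpE] at hz
      simp only [Prod.fst_mul, Prod.pow_fst, Prod.fst_natCast] at hz
      exact (mul_eq_zero.mp hz).resolve_left (pow_ne_zero _ hpL)
    have hne : eval θ.2 (G₁.map (sndHom Γ)) ≠ 0 := fun h => hG₁φ (hmin G₁ hdeg₁ h)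
    obtain ⟨U, V, H, hUV⟩ := hbez G₁ hdeg₁ hG₁φ
    have h1 := congrArg (fun P => (aeval θ P).1) hUV
    simp only [map_add, map_mul, hθ, mul_zero, zero_add, map_one, aeval_C, ← hpE,
      Prod.fst_add, Prod.fst_mul, Prod.fst_one, Prod.fst_natCast, hz₁] at h1
    exact no_inv_p hΓ hpL hpk F hF θ hθ (aeval θ H) (hmemaeval H) h1.symm
  have hinj' : ∀ z ∈ Algebra.adjoin ↥Γ {θ}, z.1 = 0 → z = 0 := by
    intro z hz hz1
    obtain ⟨G, hdeg, rfl⟩ := exists_rep hΓ F hF θ hθ z hz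
    rw [key G hdeg hz1, map_zero]
  refine ⟨?_, ?_, ?_, ?_⟩
  · intro z hz hz1
    rw [hinj' z hz hz1]
    rfl
  · intro z hz hz2
    obtain ⟨G, hdeg, rfl⟩ := exists_rep hΓ F hF θ hθ z hz
    rw [aeval_snd] at hz2
    obtain ⟨G₁, rfl⟩ := hΓ.exists_eq_C_mul G (hmin G hdeg hz2)
    exact ⟨aeval θ G₁, hmemaeval G₁, by rw [map_mul, aeval_C, ← hpE]⟩
  · intro z hz hz2
    obtain ⟨G, hdeg, rfl⟩ := exists_rep hΓ F hF θ hθ z hz
    have hGφ : G.map (sndHom Γ) ≠ 0 := by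
      intro h
      apply hz2
      rw [aeval_snd, h, eval_zero]
    obtain ⟨U, V, H, hUV⟩ := hbez G hdeg hGφ
    have h1 := congrArg (aeval θ) hUV
    simp only [map_add, map_mul, hθ, mul_zero, zero_add, map_one, aeval_C] at h1
    have hθint : IsIntegral ↥Γ θ := ⟨F, hF, by rw [← aeval_def]; exact hθ⟩
    have hint : IsIntegral ↥Γ (aeval θ H) := _root_.adjoin_le_integralClosure hθint (hmemaeval H)
    obtain ⟨w', hw', hw'1⟩ := exists_mul_eq_one_of_isIntegral (sndHom Γ) hΓ.isUnit (p : ↥Γ)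
      (sndHom_natCast hpk) (aeval θ H) hint
    have hw'mem : w' ∈ Algebra.adjoin ↥Γ {θ} :=
      Algebra.adjoin_le (Set.singleton_subset_iff.mpr (hmemaeval H)) hw'
    have hprod : aeval θ G * (aeval θ V * w') = 1 := by
      rw [← mul_assoc, mul_comm (aeval θ G), h1, hw'1]
    have hy : aeval θ V * w' ∈ Algebra.adjoin ↥Γ {θ} :=
      Subalgebra.mul_mem _ (hmemaeval V) hw'mem
    have e : ((aeval θ G).1⁻¹, (aeval θ G).2⁻¹) = aeval θ V * w' := by
      apply Prod.ext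
      · exact (eq_inv_of_mul_eq_one_right (congrArg Prod.fst hprod)).symm
      · exact (eq_inv_of_mul_eq_one_right (congrArg Prod.snd hprod)).symm
    rw [e]
    exact hy
  · intro z hz hall
    obtain ⟨G, hdeg, rfl⟩ := exists_rep hΓ F hF θ hθ z hz
    by_contra hz0
    have hG0 : G ≠ 0 := fun h => hz0 (by rw [h, map_zero])
    obtain ⟨j, G₁, hG₁, hG₁φ⟩ := hΓ.exists_eq_C_pow_mul G hG0
    have hdeg₁ : G₁.degree < F.degree := by
      have : G.degree = G₁.degree := by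
        rw [hG₁, ← C_pow, Polynomial.degree_C_mul (pow_ne_zero _ hpΓ)]
      rwa [← this]
    have hne : eval θ.2 (G₁.map (sndHom Γ)) ≠ 0 := fun h => hG₁φ (hmin G₁ hdeg₁ h)
    obtain ⟨c, hc, hzc⟩ := hall (j + 1)
    have hc' : c ∈ Algebra.adjoin ↥Γ {θ} := hc
    have hw : aeval θ G₁ - (p : L × k) * c ∈ Algebra.adjoin ↥Γ {θ} :=
      Subalgebra.sub_mem _ (hmemaeval G₁)
        (Subalgebra.mul_mem _ (by rw [hpE]; exact Subalgebra.algebraMap_mem _ _) hc')
    have hw1 : (aeval θ G₁ - (p : L × k) * c).1 = 0 := by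
      rw [hG₁, map_mul, map_pow, aeval_C, ← hpE] at hzc
      have e1 := congrArg Prod.fst hzc
      simp only [Prod.fst_mul, Prod.pow_fst, Prod.fst_natCast] at e1
      have : (aeval θ G₁).1 = (p : L) * c.1 := by
        apply mul_left_cancel₀ (pow_ne_zero j hpL)
        rw [e1, pow_succ, mul_assoc]
      simp [this]
    have h0 := hinj' _ hw hw1
    have h2 := congrArg Prod.snd h0
    simp only [Prod.snd_sub, Prod.snd_mul, Prod.snd_natCast, hpk, zero_mul, sub_zero,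
      Prod.snd_zero] at h2
    rw [aeval_snd] at h2
    exact hne h2

end Adjoin

section Main

variable {p : ℕ} {A : Type u} [CommRing A] {L k : Type u} [Field L] [Field k]
  [Algebra A L] [Algebra A k] {Γ : Subalgebra A (L × k)}

theorem exists_good_extension [IsAlgClosed L] (hΓ : Good p Γ) (hpL : (p : L) ≠ 0)
    (hpk : (p : k) = 0) (t : k)
    (ht : ∃ P : A[X], P.map (algebraMap A k) ≠ 0 ∧ eval₂ (algebraMap A k) t P = 0) :
    ∃ Γ' : Subalgebra A (L × k), Good p Γ' ∧ Γ ≤ Γ' ∧ ∃ g ∈ Γ', g.2 = t := by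
  have hdom := hΓ.isDomain
  set κ := hΓ.resField with hκ
  have hcomp : (sndHom Γ).comp (algebraMap A ↥Γ) = algebraMap A k := by
    ext a; rfl
  have hint : IsIntegral ↥κ t := by
    obtain ⟨P, hP, hroot⟩ := ht
    have hcomp' : ((algebraMap ↥κ k).comp hΓ.resHom).comp (algebraMap A ↥Γ) = algebraMap A k := by
      rw [← hcomp]; rfl
    refine IsAlgebraic.isIntegral ⟨(P.map (algebraMap A ↥Γ)).map hΓ.resHom, ?_, ?_⟩
    · intro h0
      apply hP
      rw [← hcomp', ← Polynomial.map_map, ← Polynomial.map_map, h0, Polynomial.map_zero]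
    · rw [Polynomial.aeval_def, Polynomial.eval₂_map, Polynomial.eval₂_map, hcomp']
      exact hroot
  set m := minpoly ↥κ t with hm
  have hm_monic : m.Monic := minpoly.monic hint
  have hm_irr : Irreducible m := minpoly.irreducible hint
  have hm_root : aeval t m = 0 := minpoly.aeval _ _
  have hm_pos : 0 < m.natDegree := minpoly.natDegree_pos hint
  have hlift : m ∈ Polynomial.lifts hΓ.resHom := by
    rw [Polynomial.mem_lifts]
    exact Polynomial.map_surjective _ hΓ.resHom_surjective m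
  obtain ⟨F, hFmap, hFdeg, hFmonic⟩ := Polynomial.lifts_and_natDegree_eq_and_monic hlift hm_monic
  have hsub : ∀ G : (↥Γ)[X], G.map (sndHom Γ) = (G.map hΓ.resHom).map (algebraMap ↥κ k) := by
    intro G
    rw [Polynomial.map_map]
    rfl
  have hsub0 : ∀ G : (↥Γ)[X], G.map (sndHom Γ) = 0 ↔ G.map hΓ.resHom = 0 := by
    intro G
    rw [hsub, Polynomial.map_eq_zero_iff (algebraMap ↥κ k).injective]
  have hFdegree : F.degree = m.degree := by
    rw [Polynomial.degree_eq_natDegree hFmonic.ne_zero,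
      Polynomial.degree_eq_natDegree hm_monic.ne_zero, hFdeg]
  have hdegF : (F.map (fstHom Γ)).degree ≠ 0 := by
    rw [hFmonic.degree_map, hFdegree, Polynomial.degree_eq_natDegree hm_monic.ne_zero]
    exact_mod_cast hm_pos.ne'
  obtain ⟨β, hβ⟩ := IsAlgClosed.exists_root (F.map (fstHom Γ)) hdegF
  set θ : L × k := (β, t) with hθdef
  have hθ : aeval θ F = 0 := by
    apply Prod.ext
    · rw [aeval_fst]; exact hβ
    · rw [aeval_snd, hsub, hFmap]
      change eval t (m.map (algebraMap ↥κ k)) = 0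
      rw [← Polynomial.eval₂_eq_eval_map, ← Polynomial.aeval_def]
      exact hm_root
  have hmin : ∀ G : (↥Γ)[X], G.degree < F.degree → eval θ.2 (G.map (sndHom Γ)) = 0 →
      G.map (sndHom Γ) = 0 := by
    intro G hdeg hev
    rw [hsub0]
    have h1 : aeval t (G.map hΓ.resHom) = 0 := by
      rw [Polynomial.aeval_def, Polynomial.eval₂_eq_eval_map, ← hsub]
      exact hev
    have h2 : m ∣ G.map hΓ.resHom := minpoly.dvd _ _ h1
    refine Polynomial.eq_zero_of_dvd_of_degree_lt h2 ?_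
    calc (G.map hΓ.resHom).degree ≤ G.degree := Polynomial.degree_map_le
      _ < F.degree := hdeg
      _ = m.degree := hFdegree
  have hbez : ∀ G : (↥Γ)[X], G.degree < F.degree → G.map (sndHom Γ) ≠ 0 →
      ∃ U V H : (↥Γ)[X], U * F + V * G = 1 + C (p : ↥Γ) * H := by
    intro G hdeg hG
    have hG' : G.map hΓ.resHom ≠ 0 := fun h => hG ((hsub0 G).mpr h)
    have hnd : ¬ m ∣ G.map hΓ.resHom := by
      intro hdvd
      apply hG'
      refine Polynomial.eq_zero_of_dvd_of_degree_lt hdvd ?_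
      calc (G.map hΓ.resHom).degree ≤ G.degree := Polynomial.degree_map_le
        _ < F.degree := hdeg
        _ = m.degree := hFdegree
    obtain ⟨u, v, huv⟩ := (hm_irr.coprime_iff_not_dvd).mpr hnd
    obtain ⟨U, rfl⟩ := Polynomial.map_surjective _ hΓ.resHom_surjective u
    obtain ⟨V, rfl⟩ := Polynomial.map_surjective _ hΓ.resHom_surjective v
    have h0 : (U * F + V * G - 1).map (sndHom Γ) = 0 := by
      rw [hsub0, Polynomial.map_sub, Polynomial.map_add, Polynomial.map_mul, Polynomial.map_mul,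
        Polynomial.map_one, hFmap, huv, sub_self]
    obtain ⟨H, hH⟩ := hΓ.exists_eq_C_mul _ h0
    exact ⟨U, V, H, by rw [← hH]; ring⟩
  refine ⟨(Algebra.adjoin ↥Γ {θ}).restrictScalars A,
    good_adjoin hΓ hpL hpk F hFmonic θ hθ hmin hbez, ?_, θ, ?_, rfl⟩
  · intro g hg
    change g ∈ Algebra.adjoin ↥Γ {θ}
    exact Subalgebra.algebraMap_mem (Algebra.adjoin ↥Γ {θ}) (⟨g, hg⟩ : ↥Γ)
  · change θ ∈ Algebra.adjoin ↥Γ {θ}
    exact Algebra.self_mem_adjoin_singleton _ _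

theorem exists_good_surjective [IsAlgClosed L] (hpL : (p : L) ≠ 0) (hpk : (p : k) = 0)
    (hbot : Good p (⊥ : Subalgebra A (L × k)))
    (halg : ∀ t : k, ∃ P : A[X], P.map (algebraMap A k) ≠ 0 ∧ eval₂ (algebraMap A k) t P = 0) :
    ∃ Γ : Subalgebra A (L × k), Good p Γ ∧ ∀ t : k, ∃ g ∈ Γ, g.2 = t := by
  obtain ⟨Γ, -, hΓ, hmax⟩ := zorn_le_nonempty₀ {Γ : Subalgebra A (L × k) | Good p Γ}
    (fun c hc hchain y hy => ⟨sSup c, good_sSup hpL hpk hchain ⟨y, hy⟩ (fun Γ hΓ => hc hΓ),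
      fun z hz => le_sSup hz⟩) ⊥ hbot
  refine ⟨Γ, hΓ, fun t => ?_⟩
  obtain ⟨Γ', hΓ', hle, g, hg, hgt⟩ := exists_good_extension hΓ hpL hpk t (halg t)
  exact ⟨g, hmax hΓ' hle hg, hgt⟩

/-- Packaging: from a good subalgebra with surjective residue map we get a "pre-Cohen ring". -/
theorem exists_ring_of_good (hpL : (p : L) ≠ 0) (hΓ : Good p Γ)
    (hsurj : ∀ t : k, ∃ g ∈ Γ, g.2 = t) :
    ∃ (R : Type u) (_ : CommRing R) (φ : R →+* k), IsDomain R ∧ Function.Surjective φ ∧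
      (p : R) ≠ 0 ∧ (∀ g : R, φ g = 0 → ∃ g', g = (p : R) * g') ∧ (∀ g : R, φ g ≠ 0 → IsUnit g) ∧
      (∀ g : R, (∀ n : ℕ, (p : R) ^ n ∣ g) → g = 0) := by
  refine ⟨↥Γ, inferInstance, sndHom Γ, hΓ.isDomain, ?_, ?_, hΓ.exists_eq_mul, hΓ.isUnit, ?_⟩
  · intro t
    obtain ⟨g, hg, rfl⟩ := hsurj t
    exact ⟨⟨g, hg⟩, rfl⟩
  · intro h
    apply hpL
    have := congrArg (fstHom Γ) h
    rwa [map_natCast, map_zero] at this
  · intro g hg
    have := hΓ.sep g g.2 (fun n => ?_)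
    · exact Subtype.ext (by rw [this]; rfl)
    · obtain ⟨c, hc⟩ := hg n
      exact ⟨c, c.2, by rw [hc]; simp⟩

end Main

end Groth.Agent.Lib.Helper38.CohenZorn
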