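import Mathlib
import Groth.Agent.Lib.Helper30.SmoothReduced

/-!
# Morphisms from a reduced scheme into a finite scheme with connected fibres and a section
(helper38)

If `π : J ⟶ S` is finite with connected fibres and has a section `e`, then `e` is a surjective
closed immersion, and every morphism `σ : T ⟶ J` from a reduced scheme equals `(σ ≫ π) ≫ e`.
-/

set_option autoImplicit false
set_option linter.style.haveILetI false
universe u

open CategoryTheory AlgebraicGeometry CategoryTheory.Limits

namespace Groth.Agent.Lib.Helper38.ConnFiniteSection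

variable {J S T : Scheme.{u}}

theorem injective_of_connected_fibers (π : J ⟶ S) [IsFinite π]
    (hconn : ∀ s : S, ConnectedSpace ↥(π.fiber s)) : Function.Injective π.base := by
  intro a b hab
  have ha : a ∈ Set.range (π.fiberι (π.base a)) := by
    rw [Scheme.Hom.range_fiberι]; rfl
  have hb : b ∈ Set.range (π.fiberι (π.base a)) := by
    rw [Scheme.Hom.range_fiberι]; exact hab.symm
  obtain ⟨a', ha'⟩ := ha
  obtain ⟨b', hb'⟩ := hb
  haveI := hconn (π.base a)
  haveI : Subsingleton ↥(π.fiber (π.base a)) :=
    PreconnectedSpace.trivial_of_discrete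
  rw [← ha', ← hb', Subsingleton.elim a' b']

theorem eq_comp_section (π : J ⟶ S) [IsFinite π] (e : S ⟶ J) (he : e ≫ π = 𝟙 S)
    (hconn : ∀ s : S, ConnectedSpace ↥(π.fiber s)) [IsReduced T] (σ : T ⟶ J) :
    σ = (σ ≫ π) ≫ e := by
  have hinj := injective_of_connected_fibers π hconn
  haveI : IsClosedImmersion (e ≫ π) := by rw [he]; infer_instance
  haveI : IsClosedImmersion e := IsClosedImmersion.of_comp e π
  haveI : Surjective e := ⟨fun j => ⟨π.base j, hinj (by
    have h := congr($(he).base (π.base j))
    simpa using h)⟩⟩
  haveI : IsIso (pullback.fst σ e) := isIso_of_isClosedImmersion_of_surjective _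
  have h1 : σ = inv (pullback.fst σ e) ≫ pullback.snd σ e ≫ e := by
    rw [← pullback.condition, IsIso.inv_hom_id_assoc]
  have h2 : σ ≫ π = inv (pullback.fst σ e) ≫ pullback.snd σ e := by
    conv_lhs => rw [h1]
    simp only [Category.assoc, he, Category.comp_id]
  rw [h2, Category.assoc]
  exact h1

end Groth.Agent.Lib.Helper38.ConnFiniteSection
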