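import Groth.Prelude.Def_FibCat2
import Groth.Agent.Lib.Helper17.HomLift
import Groth.Agent.Lib.Helper17.FibProd
import Groth.Agent.S5139

/-!
# The diagonal of a base change is a base change of the diagonal (2-fibre products)

For `g : 𝒵 ⟶ 𝒴`, `f : 𝒳 ⟶ 𝒴` over `C`, with `f' = fpFst g f : 𝒵 ×_𝒴 𝒳 ⟶ 𝒵`, the square
`diag f' , diag f` is 2-cartesian: `𝒵 ×_𝒴 𝒳 ≃ (𝒳' ×_𝒵 𝒳') ×_{𝒳 ×_𝒴 𝒳} 𝒳`.
-/

set_option autoImplicit false
universe v u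

namespace Groth.Agent.Lib.Helper38.DBC

open CategoryTheory CategoryTheory.Functor FibCat
open Groth.Agent.Lib.Helper17 Groth.Agent.Lib.Helper17.FP

variable {C : Type u} [Category.{v} C] {𝒵 𝒴 𝒳 : BasedCategory.{v, max u v} C}
  (g : 𝒵 ⥤ᵇ 𝒴) (f : 𝒳 ⥤ᵇ 𝒴)

theorem map_lift {𝒜 ℬ : BasedCategory.{v, max u v} C} (F : 𝒜 ⥤ᵇ ℬ)
    {R S : C} {a b : 𝒜.obj} {f : R ⟶ S} {φ : a ⟶ b} (h : 𝒜.p.IsHomLift f φ) :
    ℬ.p.IsHomLift f (F.map φ) := inferInstance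

theorem lift_inv {𝒜 : BasedCategory.{v, max u v} C} {R : C} {a b : 𝒜.obj} (φ : a ≅ b)
    (h : 𝒜.p.IsHomLift (𝟙 R) φ.hom) : 𝒜.p.IsHomLift (𝟙 R) φ.inv :=
  IsHomLift.lift_id_inv 𝒜.p _ φ

theorem lift_comp3 {𝒜 : BasedCategory.{v, max u v} C} {R : C} {a b c d : 𝒜.obj}
    (p : a ⟶ b) (q : b ⟶ c) (r : c ⟶ d) (hp : 𝒜.p.IsHomLift (𝟙 R) p)
    (hq : 𝒜.p.IsHomLift (𝟙 R) q) (hr : 𝒜.p.IsHomLift (𝟙 R) r) :
    𝒜.p.IsHomLift (𝟙 R) (p ≫ q ≫ r) := by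
  have h1 : 𝒜.p.IsHomLift (𝟙 R) (q ≫ r) := IsHomLift.comp_of_lift_id 𝒜.p R q r
  exact IsHomLift.comp_of_lift_id 𝒜.p R p (q ≫ r)

/-- the iso `ψ` of an object of `𝒳' ×_𝒵 𝒳'` as an iso in `𝒵` -/
def psi (z : (fp (fpFst g f) (fpFst g f)).obj) : z.obj.fst.obj.fst ≅ z.obj.snd.obj.fst :=
  z.obj.iso

theorem psi_lift (z : (fp (fpFst g f) (fpFst g f)).obj) :
    𝒵.p.IsHomLift (𝟙 (𝒵.p.obj z.obj.fst.obj.fst)) (psi g f z).hom :=
  iso_isHomLift z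

/-- the comparison iso `f x₁ ≅ f x₂` -/
def cIso (z : (fp (fpFst g f) (fpFst g f)).obj) :
    f.obj z.obj.fst.obj.snd ≅ f.obj z.obj.snd.obj.snd :=
  z.obj.fst.obj.iso.symm ≪≫ g.toFunctor.mapIso (psi g f z) ≪≫ z.obj.snd.obj.iso

theorem cIso_lift (z : (fp (fpFst g f) (fpFst g f)).obj) :
    𝒴.p.IsHomLift (𝟙 (𝒳.p.obj z.obj.fst.obj.snd)) (cIso g f z).hom := by
  rw [snd_obj z.obj.fst]
  have h1 : 𝒴.p.IsHomLift (𝟙 (𝒵.p.obj z.obj.fst.obj.fst)) z.obj.fst.obj.iso.inv :=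
    lift_inv _ (iso_isHomLift z.obj.fst)
  have h2 : 𝒴.p.IsHomLift (𝟙 (𝒵.p.obj z.obj.fst.obj.fst)) (g.map (psi g f z).hom) :=
    map_lift g (psi_lift g f z)
  have h3 : 𝒴.p.IsHomLift (𝟙 (𝒵.p.obj z.obj.fst.obj.fst)) z.obj.snd.obj.iso.hom := by
    have := iso_isHomLift z.obj.snd
    have e : 𝒵.p.obj z.obj.snd.obj.fst = 𝒵.p.obj z.obj.fst.obj.fst :=
      (hl_cod (psi_lift g f z))
    rw [e] at this
    exact this
  exact lift_comp3 _ _ _ h1 h2 h3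

theorem psi_w {z z' : (fp (fpFst g f) (fpFst g f)).obj} (k : z ⟶ z') :
    k.hom.fst.hom.fst ≫ (psi g f z').hom = (psi g f z).hom ≫ k.hom.snd.hom.fst :=
  k.hom.w

/-- object part of the comparison `𝒳' ×_𝒵 𝒳' ⟶ 𝒳 ×_𝒴 𝒳` -/
def cObj (z : (fp (fpFst g f) (fpFst g f)).obj) : (fp f f).obj :=
  mkObj (F := f) (G := f) z.obj.fst.obj.snd z.obj.snd.obj.snd (cIso g f z) (cIso_lift g f z)

theorem cIso_w {z z' : (fp (fpFst g f) (fpFst g f)).obj} (k : z ⟶ z') :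
    f.map k.hom.fst.hom.snd ≫ (cIso g f z').hom = (cIso g f z).hom ≫ f.map k.hom.snd.hom.snd := by
  have e1 : g.map k.hom.fst.hom.fst ≫ z'.obj.fst.obj.iso.hom =
      z.obj.fst.obj.iso.hom ≫ f.map k.hom.fst.hom.snd := k.hom.fst.hom.w
  have e2 : g.map k.hom.snd.hom.fst ≫ z'.obj.snd.obj.iso.hom =
      z.obj.snd.obj.iso.hom ≫ f.map k.hom.snd.hom.snd := k.hom.snd.hom.w
  have e3 := psi_w g f k
  have e1' : f.map k.hom.fst.hom.snd ≫ z'.obj.fst.obj.iso.inv =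
      z.obj.fst.obj.iso.inv ≫ g.map k.hom.fst.hom.fst := by
    rw [Iso.comp_inv_eq, Category.assoc, e1, Iso.inv_hom_id_assoc]
  change f.map k.hom.fst.hom.snd ≫ z'.obj.fst.obj.iso.inv ≫ g.map (psi g f z').hom ≫
      z'.obj.snd.obj.iso.hom =
    (z.obj.fst.obj.iso.inv ≫ g.map (psi g f z).hom ≫ z.obj.snd.obj.iso.hom) ≫
      f.map k.hom.snd.hom.snd
  rw [← Category.assoc, e1', Category.assoc, ← Category.assoc (g.map _), ← g.map_comp, e3,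
    g.map_comp, Category.assoc, e2]
  simp only [Category.assoc]

def cMap {z z' : (fp (fpFst g f) (fpFst g f)).obj} (k : z ⟶ z') : cObj g f z ⟶ cObj g f z' :=
  mkHom (z := cObj g f z) (z' := cObj g f z') k.hom.fst.hom.snd k.hom.snd.hom.snd (cIso_w g f k)

/-- the comparison functor `c : 𝒳' ×_𝒵 𝒳' ⟶ 𝒳 ×_𝒴 𝒳` over `C` -/
def c : fp (fpFst g f) (fpFst g f) ⥤ᵇ fp f f where
  toFunctor :=
    { obj := cObj g f
      map := cMap g f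
      map_id := fun z => by
        apply hom_ext <;> rfl
      map_comp := fun k k' => by
        apply hom_ext <;> rfl }
  w := Functor.ext (fun z => snd_obj z.obj.fst)
    (fun z z' k => IsHomLift.fac' 𝒳.p ((fp g f).p.map k.hom.fst) k.hom.fst.hom.snd)

theorem diag_obj_fst (ξ : (fp g f).obj) : ((diag (fpFst g f)).obj ξ).obj.fst = ξ := rfl
theorem diag_obj_snd (ξ : (fp g f).obj) : ((diag (fpFst g f)).obj ξ).obj.snd = ξ := rfl
theorem diag_obj_iso_hom (ξ : (fp g f).obj) :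
    ((diag (fpFst g f)).obj ξ).obj.iso.hom = 𝟙 ξ.obj.fst := rfl
theorem diag_map_fst {ξ ξ' : (fp g f).obj} (μ : ξ ⟶ ξ') :
    ((diag (fpFst g f)).map μ).hom.fst = μ := rfl
theorem diag_map_snd {ξ ξ' : (fp g f).obj} (μ : ξ ⟶ ξ') :
    ((diag (fpFst g f)).map μ).hom.snd = μ := rfl

theorem diagf_obj_iso_hom (x : 𝒳.obj) : ((diag f).obj x).obj.iso.hom = 𝟙 (f.obj x) := rfl

theorem cIso_diag_hom (ξ : (fp g f).obj) :
    (cIso g f ((diag (fpFst g f)).obj ξ)).hom = 𝟙 (f.obj ξ.obj.snd) := by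
  change ξ.obj.iso.inv ≫ g.map (𝟙 ξ.obj.fst) ≫ ξ.obj.iso.hom = 𝟙 _
  rw [g.map_id, Category.id_comp, Iso.inv_hom_id]

/-- `c (diag f' ξ) ≅ diag f x` -/
def delta (ξ : (fp g f).obj) :
    (c g f).obj ((diag (fpFst g f)).obj ξ) ≅ (diag f).obj ξ.obj.snd :=
  mkIso (z := (c g f).obj ((diag (fpFst g f)).obj ξ)) (z' := (diag f).obj ξ.obj.snd)
    (Iso.refl ξ.obj.snd) (Iso.refl ξ.obj.snd) (by
      change f.map (𝟙 ξ.obj.snd) ≫ 𝟙 (f.obj ξ.obj.snd) =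
        (cIso g f ((diag (fpFst g f)).obj ξ)).hom ≫ f.map (𝟙 ξ.obj.snd)
      rw [cIso_diag_hom]
      exact (by rw [Category.comp_id, Category.id_comp] :
        f.map (𝟙 ξ.obj.snd) ≫ 𝟙 (f.obj ξ.obj.snd) = 𝟙 (f.obj ξ.obj.snd) ≫ f.map (𝟙 ξ.obj.snd)))

theorem delta_lift (ξ : (fp g f).obj) :
    (fp f f).p.IsHomLift (𝟙 ((fp (fpFst g f) (fpFst g f)).p.obj ((diag (fpFst g f)).obj ξ)))
      (delta g f ξ).hom := by
  rw [isHomLift_iff_fst]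
  change 𝒳.p.IsHomLift (𝟙 (𝒵.p.obj ξ.obj.fst)) (𝟙 ξ.obj.snd)
  rw [← snd_obj ξ]
  infer_instance

/-- object part of `a : 𝒳' ⟶ (𝒳' ×_𝒵 𝒳') ×_{𝒳 ×_𝒴 𝒳} 𝒳` -/
def aObj (ξ : (fp g f).obj) : (fp (c g f) (diag f)).obj :=
  mkObj (F := c g f) (G := diag f) ((diag (fpFst g f)).obj ξ) ξ.obj.snd (delta g f ξ)
    (delta_lift g f ξ)

def aMap {ξ ξ' : (fp g f).obj} (μ : ξ ⟶ ξ') : aObj g f ξ ⟶ aObj g f ξ' :=
  mkHom (z := aObj g f ξ) (z' := aObj g f ξ') ((diag (fpFst g f)).map μ) μ.hom.snd (by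
    apply hom_ext
    · change μ.hom.snd ≫ 𝟙 _ = 𝟙 _ ≫ μ.hom.snd
      rw [Category.comp_id, Category.id_comp]
    · change μ.hom.snd ≫ 𝟙 _ = 𝟙 _ ≫ μ.hom.snd
      rw [Category.comp_id, Category.id_comp])

/-- the functor exhibiting the diagonal square as 2-cartesian -/
def a : fp g f ⥤ᵇ fp (c g f) (diag f) where
  toFunctor :=
    { obj := aObj g f
      map := aMap g f
      map_id := fun ξ => by
        apply hom_ext
        · exact (diag (fpFst g f)).toFunctor.map_id ξ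
        · rfl
      map_comp := fun μ μ' => by
        apply hom_ext
        · exact (diag (fpFst g f)).toFunctor.map_comp μ μ'
        · rfl }
  w := rfl

theorem a_fst : BasedFunctor.comp (a g f) (fpFst (c g f) (diag f)) = diag (fpFst g f) := rfl

section isoComponents

variable {𝒜 ℬ 𝒮 : BasedCategory.{v, max u v} C} {F : 𝒜 ⥤ᵇ 𝒮} {G : ℬ ⥤ᵇ 𝒮}

/-- first component of an isomorphism of a 2-fibre product -/
def fstIso {p q : (fp F G).obj} (θ : p ≅ q) : p.obj.fst ≅ q.obj.fst where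
  hom := θ.hom.hom.fst
  inv := θ.inv.hom.fst
  hom_inv_id := by
    have := congrArg (fun m => m.hom.fst) θ.hom_inv_id
    exact this
  inv_hom_id := by
    have := congrArg (fun m => m.hom.fst) θ.inv_hom_id
    exact this

/-- second component of an isomorphism of a 2-fibre product -/
def sndIso {p q : (fp F G).obj} (θ : p ≅ q) : p.obj.snd ≅ q.obj.snd where
  hom := θ.hom.hom.snd
  inv := θ.inv.hom.snd
  hom_inv_id := by
    have := congrArg (fun m => m.hom.snd) θ.hom_inv_id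
    exact this
  inv_hom_id := by
    have := congrArg (fun m => m.hom.snd) θ.inv_hom_id
    exact this

end isoComponents

theorem a_faithful : (a g f).toFunctor.Faithful := by
  refine ⟨?_⟩
  intro ξ ξ' μ μ' h
  have := congrArg (fun m => m.hom.fst.hom.fst) h
  exact this

theorem a_full : (a g f).toFunctor.Full := by
  refine ⟨?_⟩
  intro ξ ξ' m
  -- components
  have hw1 : m.hom.fst.hom.fst.hom.fst ≫ 𝟙 _ = 𝟙 _ ≫ m.hom.fst.hom.snd.hom.fst :=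
    m.hom.fst.hom.w
  have hw2 := congrArg (fun k => k.hom.fst) m.hom.w
  have hw3 := congrArg (fun k => k.hom.snd) m.hom.w
  have hw2' : m.hom.fst.hom.fst.hom.snd ≫ 𝟙 _ = 𝟙 _ ≫ m.hom.snd := hw2
  have hw3' : m.hom.fst.hom.snd.hom.snd ≫ 𝟙 _ = 𝟙 _ ≫ m.hom.snd := hw3
  rw [Category.comp_id, Category.id_comp] at hw1 hw2' hw3'
  refine ⟨m.hom.fst.hom.fst, ?_⟩
  apply hom_ext
  · apply hom_ext
    · rfl
    · apply hom_ext
      · exact hw1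
      · exact hw2'.trans hw3'.symm
  · exact hw2'

theorem a_essSurj (η : (fp (c g f) (diag f)).obj) :
    ∃ (ξ : (fp g f).obj) (e : (a g f).toFunctor.obj ξ ≅ η),
      (fp (c g f) (diag f)).p.IsHomLift (𝟙 ((fp (c g f) (diag f)).p.obj η)) e.hom := by
  -- unpack
  let z : (fp (fpFst g f) (fpFst g f)).obj := η.obj.fst
  let x : 𝒳.obj := η.obj.snd
  let β : (c g f).obj z ≅ (diag f).obj x := η.obj.iso
  have hβ : (fp f f).p.IsHomLift (𝟙 (𝒵.p.obj z.obj.fst.obj.fst)) β.hom := iso_isHomLift η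
  let β₁ : z.obj.fst.obj.snd ≅ x := fstIso β
  let β₂ : z.obj.snd.obj.snd ≅ x := sndIso β
  have hβ₁ : 𝒳.p.IsHomLift (𝟙 (𝒵.p.obj z.obj.fst.obj.fst)) β₁.hom :=
    (isHomLift_iff_fst β.hom _).mp hβ
  have hβ₂ : 𝒳.p.IsHomLift (𝟙 (𝒵.p.obj z.obj.fst.obj.fst)) β₂.hom :=
    isHomLift_snd β.hom _ hβ
  have hβw : f.map β₁.hom ≫ 𝟙 (f.obj x) = (cIso g f z).hom ≫ f.map β₂.hom := β.hom.hom.w
  rw [Category.comp_id] at hβw
  -- the object
  have hξ : 𝒴.p.IsHomLift (𝟙 (𝒵.p.obj z.obj.fst.obj.fst))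
      (z.obj.fst.obj.iso ≪≫ f.toFunctor.mapIso β₁).hom := by
    have h1 : 𝒴.p.IsHomLift (𝟙 (𝒵.p.obj z.obj.fst.obj.fst)) z.obj.fst.obj.iso.hom :=
      iso_isHomLift z.obj.fst
    have h2 : 𝒴.p.IsHomLift (𝟙 (𝒵.p.obj z.obj.fst.obj.fst)) (f.map β₁.hom) := map_lift f hβ₁
    exact IsHomLift.comp_of_lift_id 𝒴.p _ z.obj.fst.obj.iso.hom (f.map β₁.hom)
  let ξ : (fp g f).obj := mkObj (F := g) (G := f) z.obj.fst.obj.fst x
    (z.obj.fst.obj.iso ≪≫ f.toFunctor.mapIso β₁) hξ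
  -- the two isos ξ ≅ ξ₁, ξ ≅ ξ₂
  let ι₁ : ξ ≅ z.obj.fst := mkIso (z := ξ) (z' := z.obj.fst) (Iso.refl _) β₁.symm (by
    change g.map (𝟙 _) ≫ z.obj.fst.obj.iso.hom =
      (z.obj.fst.obj.iso.hom ≫ f.map β₁.hom) ≫ f.map β₁.inv
    rw [g.map_id, Category.id_comp, Category.assoc, ← f.map_comp, Iso.hom_inv_id, f.map_id,
      Category.comp_id])
  let ι₂ : ξ ≅ z.obj.snd := mkIso (z := ξ) (z' := z.obj.snd) (psi g f z) β₂.symm (by
    change g.map (psi g f z).hom ≫ z.obj.snd.obj.iso.hom =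
      (z.obj.fst.obj.iso.hom ≫ f.map β₁.hom) ≫ f.map β₂.inv
    rw [hβw]
    change _ = (z.obj.fst.obj.iso.hom ≫ (z.obj.fst.obj.iso.inv ≫ g.map (psi g f z).hom ≫
      z.obj.snd.obj.iso.hom) ≫ f.map β₂.hom) ≫ f.map β₂.inv
    have e1 : f.map β₂.hom ≫ f.map β₂.inv = 𝟙 _ := by
      rw [← f.map_comp, Iso.hom_inv_id, f.map_id]
    simp only [Category.assoc, Iso.hom_inv_id_assoc, e1, Category.comp_id])
  let ι : (diag (fpFst g f)).obj ξ ≅ z :=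
    mkIso (z := (diag (fpFst g f)).obj ξ) (z' := z) ι₁ ι₂ (by
      change 𝟙 _ ≫ (psi g f z).hom = 𝟙 _ ≫ (psi g f z).hom
      rfl)
  let e : (a g f).toFunctor.obj ξ ≅ η :=
    mkIso (z := aObj g f ξ) (z' := η) ι (Iso.refl x) (by
      apply hom_ext
      · change β₁.inv ≫ β₁.hom = 𝟙 _ ≫ 𝟙 _
        rw [Iso.inv_hom_id, Category.id_comp]
      · change β₂.inv ≫ β₂.hom = 𝟙 _ ≫ 𝟙 _
        rw [Iso.inv_hom_id, Category.id_comp])
  refine ⟨ξ, e, ?_⟩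
  rw [isHomLift_iff_fst, isHomLift_iff_fst, isHomLift_iff_fst]
  change 𝒵.p.IsHomLift (𝟙 (𝒵.p.obj z.obj.fst.obj.fst)) (𝟙 z.obj.fst.obj.fst)
  infer_instance

theorem a_isEquivOver : FibCat.IsEquivOver (a g f) := by
  rw [Groth.Agent.S5139.result]
  exact ⟨⟨a_full g f, a_faithful g f⟩, a_essSurj g f⟩

end Groth.Agent.Lib.Helper38.DBC
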