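import Mathlib
import Groth.Agent.Lib.Helper14.KrullAkizukiThm

/-!
# Integral closure of an extension of DVRs in a reduced tensor product (Stacks 09EX-type lemma)
-/

set_option autoImplicit false
set_option linter.unusedSectionVars false
universe u

namespace Groth.Agent.Lib.Helper38.DvrExt

open TensorProduct

/-- The integral closure in a finite product is the product of the integral closures. -/
noncomputable def integralClosurePiEquiv (B : Type u) [CommRing B] {ι : Type u} [Finite ι]
    (F : ι → Type u) [∀ i, CommRing (F i)] [∀ i, Algebra B (F i)] :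
    integralClosure B (∀ i, F i) ≃+* ∀ i, integralClosure B (F i) := by
  classical
  refine
    { toFun := fun x i => ⟨x.1 i, (x.2 : IsIntegral B x.1).map (Pi.evalAlgHom B F i)⟩
      invFun := fun y => ⟨fun i => (y i).1, ?_⟩
      left_inv := fun x => rfl
      right_inv := fun y => rfl
      map_mul' := fun x y => rfl
      map_add' := fun x y => rfl }
  have := Fintype.ofFinite ι
  have hsum : (fun i => ((y i).1 : F i)) = ∑ i, Pi.single i ((y i).1 : F i) := by
    funext j
    rw [Finset.sum_apply]
    simp
  show IsIntegral B (fun i => ((y i).1 : F i))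
  rw [hsum]
  refine IsIntegral.sum _ (fun i _ => ?_)
  obtain ⟨p, hp, hpy⟩ := (y i).2
  refine ⟨Polynomial.X * p, Polynomial.monic_X.mul hp, ?_⟩
  funext j
  rw [Polynomial.eval₂_mul, Polynomial.eval₂_X]
  by_cases hji : j = i
  · subst hji
    have h1 : (Polynomial.eval₂ (algebraMap B (∀ i, F i)) (Pi.single j ((y j).1 : F j)) p) j =
        Polynomial.eval₂ (algebraMap B (F j)) ((y j).1 : F j) p := by
      have := Polynomial.hom_eval₂ p (algebraMap B (∀ i, F i)) (Pi.evalRingHom F j)
        (Pi.single j ((y j).1 : F j))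
      have hc : (Pi.evalRingHom F j).comp (algebraMap B (∀ i, F i)) = algebraMap B (F j) :=
        RingHom.ext (fun b => rfl)
      rw [hc] at this
      simpa using this
    rw [Pi.mul_apply, h1, hpy, mul_zero]
    rfl
  · rw [Pi.mul_apply, Pi.single_eq_of_ne hji, zero_mul]
    rfl

theorem isNoetherianRing_integralClosure_pi (B : Type u) [CommRing B] {ι : Type u} [Finite ι]
    (F : ι → Type u) [∀ i, CommRing (F i)] [∀ i, Algebra B (F i)]
    (h : ∀ i, IsNoetherianRing (integralClosure B (F i))) :
    IsNoetherianRing (integralClosure B (∀ i, F i)) :=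
  isNoetherianRing_of_ringEquiv _ (integralClosurePiEquiv B F).symm

theorem noeth_field (A B K L : Type u) [CommRing A] [IsDomain A] [IsDiscreteValuationRing A]
    [CommRing B] [IsDomain B] [IsDiscreteValuationRing B] [Algebra A B]
    [Algebra.EssFiniteType A B]
    [Field K] [Field L] [Algebra A K] [IsFractionRing A K] [Algebra B L] [IsFractionRing B L]
    [Algebra K L] [Algebra A L] [IsScalarTower A K L] [IsScalarTower A B L]
    (K' : Type u) [Field K'] [Algebra K K'] [Algebra A K'] [IsScalarTower A K K']
    [Algebra.IsAlgebraic K K']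
    (hA' : IsNoetherianRing (integralClosure A K'))
    (F : Type u) [Field F] [Algebra K F] [Algebra L F] [Algebra K' F] [Algebra B F]
    [IsScalarTower K L F] [IsScalarTower K K' F] [IsScalarTower B L F]
    (q : L ⊗[K] K' →ₐ[K] F) (hq : Function.Surjective q)
    (hqL : ∀ y : L, q (y ⊗ₜ 1) = algebraMap L F y)
    (hqK : ∀ z : K', q (1 ⊗ₜ z) = algebraMap K' F z) :
    IsNoetherianRing (integralClosure B F) := by
  classical
  let A' := integralClosure A K'
  let _ : Algebra A F := ((algebraMap B F).comp (algebraMap A B)).toAlgebra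
  have tABF : IsScalarTower A B F := IsScalarTower.of_algebraMap_eq (fun _ => rfl)
  have hcompat : ∀ a : A, algebraMap A F a = algebraMap K' F (algebraMap A K' a) := by
    intro a
    show algebraMap B F (algebraMap A B a) = _
    rw [IsScalarTower.algebraMap_apply B L F, ← IsScalarTower.algebraMap_apply A B L,
      IsScalarTower.algebraMap_apply A K L, ← IsScalarTower.algebraMap_apply K L F,
      IsScalarTower.algebraMap_apply K K' F, ← IsScalarTower.algebraMap_apply A K K']
  let g : A' →ₐ[A] F :=
    { toRingHom := (algebraMap K' F).comp (algebraMap A' K')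
      commutes' := fun a => (hcompat a).symm }
  let θ : B ⊗[A] A' →ₐ[B] F := Algebra.TensorProduct.productLeftAlgHom (Algebra.ofId B F) g
  have hθ : ∀ (b : B) (a' : A'), θ (b ⊗ₜ a') = algebraMap B F b * algebraMap K' F (a' : K') :=
    fun b a' => rfl
  let C : Subalgebra B F := θ.range
  -- Noetherian
  have hN1 : IsNoetherianRing (A' ⊗[A] B) := Algebra.EssFiniteType.isNoetherianRing A' _
  have hN2 : IsNoetherianRing (B ⊗[A] A') :=
    isNoetherianRing_of_ringEquiv _ (Algebra.TensorProduct.comm A A' B).toRingEquiv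
  have hCN : IsNoetherianRing C :=
    isNoetherianRing_of_surjective _ _ θ.rangeRestrict.toRingHom θ.rangeRestrict_surjective
  -- integrality
  have hint1 : Algebra.IsIntegral B (B ⊗[A] A') := inferInstance
  have hCint : ∀ c : C, IsIntegral B (c : F) := by
    rintro ⟨_, t, rfl⟩
    exact (hint1.isIntegral t).map θ
  have hCintAlg : Algebra.IsIntegral B C := by
    refine ⟨fun c => ?_⟩
    exact (isIntegral_algebraMap_iff (B := F) (A := C) Subtype.val_injective).mp (hCint c)
  have hBmem : ∀ b : B, algebraMap B F b ∈ C := fun b => C.algebraMap_mem b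
  have hA'mem : ∀ a' : A', algebraMap K' F (a' : K') ∈ C := by
    intro a'
    refine ⟨1 ⊗ₜ a', ?_⟩
    show θ (1 ⊗ₜ a') = _
    rw [hθ, map_one, one_mul]
  -- dimension
  have hCdom : IsDomain C := inferInstance
  have hCdim : Ring.KrullDimLE 1 C := by
    refine Ring.KrullDimLE.mk₁' fun Q hQ hQp => ?_
    obtain ⟨x, hxQ, hx0⟩ := Submodule.exists_mem_ne_zero_of_ne_bot hQ
    have h1 : Q.comap (algebraMap B C) ≠ ⊥ :=
      Ideal.comap_ne_bot_of_integral_mem hx0 hxQ (hCintAlg.isIntegral x)
    have h2 : (Q.comap (algebraMap B C)).IsPrime := Ideal.comap_isPrime _ _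
    have h3 : (Q.comap (algebraMap B C)).IsMaximal := h2.isMaximal h1
    exact Ideal.isMaximal_of_isIntegral_of_isMaximal_comap Q h3
  -- fraction field
  have hfaith : FaithfulSMul C F :=
    (faithfulSMul_iff_algebraMap_injective C F).mpr Subtype.val_injective
  have hfrac : IsFractionRing C F := by
    apply IsFractionRing.of_field
    -- predicate
    have key : ∀ z : F, ∃ x y : C, (y : F) ≠ 0 ∧ z * y = x := by
      have hL : ∀ y : L, ∃ x' y' : C, (y' : F) ≠ 0 ∧ algebraMap L F y * y' = x' := by
        intro y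
        obtain ⟨b, s, hs, rfl⟩ := IsFractionRing.div_surjective (A := B) y
        have hs0 : algebraMap B L s ≠ 0 := by
          rw [Ne, map_eq_zero_iff _ (IsFractionRing.injective B L)]
          exact nonZeroDivisors.ne_zero hs
        refine ⟨⟨algebraMap B F b, hBmem b⟩, ⟨algebraMap B F s, hBmem s⟩, ?_, ?_⟩
        · show algebraMap B F s ≠ 0
          rw [IsScalarTower.algebraMap_apply B L F]
          exact (map_ne_zero _).mpr hs0
        · show algebraMap L F (algebraMap B L b / algebraMap B L s) * algebraMap B F s =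
            algebraMap B F b
          rw [IsScalarTower.algebraMap_apply B L F, IsScalarTower.algebraMap_apply B L F,
            ← map_mul, div_mul_cancel₀ _ hs0]
      have hK' : ∀ z : K', ∃ x' y' : C, (y' : F) ≠ 0 ∧ algebraMap K' F z * y' = x' := by
        intro z
        have hz : IsAlgebraic A z :=
          (IsFractionRing.isAlgebraic_iff A K K').mpr (Algebra.IsAlgebraic.isAlgebraic z)
        obtain ⟨a, ha, haz⟩ := hz.exists_integral_multiple
        have ha0 : algebraMap A K' a ≠ 0 := by
          rw [IsScalarTower.algebraMap_apply A K K']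
          exact (map_ne_zero _).mpr ((map_ne_zero_iff _ (IsFractionRing.injective A K)).mpr ha)
        refine ⟨⟨algebraMap K' F (a • z), hA'mem ⟨a • z, haz⟩⟩,
          ⟨algebraMap K' F (algebraMap A K' a), hA'mem ⟨algebraMap A K' a, isIntegral_algebraMap⟩⟩,
          ?_, ?_⟩
        · exact (map_ne_zero _).mpr ha0
        · show algebraMap K' F z * algebraMap K' F (algebraMap A K' a) = algebraMap K' F (a • z)
          rw [← map_mul, Algebra.smul_def, mul_comm]
      intro z
      obtain ⟨t, rfl⟩ := hq z
      induction t using TensorProduct.induction_on with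
      | zero => exact ⟨0, 1, by simp, by simp⟩
      | tmul y z =>
        obtain ⟨x₁, y₁, hy₁, h₁⟩ := hL y
        obtain ⟨x₂, y₂, hy₂, h₂⟩ := hK' z
        refine ⟨x₁ * x₂, y₁ * y₂, ?_, ?_⟩
        · show (y₁ : F) * (y₂ : F) ≠ 0
          exact mul_ne_zero hy₁ hy₂
        · have : y ⊗ₜ[K] z = (y ⊗ₜ[K] (1 : K')) * ((1 : L) ⊗ₜ[K] z) := by
            rw [Algebra.TensorProduct.tmul_mul_tmul, mul_one, one_mul]
          rw [this, map_mul, hqL, hqK]
          show algebraMap L F y * algebraMap K' F z * ((y₁ : F) * (y₂ : F)) = (x₁ : F) * (x₂ : F)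
          rw [← h₁, ← h₂]
          ring
      | add t₁ t₂ h₁ h₂ =>
        obtain ⟨x₁, y₁, hy₁, h₁⟩ := h₁
        obtain ⟨x₂, y₂, hy₂, h₂⟩ := h₂
        refine ⟨x₁ * y₂ + x₂ * y₁, y₁ * y₂, ?_, ?_⟩
        · show (y₁ : F) * (y₂ : F) ≠ 0
          exact mul_ne_zero hy₁ hy₂
        · rw [map_add]
          show (q t₁ + q t₂) * ((y₁ : F) * (y₂ : F)) = (x₁ : F) * (y₂ : F) + (x₂ : F) * (y₁ : F)
          rw [← h₁, ← h₂]
          ring
    intro z
    obtain ⟨x, y, hy, h⟩ := key z
    refine ⟨x, y, ?_⟩
    show z = (x : F) / (y : F)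
    rw [eq_div_iff hy]
    exact h
  -- the integral closure as a `C`-algebra
  let V := integralClosure B F
  let ι : C →+* V :=
    { toFun := fun c => ⟨c.1, hCint c⟩
      map_one' := rfl
      map_mul' := fun _ _ => rfl
      map_zero' := rfl
      map_add' := fun _ _ => rfl }
  let _ : Algebra C V := ι.toAlgebra
  have tCVF : IsScalarTower C V F := IsScalarTower.of_algebraMap_eq (fun _ => rfl)
  exact Groth.Agent.Lib.Helper14.KrullAkizuki.isNoetherianRing_of_injective C F F
    (A := V) Subtype.val_injective

theorem main (A B K L : Type u) [CommRing A] [IsDomain A]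
    [IsDiscreteValuationRing A] [CommRing B] [IsDomain B] [IsDiscreteValuationRing B] [Algebra A B]
    [Algebra.EssFiniteType A B]
    [Field K] [Field L] [Algebra A K] [IsFractionRing A K] [Algebra B L] [IsFractionRing B L]
    [Algebra K L] [Algebra A L] [IsScalarTower A K L] [IsScalarTower A B L]
    (K' : Type u) [Field K'] [Algebra K K'] [Algebra A K'] [IsScalarTower A K K']
    [Algebra.IsAlgebraic K K']
    (hA' : IsNoetherianRing (integralClosure A K'))
    (L' : Type u) [CommRing L'] [IsReduced L'] [Algebra K L'] [Algebra L L'] [Algebra K' L']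
    [Algebra B L']
    [IsScalarTower K L L'] [IsScalarTower K K' L'] [IsScalarTower B L L']
    (q : L ⊗[K] K' →ₐ[K] L') (hq : Function.Surjective q)
    (hqL : ∀ y : L, q (y ⊗ₜ 1) = algebraMap L L' y)
    (hqK : ∀ z : K', q (1 ⊗ₜ z) = algebraMap K' L' z) :
    IsNoetherianRing (integralClosure B L') := by
  classical
  -- Step 1: `L'` is Noetherian
  have hEss1 : Algebra.EssFiniteType B L :=
    Algebra.EssFiniteType.of_isLocalization L (nonZeroDivisors B)
  have hEss2 : Algebra.EssFiniteType A L := Algebra.EssFiniteType.comp A B L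
  have hEss3 : Algebra.EssFiniteType K L := Algebra.EssFiniteType.of_comp A K L
  have hN1 : IsNoetherianRing (K' ⊗[K] L) := Algebra.EssFiniteType.isNoetherianRing K' _
  have hN2 : IsNoetherianRing (L ⊗[K] K') :=
    isNoetherianRing_of_ringEquiv _ (Algebra.TensorProduct.comm K K' L).toRingEquiv
  have hN3 : IsNoetherianRing L' := isNoetherianRing_of_surjective _ _ q.toRingHom hq
  -- Step 2: dimension zero
  have hintK : Algebra.IsIntegral K K' := Algebra.IsAlgebraic.isIntegral
  have hintL : Algebra.IsIntegral L (L ⊗[K] K') := inferInstance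
  have hintL' : Algebra.IsIntegral L L' := by
    refine ⟨fun z => ?_⟩
    obtain ⟨t, rfl⟩ := hq z
    refine (hintL.isIntegral t).map_of_comp_eq (RingHom.id L) q.toRingHom ?_
    refine RingHom.ext (fun y => ?_)
    show algebraMap L L' y = q (algebraMap L (L ⊗[K] K') y)
    rw [Algebra.TensorProduct.algebraMap_apply, hqL]
    rfl
  have hdim0 : Ring.KrullDimLE 0 L' := by
    refine Ring.KrullDimLE.mk₀ (fun P hP => ?_)
    have h1 : (P.comap (algebraMap L L')).IsPrime := Ideal.comap_isPrime _ _
    have h2 : P.comap (algebraMap L L') = ⊥ := Ideal.eq_bot_of_prime _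
    have h3 : (P.comap (algebraMap L L')).IsMaximal := h2 ▸ Ideal.bot_isMaximal
    exact Ideal.isMaximal_of_isIntegral_of_isMaximal_comap P h3
  have hArt : IsArtinianRing L' :=
    isArtinianRing_iff_isNoetherianRing_krullDimLE_zero.mpr ⟨hN3, hdim0⟩
  -- Step 3: decomposition
  let e : L' ≃ₐ[B] ∀ I : MaximalSpectrum L', L' ⧸ I.asIdeal :=
    (IsArtinianRing.equivPi L').restrictScalars B
  have hfactor : ∀ I : MaximalSpectrum L',
      IsNoetherianRing (integralClosure B (L' ⧸ I.asIdeal)) := by
    intro I
    let _ : Field (L' ⧸ I.asIdeal) := Ideal.Quotient.field I.asIdeal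
    refine noeth_field A B K L K' hA' (L' ⧸ I.asIdeal)
      ((Ideal.Quotient.mkₐ K I.asIdeal).comp q) ?_ ?_ ?_
    · exact (Ideal.Quotient.mkₐ_surjective K I.asIdeal).comp hq
    · intro y
      show Ideal.Quotient.mk I.asIdeal (q (y ⊗ₜ 1)) = _
      rw [hqL]
      rfl
    · intro z
      show Ideal.Quotient.mk I.asIdeal (q (1 ⊗ₜ z)) = _
      rw [hqK]
      rfl
  have hpi := isNoetherianRing_integralClosure_pi B (fun I : MaximalSpectrum L' => L' ⧸ I.asIdeal)
    hfactor
  exact isNoetherianRing_of_ringEquiv _ e.mapIntegralClosure.symm.toRingEquiv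

end Groth.Agent.Lib.Helper38.DvrExt
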