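import Mathlib
import Groth.Prelude.Def_Coh
import Groth.Prelude.Def_ClSub2
import Groth.Agent.Lib.Helper78.ModStalkExact
import Groth.Agent.Lib.Helper79.IdealSheafLocal

/-!
# Global sections of `O_Y ⟶ ρ_* O_X` with vanishing `H⁰` of the cokernel (helper38)

* `exists_lift_of_mono`: in an exact sequence of abelian sheaves with injective first map, a section of
  the middle term killed by the second map lifts (over the same object) to the first term.
* `app_injective_of_flat_of_surjective`: `ρ` flat and surjective ⟹ `Γ(Y, W) → Γ(X, ρ⁻¹W)` injective.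
* `appTop_surjective`: `ρ` flat and surjective, `H⁰(Y, coker(O_Y → ρ_*O_X)) = 0` ⟹
  `Γ(Y, ⊤) → Γ(X, ⊤)` surjective.
-/

set_option autoImplicit false
set_option linter.style.haveILetI false
universe v u w

open CategoryTheory CategoryTheory.Limits AlgebraicGeometry Opposite TopologicalSpace

namespace Groth.Agent.Lib.Helper38.FinCovConn

section Site

variable {C : Type u} [Category.{v} C] {J : GrothendieckTopology C}

/-- In an exact sequence of abelian sheaves with monic first map, a section of the middle term killed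
by the second map lifts to the first term. -/
theorem exists_lift_of_mono [HasSheafify J AddCommGrpCat.{w}]
    [Abelian (Sheaf J AddCommGrpCat.{w})] [Balanced (Sheaf J AddCommGrpCat.{w})]
    {S : ShortComplex (Sheaf J AddCommGrpCat.{w})} (hS : S.Exact) (hmono : Mono S.f) {Y : C}
    (x₂ : S.X₂.obj.obj (op Y)) (hx : S.g.hom.app (op Y) x₂ = 0) :
    ∃ x₁ : S.X₁.obj.obj (op Y), S.f.hom.app (op Y) x₁ = x₂ := by
  haveI := hmono
  haveI hiso : IsIso S.toCycles := hS.isIso_toCycles
  let E : Sheaf J AddCommGrpCat.{w} ⥤ AddCommGrpCat.{w} :=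
    sheafToPresheaf J _ ⋙ (evaluation _ _).obj (op Y)
  have : E.PreservesZeroMorphisms := ⟨fun _ _ => rfl⟩
  have hlim := isLimitForkMapOfIsLimit' E S.iCycles_g S.cyclesIsKernel
  let W : AddCommGrpCat.{w} := AddCommGrpCat.of (E.map S.g).hom.ker
  let ιW : W ⟶ E.obj S.X₂ := AddCommGrpCat.ofHom (AddSubgroup.subtype _)
  have hιW : ιW ≫ E.map S.g = 0 := by
    ext ⟨a, ha⟩
    exact ha
  obtain ⟨l, hl⟩ := KernelFork.IsLimit.lift' hlim ιW hιW
  let c : S.cycles.obj.obj (op Y) := l ⟨x₂, hx⟩
  have hc : S.iCycles.hom.app (op Y) c = x₂ := by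
    have := congrArg (fun m => m ⟨x₂, hx⟩) (congrArg (fun m => m.hom) hl)
    exact this
  refine ⟨(inv S.toCycles).hom.app (op Y) c, ?_⟩
  have h1 : S.f.hom.app (op Y) ((inv S.toCycles).hom.app (op Y) c) =
      S.iCycles.hom.app (op Y) (S.toCycles.hom.app (op Y) ((inv S.toCycles).hom.app (op Y) c)) := by
    have := congrArg (fun m : S.X₁ ⟶ S.X₂ => m.hom.app (op Y) ((inv S.toCycles).hom.app (op Y) c))
      S.toCycles_i
    exact this.symm
  have h2 : S.toCycles.hom.app (op Y) ((inv S.toCycles).hom.app (op Y) c) = c := by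
    have := congrArg (fun m : S.cycles ⟶ S.cycles => m.hom.app (op Y) c)
      (IsIso.inv_hom_id S.toCycles)
    exact this
  rw [h1, h2, hc]

end Site

section Sch

variable {X Y : Scheme.{u}}

/-- for a flat surjective morphism the maps on sections are injective. -/
theorem app_injective_of_flat_of_surjective (ρ : X ⟶ Y) [Flat ρ] [Surjective ρ] (W : Y.Opens) :
    Function.Injective (ρ.app W).hom := by
  rw [injective_iff_map_eq_zero]
  intro t ht
  apply TopCat.Presheaf.section_ext Y.sheaf W
  intro y hy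
  obtain ⟨x, rfl⟩ := ρ.surjective y
  have hx : x ∈ ρ ⁻¹ᵁ W := hy
  have h1 : (ρ.stalkMap x).hom (Y.presheaf.germ W (ρ x) hy t) =
      X.presheaf.germ (ρ ⁻¹ᵁ W) x hx ((ρ.app W).hom t) :=
    Scheme.Hom.germ_stalkMap_apply ρ W x hx t
  rw [ht, map_zero] at h1
  have h2 := Groth.Agent.Lib.Helper79.IdealSheafLocal.stalkMap_injective_of_flat ρ x
  have h3 : Y.presheaf.germ W (ρ x) hy t = 0 := by
    apply h2
    rw [h1, map_zero]
  change Y.presheaf.germ W (ρ x) hy t = Y.presheaf.germ W (ρ x) hy 0
  rw [h3, map_zero]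

open Groth.Agent.Lib.Helper78.ModStalkExact in
/-- `ρ` flat and surjective with `H⁰` of the cokernel of `O_Y ⟶ ρ_* O_X` trivial: every global
function of `X` comes from `Y`. -/
theorem appTop_surjective (ρ : X ⟶ Y) [Flat ρ] [Surjective ρ]
    (h0 : Subsingleton (Coh.HH Y (cokernel (ClSub.unitToPush ρ)) 0)) :
    Function.Surjective ρ.appTop.hom := by
  intro s
  let S : ShortComplex Y.Modules :=
    ShortComplex.mk (ClSub.unitToPush ρ) (cokernel.π (ClSub.unitToPush ρ))
      (cokernel.condition (ClSub.unitToPush ρ))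
  have hS : S.Exact := ShortComplex.exact_cokernel (ClSub.unitToPush ρ)
  let T := S.map (toSh Y)
  have hT : T.Exact := hS.map (toSh Y)
  have hinj : ∀ U : (Opens Y)ᵒᵖ, Function.Injective (T.f.hom.app U) := by
    intro U
    exact app_injective_of_flat_of_surjective ρ U.unop
  have hmono : Mono T.f := by
    haveI : ∀ U, Mono (((sheafToPresheaf _ _).map T.f).app U) := fun U =>
      (AddCommGrpCat.mono_iff_injective _).2 (hinj U)
    haveI : Mono ((sheafToPresheaf _ _).map T.f) := NatTrans.mono_of_mono_app _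
    exact (sheafToPresheaf _ _).mono_of_mono_map this
  let x₂ : T.X₂.obj.obj (op ⊤) := s
  have hsub : Subsingleton (T.X₃.obj.obj (op ⊤)) :=
    (Sheaf.H.equiv₀ (Coh.toAb (cokernel (ClSub.unitToPush ρ))) isTerminalTop).symm.subsingleton
  have hx : T.g.hom.app (op ⊤) x₂ = 0 := Subsingleton.elim _ _
  obtain ⟨x₁, hx₁⟩ := exists_lift_of_mono (S := T) hT hmono x₂ hx
  exact ⟨x₁, hx₁⟩

end Sch

end Groth.Agent.Lib.Helper38.FinCovConn
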