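import Mathlib
import Groth.Agent.Lib.Helper38.FinCovConn1
import Groth.Agent.Lib.Helper51.H0Const
import Groth.Agent.Lib.Helper58.SchemeIdem

/-!
# Finite flat covers with `H⁰(coker(O_Y → ρ_*O_X)) = 0` are geometrically connected (helper38)

* `exists_appTop_snd_eq`: if `k → Γ(X, O_X)` is surjective (`X` qcqs over a field `k`) then every global
  function of `X_K` is a constant from `K` (flat base change of sections).
* `geometricallyConnected_comp`: `Y` proper, geometrically connected and geometrically reduced over `k`,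
  `ρ : X ⟶ Y` finite flat surjective with `H⁰(Y, coker(O_Y → ρ_* O_X)) = 0` ⟹ `X` geometrically
  connected over `k`.
-/

set_option autoImplicit false
set_option linter.style.haveILetI false
universe u

open CategoryTheory CategoryTheory.Limits AlgebraicGeometry Opposite TopologicalSpace TensorProduct

namespace Groth.Agent.Lib.Helper38.FinCovConn

theorem exists_appTop_snd_eq {k K : Type u} [Field k] [Field K] [Algebra k K]
    {X : Scheme.{u}} (f : X ⟶ Spec (CommRingCat.of k)) [CompactSpace X] [QuasiSeparatedSpace X]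
    (hsurj : Function.Surjective
      (f.appTop.hom.comp (Scheme.ΓSpecIso (CommRingCat.of k)).inv.hom))
    (b : Γ(pullback f (Spec.map (CommRingCat.ofHom (algebraMap k K))), ⊤)) :
    ∃ c : K, b = (pullback.snd f (Spec.map (CommRingCat.ofHom (algebraMap k K)))).appTop
        ((Scheme.ΓSpecIso (CommRingCat.of K)).inv c) := by
  let g := Spec.map (CommRingCat.ofHom (algebraMap k K))
  have H : IsPullback (pullback.fst f g) (pullback.snd f g) f g := IsPullback.of_hasPullback f g
  have hqs : IsQuasiSeparated (α := X) ((⊤ : X.Opens) : Set X) := by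
    rw [Opens.coe_top]
    exact isQuasiSeparated_univ
  have hiso := isIso_pushoutSection_of_isQuasiSeparated_of_flat_right H (US := ⊤) (UT := ⊤)
    (UX := ⊤) (UY := ⊤) le_top le_top (by simp) (isAffineOpen_top _) (isAffineOpen_top _)
    isCompact_univ hqs
  let φ : k →+* Γ(X, ⊤) := f.appTop.hom.comp (Scheme.ΓSpecIso (CommRingCat.of k)).inv.hom
  letI : Algebra k Γ(X, ⊤) := φ.toAlgebra
  have H0 := CommRingCat.isPushout_tensorProduct k Γ(X, ⊤) K
  let e1 := Scheme.ΓSpecIso (CommRingCat.of k)
  let e2 := Scheme.ΓSpecIso (CommRingCat.of K)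
  have H' : IsPushout (f.appLE ⊤ ⊤ le_top) (g.appLE ⊤ ⊤ le_top)
      (CommRingCat.ofHom (S := Γ(X, ⊤) ⊗[k] K) <| Algebra.TensorProduct.includeLeftRingHom)
      (e2.hom ≫ (CommRingCat.ofHom (S := Γ(X, ⊤) ⊗[k] K) <|
        Algebra.TensorProduct.includeRight.toRingHom)) := by
    refine H0.of_iso e1.symm (Iso.refl _) e2.symm (Iso.refl _) ?_ ?_ ?_ ?_
    · have h1 : f.appLE ⊤ ⊤ le_top = f.appTop := by
        simp only [Scheme.Hom.appLE, Scheme.Hom.appTop]
        erw [CategoryTheory.Functor.map_id]
        exact Category.comp_id (f.app ⊤)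
      rw [h1]
      ext x
      rfl
    · have h1 : g.appLE ⊤ ⊤ le_top = g.appTop := by
        simp only [Scheme.Hom.appLE, Scheme.Hom.appTop]
        erw [CategoryTheory.Functor.map_id]
        exact Category.comp_id (g.app ⊤)
      rw [h1]
      exact Scheme.ΓSpecIso_inv_naturality (CommRingCat.ofHom (algebraMap k K))
    · simp
    · simp
  let Φ : CommRingCat.of (Γ(X, ⊤) ⊗[k] K) ⟶ Γ(pullback f g, ⊤) :=
    H'.isoPushout.hom ≫ pushoutSection H (US := ⊤) (UT := ⊤) (UX := ⊤) (UY := ⊤) le_top le_top
      (by simp)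
  haveI : IsIso Φ := by
    dsimp only [Φ]
    infer_instance
  have hbij : Function.Bijective Φ := (ConcreteCategory.isIso_iff_bijective Φ).mp inferInstance
  have hr : ∀ α : K, Φ ((1 : Γ(X, ⊤)) ⊗ₜ[k] α) = (pullback.snd f g).appTop (e2.inv α) := by
    intro α
    have hr' : CommRingCat.ofHom (S := Γ(X, ⊤) ⊗[k] K)
        Algebra.TensorProduct.includeRight.toRingHom ≫ Φ = e2.inv ≫ (pullback.snd f g).appTop := by
      rw [← cancel_epi e2.hom, Iso.hom_inv_id_assoc]
      have := H'.inr_isoPushout_hom
      rw [Category.assoc] at this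
      dsimp only [Φ]
      rw [← Category.assoc, ← Category.assoc, Category.assoc e2.hom, this]
      simp only [pushoutSection, pushout.inr_desc]
      simp only [Scheme.Hom.appLE, Scheme.Hom.appTop]
      erw [CategoryTheory.Functor.map_id]
      exact Category.comp_id ((pullback.snd f g).app ⊤)
    exact ConcreteCategory.congr_hom hr' α
  have key : ∀ w : Γ(X, ⊤) ⊗[k] K, ∃ c : K, Φ w = (pullback.snd f g).appTop (e2.inv c) := by
    intro w
    induction w using TensorProduct.induction_on with
    | zero => exact ⟨0, by rw [map_zero, map_zero, map_zero]⟩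
    | tmul a c =>
      obtain ⟨c₀, rfl⟩ := hsurj a
      refine ⟨c₀ • c, ?_⟩
      have h1 : (f.appTop.hom.comp (Scheme.ΓSpecIso (CommRingCat.of k)).inv.hom) c₀ =
          c₀ • (1 : Γ(X, ⊤)) := by
        rw [Algebra.smul_def, mul_one]
        rfl
      rw [h1, TensorProduct.smul_tmul, hr]
    | add x y hx hy =>
      obtain ⟨c1, h1⟩ := hx
      obtain ⟨c2, h2⟩ := hy
      exact ⟨c1 + c2, by rw [map_add, h1, h2, map_add, map_add]⟩
  obtain ⟨w, hw⟩ := hbij.2 b
  obtain ⟨c, hc⟩ := key w
  exact ⟨c, hw.symm.trans hc⟩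

end Groth.Agent.Lib.Helper38.FinCovConn
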