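import Mathlib
import Groth.Agent.Lib.Helper38.FinCovConn2

/-!
# Finite flat covers with `H⁰(coker(O_Y → ρ_*O_X)) = 0` are geometrically connected (helper38)
-/

set_option autoImplicit false
set_option linter.style.haveILetI false
universe u

open CategoryTheory CategoryTheory.Limits AlgebraicGeometry Opposite TopologicalSpace TensorProduct

namespace Groth.Agent.Lib.Helper38.FinCovConn

open Groth.Agent.Lib.Helper58.SchemeIdem

/-- a scheme `Z` with a point, all of whose global functions come from a field `K`, is connected. -/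
theorem connectedSpace_of_forall_exists {K : Type u} [Field K] {Z : Scheme.{u}} [Nonempty Z]
    (ψ : K →+* Γ(Z, ⊤)) (h : ∀ b : Γ(Z, ⊤), ∃ c : K, b = ψ c) : ConnectedSpace Z := by
  haveI : Nonempty (⊤ : Z.Opens) := ⟨⟨Classical.arbitrary _, trivial⟩⟩
  haveI : Nontrivial Γ(Z, ⊤) := Scheme.component_nontrivial Z ⊤
  rw [connectedSpace_iff_clopen]
  refine ⟨inferInstance, fun s hs => ?_⟩
  obtain ⟨e, he, hes⟩ := exists_idem_basicOpen_eq s hs
  obtain ⟨c, hc⟩ := h e
  have hinj : Function.Injective ψ := ψ.injective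
  have hcc : c * c = c := by
    apply hinj
    rw [map_mul, ← hc]
    exact he
  have hc01 : c = 0 ∨ c = 1 := by
    by_cases h0 : c = 0
    · exact Or.inl h0
    · right
      exact mul_left_cancel₀ h0 (by rw [hcc, mul_one])
  rcases hc01 with h0 | h1
  · left
    rw [← hes, hc, h0, map_zero, Scheme.basicOpen_zero]
    rfl
  · right
    rw [← hes, hc, h1, map_one, Scheme.basicOpen_of_isUnit _ isUnit_one]
    rfl

theorem geometricallyConnected_comp {k : Type u} [Field k] {X Y : Scheme.{u}}
    (g : Y ⟶ Spec (CommRingCat.of k)) (ρ : X ⟶ Y)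
    [IsProper g] [GeometricallyConnected g] [GeometricallyReduced g]
    [IsFinite ρ] [Flat ρ] [Surjective ρ]
    (h0 : Subsingleton (Coh.HH Y (cokernel (ClSub.unitToPush ρ)) 0)) :
    GeometricallyConnected (ρ ≫ g) := by
  have hρ := appTop_surjective ρ h0
  have hg := (Groth.Agent.Lib.Helper51.bijective_toGlobal g).2
  have hsurj : Function.Surjective
      ((ρ ≫ g).appTop.hom.comp (Scheme.ΓSpecIso (CommRingCat.of k)).inv.hom) := by
    intro a
    obtain ⟨t, rfl⟩ := hρ a
    obtain ⟨c, hc⟩ := hg t
    refine ⟨c, ?_⟩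
    have h1 : (ρ ≫ g).appTop = g.appTop ≫ ρ.appTop := Scheme.Hom.comp_appTop ρ g
    rw [h1]
    change ρ.appTop.hom (Coh.toGlobal g c) = _
    rw [hc]
  haveI : IsProper (ρ ≫ g) := inferInstance
  haveI : CompactSpace X := (quasiCompact_iff_compactSpace (ρ ≫ g)).mp inferInstance
  haveI : QuasiSeparatedSpace X :=
    (quasiSeparated_iff_quasiSeparatedSpace (ρ ≫ g)).mp inferInstance
  haveI : Nonempty Y := by
    obtain ⟨y, _⟩ := g.surjective (Classical.arbitrary _)
    exact ⟨y⟩
  haveI : Nonempty X := by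
    obtain ⟨x, _⟩ := ρ.surjective (Classical.arbitrary _)
    exact ⟨x⟩
  rw [geometricallyConnected_iff, geometrically_iff_of_commRing]
  intro K _ _ Z fst snd hpb
  -- transfer to the standard pullback
  let gK := Spec.map (CommRingCat.ofHom (algebraMap k K))
  let e := hpb.isoPullback
  haveI : Surjective gK := by
    refine ⟨fun x => ⟨Classical.arbitrary _, Subsingleton.elim _ _⟩⟩
  haveI : Nonempty ↥(pullback (ρ ≫ g) gK) := by
    obtain ⟨z, _⟩ := (pullback.fst (ρ ≫ g) gK).surjective (Classical.arbitrary X)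
    exact ⟨z⟩
  have hconn : ConnectedSpace ↥(pullback (ρ ≫ g) gK) := by
    refine connectedSpace_of_forall_exists
      ((pullback.snd (ρ ≫ g) gK).appTop.hom.comp (Scheme.ΓSpecIso (CommRingCat.of K)).inv.hom) ?_
    intro b
    exact exists_appTop_snd_eq (ρ ≫ g) hsurj b
  exact (e.hom.homeomorph).symm.surjective.connectedSpace (e.hom.homeomorph).symm.continuous
end Groth.Agent.Lib.Helper38.FinCovConn
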