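import Mathlib

/-!
# Connected integral algebras over an algebraically closed field, and their sequential limits
(helper38)

* `exists_isNilpotent_sub`: `R` integral over an algebraically closed field `k`, with only trivial
  idempotents: every element is a constant plus a nilpotent.
* `isUnit_of_forall_isUnit_π`: an element of a limit of commutative rings all of whose components
  are units is a unit.
* `isLocalRing_limit`: a sequential limit of such rings is local.
-/

set_option autoImplicit false
set_option linter.style.haveILetI false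
universe u

open CategoryTheory CategoryTheory.Limits Polynomial Opposite

namespace Groth.Agent.Lib.Helper38.FormalLocal1

section Ring

variable {k : Type*} [Field k] [IsAlgClosed k] {R : Type*} [CommRing R] [Nontrivial R]

theorem exists_isNilpotent_sub_aux (φ : k →+* R)
    (hidem : ∀ e : R, e * e = e → e = 0 ∨ e = 1) (a : R) (d : ℕ) :
    ∀ p : k[X], p.Monic → p.natDegree ≤ d → p.eval₂ φ a = 0 →
      ∃ c : k, IsNilpotent (a - φ c) := by
  induction d with
  | zero =>
    intro p hp hd h0
    exfalso
    have h1 : p = 1 := Polynomial.eq_one_of_monic_natDegree_zero hp (Nat.le_zero.mp hd)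
    rw [h1, Polynomial.eval₂_one] at h0
    exact one_ne_zero h0
  | succ d ih =>
    intro p hp hd h0
    by_cases hd' : p.natDegree ≤ d
    · exact ih p hp hd' h0
    have hdeg : p.natDegree = d + 1 := le_antisymm hd (Nat.succ_le_of_lt (not_le.mp hd'))
    have hpdeg : p.degree ≠ 0 := by
      rw [Polynomial.degree_eq_natDegree hp.ne_zero, hdeg]
      exact_mod_cast Nat.succ_ne_zero d
    obtain ⟨c, hc⟩ := IsAlgClosed.exists_root p hpdeg
    obtain ⟨q, hpq, hq⟩ := Polynomial.exists_eq_pow_rootMultiplicity_mul_and_not_dvd p hp.ne_zero c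
    set n := p.rootMultiplicity c with hn
    have hnpos : 0 < n := (Polynomial.rootMultiplicity_pos hp.ne_zero).mpr hc
    have hcop : IsCoprime ((X - C c) ^ n) q :=
      ((Polynomial.irreducible_X_sub_C c).coprime_iff_not_dvd.mpr hq).pow_left
    have hmonic : ((X - C c) ^ n).Monic := (Polynomial.monic_X_sub_C c).pow n
    have hqmonic : q.Monic := by
      have := hp
      rw [hpq] at this
      exact hmonic.of_mul_monic_left this
    have hqdeg : q.natDegree ≤ d := by
      have h1 : p.natDegree = ((X - C c) ^ n).natDegree + q.natDegree := by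
        conv_lhs => rw [hpq]
        exact hmonic.natDegree_mul hqmonic
      rw [(Polynomial.monic_X_sub_C c).natDegree_pow, Polynomial.natDegree_X_sub_C, mul_one,
        hdeg] at h1
      omega
    obtain ⟨U, V, hUV⟩ := hcop
    set x := ((X - C c) ^ n).eval₂ φ a with hx
    set y := q.eval₂ φ a with hy
    have hxy : x * y = 0 := by
      rw [hx, hy, ← Polynomial.eval₂_mul, ← hpq]
      exact h0
    have hone : U.eval₂ φ a * x + V.eval₂ φ a * y = 1 := by
      rw [hx, hy, ← Polynomial.eval₂_mul, ← Polynomial.eval₂_mul, ← Polynomial.eval₂_add, hUV,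
        Polynomial.eval₂_one]
    have hxval : x = (a - φ c) ^ n := by
      rw [hx, Polynomial.eval₂_pow, Polynomial.eval₂_sub, Polynomial.eval₂_X, Polynomial.eval₂_C]
    set e := U.eval₂ φ a * x with he
    have hee : e * e = e := by
      have h1 : e = e * 1 := (mul_one e).symm
      conv_rhs => rw [h1, ← hone, mul_add]
      have h2 : e * (V.eval₂ φ a * y) = 0 := by
        rw [he]
        calc U.eval₂ φ a * x * (V.eval₂ φ a * y) = U.eval₂ φ a * V.eval₂ φ a * (x * y) := by ring
          _ = 0 := by rw [hxy, mul_zero]
      rw [h2, add_zero]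
    rcases hidem e hee with h | h
    · -- `V y = 1`, so `x = 0`
      rw [h, zero_add] at hone
      have hx0 : x = 0 := by
        calc x = x * (V.eval₂ φ a * y) := by rw [hone, mul_one]
          _ = V.eval₂ φ a * (x * y) := by ring
          _ = 0 := by rw [hxy, mul_zero]
      exact ⟨c, n, by rw [← hxval, hx0]⟩
    · -- `x` is a unit, so `y = 0`
      have hy0 : y = 0 := by
        calc y = (U.eval₂ φ a * x) * y := by rw [← he, h, one_mul]
          _ = U.eval₂ φ a * (x * y) := by ring
          _ = 0 := by rw [hxy, mul_zero]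
      exact ih q hqmonic hqdeg hy0

/-- connected + integral over an algebraically closed field: constants plus nilpotents. -/
theorem exists_isNilpotent_sub (φ : k →+* R) (hint : φ.IsIntegral)
    (hidem : ∀ e : R, e * e = e → e = 0 ∨ e = 1) (a : R) :
    ∃ c : k, IsNilpotent (a - φ c) := by
  obtain ⟨p, hp, h0⟩ := hint a
  exact exists_isNilpotent_sub_aux φ hidem a p.natDegree p hp le_rfl h0

end Ring

section Limit

variable {J : Type} [Category.{0} J] (F : J ⥤ CommRingCat.{u}) [HasLimit F]

/-- an element of a limit of rings whose components are all units is a unit. -/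
theorem isUnit_of_forall_isUnit_π (a : ↑(limit F))
    (hu : ∀ j, IsUnit ((limit.π F j).hom a)) : IsUnit a := by
  have hnat : ∀ {j j' : J} (f : j ⟶ j'),
      CommRingCat.ofHom (IsLocalization.Away.lift (S := Localization.Away a) a (hu j)) ≫ F.map f =
        CommRingCat.ofHom (IsLocalization.Away.lift (S := Localization.Away a) a (hu j')) := by
    intro j j' f
    apply CommRingCat.hom_ext
    apply IsLocalization.ringHom_ext (Submonoid.powers a)
    ext x
    have h1 : (F.map f).hom ((limit.π F j).hom x) = (limit.π F j').hom x :=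
      congrArg (fun g => g.hom x) (limit.w F f)
    change (F.map f).hom (IsLocalization.Away.lift (S := Localization.Away a) a (hu j)
      (algebraMap _ (Localization.Away a) x)) =
      IsLocalization.Away.lift (S := Localization.Away a) a (hu j')
        (algebraMap _ (Localization.Away a) x)
    rw [IsLocalization.Away.lift_eq, IsLocalization.Away.lift_eq]
    exact h1
  let c : Cone F :=
    { pt := CommRingCat.of (Localization.Away a)
      π :=
        { app := fun j => CommRingCat.ofHom (IsLocalization.Away.lift a (hu j))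
          naturality := by
            intro j j' f
            change 𝟙 _ ≫ _ = _
            rw [Category.id_comp]
            exact (hnat f).symm } }
  let L := limit.lift F c
  have hL : ∀ j (z : Localization.Away a), (limit.π F j).hom (L.hom z) =
      IsLocalization.Away.lift a (hu j) z := by
    intro j z
    exact congrArg (fun g => g.hom z) (limit.lift_π c j)
  have hab : a * L.hom (IsLocalization.Away.invSelf a) = 1 := by
    apply Concrete.limit_ext F
    intro j
    change (limit.π F j).hom (a * L.hom (IsLocalization.Away.invSelf a)) = (limit.π F j).hom 1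
    rw [map_mul, map_one, hL]
    have h1 : (limit.π F j).hom a =
        IsLocalization.Away.lift a (hu j) (algebraMap _ (Localization.Away a) a) := by
      rw [IsLocalization.Away.lift_eq]
    rw [h1, ← map_mul, IsLocalization.Away.mul_invSelf, map_one]
  exact IsUnit.of_mul_eq_one _ hab

end Limit

section Seq

variable {k : Type u} [Field k] (F : ℕᵒᵖ ⥤ CommRingCat.{u})
  (φ : ∀ m : ℕ, k →+* ↑(F.obj (op m)))
  (hφ : ∀ m : ℕ, (F.map (homOfLE (m.le_add_right 1)).op).hom.comp (φ (m + 1)) = φ m)
  (hnt : ∀ m : ℕ, Nontrivial ↑(F.obj (op m)))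
  (hnil : ∀ (m : ℕ) (x : ↑(F.obj (op m))), ∃ c : k, IsNilpotent (x - φ m c))

include hφ hnt hnil

theorem exists_const (a : ↑(limit F)) :
    ∃ c : k, ∀ m : ℕ, IsNilpotent ((limit.π F (op m)).hom a - φ m c) := by
  choose cm hcm using fun m => hnil m ((limit.π F (op m)).hom a)
  have hsucc : ∀ m, cm (m + 1) = cm m := by
    intro m
    haveI := hnt m
    have h1 : IsNilpotent ((limit.π F (op m)).hom a - φ m (cm (m + 1))) := by
      have h2 := (hcm (m + 1)).map (F.map (homOfLE (m.le_add_right 1)).op).hom
      rw [map_sub] at h2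
      have h3 : (F.map (homOfLE (m.le_add_right 1)).op).hom ((limit.π F (op (m + 1))).hom a) =
          (limit.π F (op m)).hom a := by
        exact congrArg (fun g => g.hom a) (limit.w F (homOfLE (m.le_add_right 1)).op)
      have h4 : (F.map (homOfLE (m.le_add_right 1)).op).hom (φ (m + 1) (cm (m + 1))) =
          φ m (cm (m + 1)) := by
        rw [← hφ m]; rfl
      rw [h3, h4] at h2
      exact h2
    have h5 : IsNilpotent (φ m (cm (m + 1) - cm m)) := by
      have h6 : φ m (cm (m + 1) - cm m) = ((limit.π F (op m)).hom a - φ m (cm m)) -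
          ((limit.π F (op m)).hom a - φ m (cm (m + 1))) := by
        rw [map_sub]; ring
      rw [h6]
      exact (Commute.all _ _).isNilpotent_sub (hcm m) h1
    obtain ⟨N, hN⟩ := h5
    rw [← map_pow] at hN
    have h7 : (cm (m + 1) - cm m) ^ N = 0 := (φ m).injective (by rw [hN, map_zero])
    exact sub_eq_zero.mp (IsReduced.eq_zero _ ⟨N, h7⟩)
  have hall : ∀ m, cm m = cm 0 := by
    intro m
    induction m with
    | zero => rfl
    | succ m ih => rw [hsucc, ih]
  exact ⟨cm 0, fun m => by rw [← hall m]; exact hcm m⟩

theorem isLocalRing_limit : IsLocalRing ↑(limit F) := by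
  haveI := hnt 0
  haveI : Nontrivial ↑(limit F) := (limit.π F (op 0)).hom.domain_nontrivial
  refine IsLocalRing.of_isUnit_or_isUnit_one_sub_self ?_
  intro a
  obtain ⟨c, hc⟩ := exists_const F φ hφ hnt hnil a
  by_cases hc0 : c = 0
  · right
    apply isUnit_of_forall_isUnit_π F
    intro j
    obtain ⟨m⟩ := j
    have h1 := hc m
    rw [hc0, map_zero, sub_zero] at h1
    rw [map_sub, map_one]
    exact h1.isUnit_one_sub
  · left
    apply isUnit_of_forall_isUnit_π F
    intro j
    obtain ⟨m⟩ := j
    have h1 := hc m
    have h2 : IsUnit (φ m c) := (IsUnit.mk0 c hc0).map (φ m)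
    have h3 := h1.isUnit_add_left_of_commute h2 (Commute.all _ _)
    rw [add_sub_cancel] at h3
    exact h3

end Seq

section SeqOf

variable {k : Type u} [Field k] {X : ℕ → CommRingCat.{u}} (f : ∀ n, X (n + 1) ⟶ X n)
  (φ : ∀ m : ℕ, k →+* ↑(X m))
  (hφ : ∀ m : ℕ, (f m).hom.comp (φ (m + 1)) = φ m)
  (hnt : ∀ m : ℕ, Nontrivial ↑(X m))
  (hnil : ∀ (m : ℕ) (x : ↑(X m)), ∃ c : k, IsNilpotent (x - φ m c))

include hφ hnt hnil

theorem isLocalRing_limit_ofOpSequence : IsLocalRing ↑(limit (Functor.ofOpSequence f)) := by
  refine isLocalRing_limit (Functor.ofOpSequence f) (fun m => φ m) ?_ (fun m => hnt m)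
    (fun m x => hnil m x)
  intro m
  rw [Functor.ofOpSequence_map_homOfLE_succ]
  exact hφ m

theorem exists_const_ofOpSequence (a : ↑(limit (Functor.ofOpSequence f))) :
    ∃ c : k, ∀ m : ℕ, IsNilpotent
      (Sub.sub (α := ↑(X m)) ((limit.π (Functor.ofOpSequence f) (op m)).hom a) (φ m c)) := by
  refine exists_const (Functor.ofOpSequence f) (fun m => φ m) ?_ (fun m => hnt m)
    (fun m x => hnil m x) a
  intro m
  rw [Functor.ofOpSequence_map_homOfLE_succ]
  exact hφ m

end SeqOf

end Groth.Agent.Lib.Helper38.FormalLocal1
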