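import Mathlib
import Groth.Agent.Lib.Helper38.FormalLocal1
import Groth.Agent.Lib.Helper58.SchemeIdem

/-!
# Global functions on a connected scheme universally closed over an algebraically closed field
(helper38)
-/

set_option autoImplicit false
set_option linter.style.haveILetI false
universe u

open CategoryTheory CategoryTheory.Limits AlgebraicGeometry Opposite TopologicalSpace

namespace Groth.Agent.Lib.Helper38.FormalLocal2

open Groth.Agent.Lib.Helper58.SchemeIdem

/-- idempotent global functions on a connected scheme are trivial. -/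
theorem idem_trivial_of_connected {Z : Scheme.{u}} [PreconnectedSpace Z] (e : Γ(Z, ⊤))
    (he : e * e = e) : e = 0 ∨ e = 1 := by
  have hid : IsIdempotentElem e := he
  rcases isClopen_iff.mp (isClopen_basicOpen e hid) with h | h
  · left
    apply eq_zero_of_basicOpen_eq_bot e hid
    apply Opens.ext
    rw [h]; rfl
  · right
    have hid' : IsIdempotentElem (1 - e) := hid.one_sub
    have h1 : Z.basicOpen (1 - e) = ⊥ := by
      apply Opens.ext
      rw [coe_basicOpen_one_sub e hid, h, Set.compl_univ]; rfl
    have h2 := eq_zero_of_basicOpen_eq_bot (1 - e) hid' h1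
    exact (sub_eq_zero.mp h2).symm

theorem nontrivial_top {Z : Scheme.{u}} [Nonempty Z] : Nontrivial Γ(Z, ⊤) := by
  apply +allowSynthFailures Scheme.component_nontrivial
  exact ⟨⟨Classical.arbitrary Z, trivial⟩⟩

/-- functions on a connected scheme universally closed over an algebraically closed field are
constant modulo nilpotents. -/
theorem exists_isNilpotent_sub_of_universallyClosed {k : Type u} [Field k] [IsAlgClosed k]
    {Z : Scheme.{u}} (g : Z ⟶ Spec (CommRingCat.of k)) [UniversallyClosed g] [ConnectedSpace Z]
    (a : Γ(Z, ⊤)) :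
    ∃ c : k, IsNilpotent (a - (g.appTop.hom.comp (Scheme.ΓSpecIso (CommRingCat.of k)).inv.hom) c) := by
  haveI : Nontrivial Γ(Z, ⊤) := nontrivial_top
  have h1 : g.appTop.hom.IsIntegral := isIntegral_appTop_of_universallyClosed g
  have h2 : (Scheme.ΓSpecIso (CommRingCat.of k)).inv.hom.IsIntegral := by
    apply RingHom.isIntegral_of_surjective
    intro y
    refine ⟨(Scheme.ΓSpecIso (CommRingCat.of k)).hom.hom y, ?_⟩
    have := congrArg (fun f => f.hom y) (Scheme.ΓSpecIso (CommRingCat.of k)).hom_inv_id
    exact this
  have h3 : (g.appTop.hom.comp (Scheme.ΓSpecIso (CommRingCat.of k)).inv.hom).IsIntegral :=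
    RingHom.IsIntegral.trans _ _ h2 h1
  exact Groth.Agent.Lib.Helper38.FormalLocal1.exists_isNilpotent_sub _ h3
    (fun e he => idem_trivial_of_connected e he) a

/-- the thickenings of a connected closed subscheme are connected. -/
theorem connectedSpace_subscheme_pow {X : Scheme.{u}} (𝓘 : X.IdealSheafData)
    (hY : _root_.IsConnected (𝓘.support : Set X)) (m : ℕ) :
    ConnectedSpace ↥((𝓘 ^ (m + 1)).subscheme) := by
  have hrange : Set.range ((𝓘 ^ (m + 1)).subschemeι) = (𝓘.support : Set X) := by
    rw [Scheme.IdealSheafData.range_subschemeι, Scheme.IdealSheafData.support_pow_succ]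
  have hemb : Topology.IsEmbedding ((𝓘 ^ (m + 1)).subschemeι) :=
    ((𝓘 ^ (m + 1)).subschemeι).isEmbedding
  have hpre : _root_.IsPreconnected (Set.univ : Set ↥((𝓘 ^ (m + 1)).subscheme)) := by
    apply hemb.isInducing.isPreconnected_image.mp
    rw [Set.image_univ, hrange]
    exact hY.isPreconnected
  obtain ⟨x, hx⟩ := hY.nonempty
  rw [← hrange] at hx
  obtain ⟨z, -⟩ := hx
  exact { isPreconnected_univ := hpre, toNonempty := ⟨z⟩ }

end Groth.Agent.Lib.Helper38.FormalLocal2
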