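import Mathlib
import Groth.Agent.Lib.Helper38.WeakUnram
import Groth.Agent.Lib.Helper56.BrDim2

set_option autoImplicit false
universe u

namespace Groth.Agent.Lib.Helper38.HensBranch

open IsLocalRing

section Approx

variable {H G : Type u} [CommRing H] [IsLocalRing H] [CommRing G] [IsLocalRing G] [Algebra H G]

/-- Elements of the extension of the colon `((f) : 𝔪ⁿ)` can be approximated modulo `f`. -/
theorem exists_sub_mem_span_of_mem_map_colon
    (hm : (maximalIdeal H).map (algebraMap H G) = maximalIdeal G)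
    (hres : ∀ x : G, ∃ y : H, x - algebraMap H G y ∈ maximalIdeal G)
    (f : H) (n : ℕ) (W : Ideal H)
    (hW : ∀ w ∈ W, ∀ y ∈ maximalIdeal H ^ n, y * w ∈ Ideal.span {f})
    (a : G) (ha : a ∈ W.map (algebraMap H G)) :
    ∃ a' ∈ W, a - algebraMap H G a' ∈ Ideal.span {algebraMap H G f} := by
  rw [Ideal.map] at ha
  induction ha using Submodule.span_induction with
  | mem y hy =>
    obtain ⟨w, hw, rfl⟩ := hy
    exact ⟨w, hw, by simp⟩
  | zero => exact ⟨0, W.zero_mem, by simp⟩
  | add y z _ _ hy hz =>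
    obtain ⟨r₁, hr₁, h₁⟩ := hy
    obtain ⟨r₂, hr₂, h₂⟩ := hz
    refine ⟨r₁ + r₂, W.add_mem hr₁ hr₂, ?_⟩
    rw [map_add, add_sub_add_comm]
    exact Ideal.add_mem _ h₁ h₂
  | smul s y hy hy' =>
    obtain ⟨r₁, hr₁, h₁⟩ := hy'
    obtain ⟨t, ht⟩ := Groth.Agent.Lib.Helper56.BrDim.exists_sub_mem_map_pow hm hres n s
    refine ⟨t * r₁, W.mul_mem_left _ hr₁, ?_⟩
    have e : s • y - algebraMap H G (t * r₁) =
        s * (y - algebraMap H G r₁) + (s - algebraMap H G t) * algebraMap H G r₁ := by
      rw [map_mul, smul_eq_mul]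
      ring
    rw [e]
    apply Ideal.add_mem
    · exact Ideal.mul_mem_left _ _ h₁
    · have h2 : (s - algebraMap H G t) * algebraMap H G r₁ ∈
          (maximalIdeal H ^ n * Ideal.span {r₁}).map (algebraMap H G) := by
        rw [Ideal.map_mul]
        exact Ideal.mul_mem_mul ht (Ideal.mem_map_of_mem _ (Ideal.mem_span_singleton_self r₁))
      have h3 : maximalIdeal H ^ n * Ideal.span {r₁} ≤ Ideal.span {f} := by
        rw [Ideal.mul_le]
        intro y hy z hz
        obtain ⟨z', rfl⟩ := Ideal.mem_span_singleton'.mp hz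
        have := hW r₁ hr₁ y hy
        have h4 : y * (z' * r₁) = z' * (y * r₁) := by ring
        rw [h4]
        exact Ideal.mul_mem_left _ _ this
      have h5 := Ideal.map_mono (f := algebraMap H G) h3 h2
      rwa [Ideal.map_span, Set.image_singleton] at h5

end Approx

section Coheight

variable {G : Type u} [CommRing G] [IsLocalRing G]

theorem coheight_one (Q : Ideal G) [Q.IsPrime] (hdim : ringKrullDim (G ⧸ Q) = 1) :
    Q ≠ maximalIdeal G ∧ ∀ P : Ideal G, P.IsPrime → Q < P → P = maximalIdeal G := by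
  constructor
  · intro h
    have hmax : Q.IsMaximal := h ▸ IsLocalRing.maximalIdeal.isMaximal G
    letI := Ideal.Quotient.field Q
    have h0 : ringKrullDim (G ⧸ Q) = 0 := ringKrullDim_eq_zero_of_field _
    rw [h0] at hdim
    exact zero_ne_one hdim
  · intro P hP hQP
    have hK : Ring.KrullDimLE 1 (G ⧸ Q) := by
      rw [Ring.krullDimLE_iff, hdim]
      rfl
    have hP' : (P.map (Ideal.Quotient.mk Q)).IsPrime :=
      Ideal.map_isPrime_of_surjective Ideal.Quotient.mk_surjective (by
        rw [Ideal.mk_ker]; exact hQP.le)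
    have hcomap : (P.map (Ideal.Quotient.mk Q)).comap (Ideal.Quotient.mk Q) = P := by
      rw [Ideal.comap_map_of_surjective _ Ideal.Quotient.mk_surjective,
        ← RingHom.ker_eq_comap_bot, Ideal.mk_ker, sup_eq_left.mpr hQP.le]
    have hne : P.map (Ideal.Quotient.mk Q) ≠ ⊥ := by
      intro h
      rw [h, ← RingHom.ker_eq_comap_bot, Ideal.mk_ker] at hcomap
      exact hQP.ne hcomap
    have hmax := hP'.isMaximal_of_ne_bot hne
    have hPmax : P.IsMaximal := by
      rw [← hcomap]
      exact Ideal.comap_isMaximal_of_surjective _ Ideal.Quotient.mk_surjective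
    exact IsLocalRing.eq_maximalIdeal hPmax

end Coheight

section Core

variable {H G : Type u} [CommRing H] [HenselianLocalRing H] [IsDomain H] [IsNoetherianRing H]
  [CommRing G] [IsLocalRing G] [IsNoetherianRing G] [Algebra H G]
  [Module.Flat H G] [IsLocalHom (algebraMap H G)]

/-- The algebraic heart: an element `a` of `G` with `a² = xᴹ a`, `𝔪ᴹ a ⊆ xᴹ G` is a multiple
of `xᴹ`, provided `xᴹ ∉ (a)`. -/
theorem mem_span_of_sq_eq
    (hm : (maximalIdeal H).map (algebraMap H G) = maximalIdeal G)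
    (hres : ∀ x : G, ∃ y : H, x - algebraMap H G y ∈ maximalIdeal G)
    (x : H) (hx0 : x ≠ 0) (M : ℕ) (a : G)
    (hsq : a * a = algebraMap H G (x ^ M) * a)
    (hcol : ∀ y ∈ maximalIdeal H ^ M, ∃ z : G, algebraMap H G y * a = algebraMap H G (x ^ M) * z)
    (hna : algebraMap H G (x ^ M) ∉ Ideal.span {a}) :
    a ∈ Ideal.span {algebraMap H G (x ^ M)} := by
  classical
  set φ := algebraMap H G with hφ
  set X : G := φ (x ^ M) with hX
  have hff : Module.FaithfullyFlat H G := Module.FaithfullyFlat.of_flat_of_isLocalHom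
  -- regularity of X
  have hxM0 : x ^ M ≠ 0 := pow_ne_zero _ hx0
  have hreg : ∀ g : G, X * g = 0 → g = 0 := by
    intro g hg
    have h1 : x ^ M ∈ nonZeroDivisors H := mem_nonZeroDivisors_of_ne_zero hxM0
    have h2 := Module.Flat.isSMulRegular_of_nonZeroDivisors (M := G) h1
    apply h2
    change (x ^ M) • g = (x ^ M) • (0 : G)
    rw [smul_zero, Algebra.smul_def]
    exact hg
  -- generators of 𝔪^M
  obtain ⟨k, xs, hxs⟩ := (Submodule.fg_iff_exists_fin_generating_family).mp
    (IsNoetherian.noetherian (maximalIdeal H ^ M))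
  have hxs_mem : ∀ i, xs i ∈ maximalIdeal H ^ M := fun i => by
    rw [← hxs]; exact Submodule.subset_span ⟨i, rfl⟩
  choose z hz using fun i => hcol (xs i) (hxs_mem i)
  have hmem := Groth.Agent.Lib.Helper38.WeakUnram.mem_map_colon_range_of_flat (x ^ M) xs a z hz
  set W : Ideal H := (Ideal.span {x ^ M}).colon (Set.range xs) with hWdef
  have hW : ∀ w ∈ W, ∀ y ∈ maximalIdeal H ^ M, y * w ∈ Ideal.span {x ^ M} := by
    intro w hw y hy
    rw [← hxs] at hy
    induction hy using Submodule.span_induction with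
    | mem y hy =>
      have := Submodule.mem_colon.mp hw y hy
      rwa [smul_eq_mul, mul_comm] at this
    | zero => simp
    | add y₁ y₂ _ _ h₁ h₂ => rw [add_mul]; exact Ideal.add_mem _ h₁ h₂
    | smul s y _ h => rw [smul_eq_mul, mul_assoc]; exact Ideal.mul_mem_left _ _ h
  obtain ⟨a', ha'W, ha'⟩ := exists_sub_mem_span_of_mem_map_colon hm hres (x ^ M) M W hW a hmem
  obtain ⟨c, hc⟩ := Ideal.mem_span_singleton'.mp ha'
  -- a = φ a' + X c
  have hac : a = φ a' + X * c := by
    have : c * X = a - φ a' := hc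
    linear_combination -this
  -- a'^2 ∈ (x^M a', x^(2M))
  have h1 : φ (a' * a') ∈ (Ideal.span {x ^ M * a', x ^ M * x ^ M}).map φ := by
    have e : φ (a' * a') = φ (x ^ M * a') * (1 - 2 * c) + φ (x ^ M * x ^ M) * (c - c * c) := by
      have hsq' := hsq
      rw [hac] at hsq'
      simp only [map_mul]
      linear_combination hsq'
    rw [e]
    apply Ideal.add_mem
    · exact Ideal.mul_mem_right _ _ (Ideal.mem_map_of_mem _ (Ideal.subset_span (by simp)))
    · exact Ideal.mul_mem_right _ _ (Ideal.mem_map_of_mem _ (Ideal.subset_span (by simp)))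
  have h2 : a' * a' ∈ Ideal.span {x ^ M * a', x ^ M * x ^ M} := by
    have := Ideal.comap_map_eq_self_of_faithfullyFlat (B := G)
      (Ideal.span {x ^ M * a', x ^ M * x ^ M})
    rw [← this]
    exact h1
  obtain ⟨α, β, hαβ⟩ := Ideal.mem_span_pair.mp h2
  -- the key identity
  set u : G := 1 - 2 * c - φ α with hu
  set Pc : G := c * c + φ α * c - φ β with hPc
  have hkey : a * u + X * Pc = 0 := by
    apply hreg
    have h3 := congrArg φ hαβ
    simp only [map_add, map_mul] at h3
    have hφa' : φ a' = a - X * c := by rw [hac]; ring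
    rw [hφa'] at h3
    rw [hu, hPc]
    linear_combination (-1 : G) * h3 - (1 : G) * hsq
  by_cases huu : IsUnit u
  · obtain ⟨v, hv⟩ := huu
    rw [Ideal.mem_span_singleton']
    refine ⟨-(Pc * ↑v⁻¹), ?_⟩
    have h4 : a * u = -(X * Pc) := by linear_combination hkey
    have h5 : a = a * u * ↑v⁻¹ := by rw [← hv, mul_assoc, Units.mul_inv, mul_one]
    rw [h5, h4]
    ring
  · -- u ∈ 𝔪
    have hPcm : ¬ IsUnit Pc := by
      intro hPu
      obtain ⟨v, hv⟩ := hPu
      apply hna
      rw [Ideal.mem_span_singleton']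
      refine ⟨-(u * ↑v⁻¹), ?_⟩
      have h4 : X * Pc = -(a * u) := by linear_combination hkey
      have h5 : X = X * Pc * ↑v⁻¹ := by rw [← hv, mul_assoc, Units.mul_inv, mul_one]
      rw [h5, h4]
      ring
    have hu1 : IsUnit (u - 1) := by
      have h6 : IsUnit (1 - u) :=
        (IsLocalRing.isUnit_or_isUnit_one_sub_self u).resolve_left huu
      have : u - 1 = -(1 - u) := by ring
      rw [this]
      exact h6.neg
    obtain ⟨r', hr'⟩ := hres (-c)
    set t : G := -c - φ r' with ht
    have hφr' : φ r' = -c - t := by rw [ht]; ring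
    have htm : ¬ IsUnit t := hr'
    let P : Polynomial H := Polynomial.X ^ 2 - Polynomial.C α * Polynomial.X - Polynomial.C β
    have hPmonic : P.Monic := by
      have hdeg : (Polynomial.C α * Polynomial.X + Polynomial.C β).degree < 2 := by
        refine lt_of_le_of_lt (Polynomial.degree_linear_le) ?_
        norm_num
      have : P = Polynomial.X ^ 2 - (Polynomial.C α * Polynomial.X + Polynomial.C β) := by
        simp only [P]; ring
      rw [this]
      exact Polynomial.monic_X_pow_sub hdeg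
    have hPeval : ∀ r : H, P.eval r = r ^ 2 - α * r - β := by
      intro r; simp [P]
    have hPder : ∀ r : H, P.derivative.eval r = 2 * r - α := by
      intro r
      simp [P]
      left
      norm_num
    have hev : P.eval r' ∈ maximalIdeal H := by
      rw [mem_maximalIdeal, mem_nonunits_iff]
      intro hunit
      have h7 : IsUnit (φ (P.eval r')) := hunit.map φ
      rw [hPeval] at h7
      simp only [map_sub, map_mul, map_pow, hφr'] at h7
      have h8 : (-c - t) ^ 2 - φ α * (-c - t) - φ β = Pc + t * (2 * c + t + φ α) := by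
        rw [hPc]; ring
      rw [h8] at h7
      have h9 : Pc + t * (2 * c + t + φ α) ∈ maximalIdeal G := by
        apply Ideal.add_mem
        · exact hPcm
        · exact Ideal.mul_mem_right _ _ htm
      exact h9 h7
    have hder : IsUnit (P.derivative.eval r') := by
      rw [hPder]
      apply (isUnit_map_iff φ _).mp
      simp only [map_sub, map_mul, map_ofNat, hφr']
      have h8 : 2 * (-c - t) - φ α = (u - 1) + t * (-2) := by rw [hu]; ring
      rw [h8]
      have h9 : t * (-2) ∈ maximalIdeal G := Ideal.mul_mem_right _ _ htm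
      by_contra hcon
      have h10 : (u - 1) + t * (-2) ∈ maximalIdeal G := hcon
      have h11 : u - 1 ∈ maximalIdeal G := by
        have := Ideal.sub_mem _ h10 h9
        simpa using this
      exact h11 hu1
    obtain ⟨r₁, hr₁, -⟩ := HenselianLocalRing.is_henselian P hPmonic r' hev hder
    rw [Polynomial.IsRoot.def, hPeval] at hr₁
    have hprod : (a' - x ^ M * r₁) * (a' - x ^ M * (α - r₁)) = 0 := by
      linear_combination hαβ.symm - (x ^ M * x ^ M) * hr₁
    have ha'x : a' ∈ Ideal.span {x ^ M} := by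
      rcases mul_eq_zero.mp hprod with h | h
      · rw [Ideal.mem_span_singleton']
        exact ⟨r₁, by linear_combination -h⟩
      · rw [Ideal.mem_span_singleton']
        exact ⟨α - r₁, by linear_combination -h⟩
    obtain ⟨d, hd⟩ := Ideal.mem_span_singleton'.mp ha'x
    rw [Ideal.mem_span_singleton']
    refine ⟨φ d + c, ?_⟩
    rw [hac, ← hd, map_mul]
    ring

end Core


section Main

variable {H G : Type u} [CommRing H] [HenselianLocalRing H] [IsDomain H] [IsNoetherianRing H]
  [CommRing G] [IsLocalRing G] [IsNoetherianRing G] [Algebra H G]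
  [Module.Flat H G] [IsLocalHom (algebraMap H G)]

theorem minimalPrimes_eq_singleton
    (hm : (maximalIdeal H).map (algebraMap H G) = maximalIdeal G)
    (hres : ∀ x : G, ∃ y : H, x - algebraMap H G y ∈ maximalIdeal G)
    (Q : Ideal G) (hQ : Q ∈ minimalPrimes G)
    (hQm : Q ≠ maximalIdeal G)
    (hco : ∀ P : Ideal G, P.IsPrime → Q < P → P = maximalIdeal G) :
    minimalPrimes G = {Q} := by
  classical
  by_contra hne
  have hQp : Q.IsPrime := hQ.1.1
  set φ := algebraMap H G with hφ
  -- another minimal prime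
  obtain ⟨Q', hQ', hQ'ne⟩ : ∃ Q' ∈ minimalPrimes G, Q' ≠ Q := by
    by_contra hcon
    push_neg at hcon
    apply hne
    ext P
    constructor
    · intro hP; exact hcon P hP
    · rintro rfl; exact hQ
  have hfin : (minimalPrimes G \ {Q}).Finite :=
    (minimalPrimes.finite_of_isNoetherianRing G).diff
  set T' : Finset (Ideal G) := hfin.toFinset with hT'
  have hT'mem : ∀ P, P ∈ T' ↔ P ∈ minimalPrimes G ∧ P ≠ Q := by
    intro P; simp [hT']
  set J : Ideal G := T'.inf id with hJ
  have hJQ' : J ≤ Q' := Finset.inf_le (f := id) ((hT'mem Q').mpr ⟨hQ', hQ'ne⟩)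
  -- Q ⊓ J ≤ nilradical
  have hQJ : Q ⊓ J ≤ nilradical G := by
    rw [nilradical, ← Ideal.sInf_minimalPrimes]
    refine le_sInf (fun P hP => ?_)
    by_cases hPQ : P = Q
    · rw [hPQ]; exact inf_le_left
    · exact inf_le_right.trans (Finset.inf_le (f := id) ((hT'mem P).mpr ⟨hP, hPQ⟩))
  -- primes containing Q ⊔ J
  have hrad : maximalIdeal G ≤ (Q ⊔ J).radical := by
    rw [Ideal.radical_eq_sInf]
    refine le_sInf ?_
    rintro P ⟨hP1, hP2⟩
    have hQP : Q ≤ P := le_sup_left.trans hP1
    have hJP : J ≤ P := le_sup_right.trans hP1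
    obtain ⟨Q₁, hQ₁, hQ₁P⟩ := (Ideal.IsPrime.inf_le' hP2).mp hJP
    have hQ₁' := (hT'mem Q₁).mp hQ₁
    have hlt : Q < P := by
      refine lt_of_le_of_ne hQP ?_
      rintro rfl
      have : Q ≤ Q₁ := hQ.2 ⟨hQ₁'.1.1.1, bot_le⟩ hQ₁P
      exact hQ₁'.2 (le_antisymm hQ₁P this)
    exact (hco P hP2 hlt).ge
  obtain ⟨n, hn⟩ := Ideal.exists_pow_le_of_le_radical_of_fg hrad
    (IsNoetherian.noetherian (maximalIdeal G))
  obtain ⟨r, hr⟩ := IsNoetherianRing.isNilpotent_nilradical G
  -- I₁ = Q^(r+1), I₂ = J^(r+1)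
  have hI12 : Q ^ (r + 1) * J ^ (r + 1) = ⊥ := by
    rw [← mul_pow]
    have h1 : Q * J ≤ nilradical G := Ideal.mul_le_inf.trans hQJ
    have h2 : (Q * J) ^ (r + 1) ≤ nilradical G ^ (r + 1) := Ideal.pow_right_mono h1 _
    have h3 : nilradical G ^ (r + 1) = ⊥ := by
      rw [pow_succ, hr, Ideal.zero_eq_bot, Ideal.bot_mul]
    rw [h3] at h2
    exact le_bot_iff.mp h2
  set M : ℕ := n * ((r + 1) + (r + 1)) with hM
  have hmM : maximalIdeal G ^ M ≤ Q ^ (r + 1) ⊔ J ^ (r + 1) := by
    rw [hM, pow_mul]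
    exact (Ideal.pow_right_mono hn _).trans Ideal.sup_pow_add_le_pow_sup_pow
  -- a nonzero element of 𝔪_H
  obtain ⟨x, hxm, hx0⟩ : ∃ x ∈ maximalIdeal H, x ≠ 0 := by
    by_contra hcon
    push_neg at hcon
    have hbot : maximalIdeal H = ⊥ := by
      rw [eq_bot_iff]; intro y hy; exact hcon y hy
    have : maximalIdeal G = ⊥ := by rw [← hm, hbot, Ideal.map_bot]
    apply hQm
    rw [this, eq_bot_iff]
    exact this ▸ (IsLocalRing.le_maximalIdeal hQp.ne_top)
  -- φ x is not in any minimal prime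
  have hxnzd : φ x ∈ nonZeroDivisors G := by
    have h1 : x ∈ nonZeroDivisors H := mem_nonZeroDivisors_of_ne_zero hx0
    have h2 := Module.Flat.isSMulRegular_of_nonZeroDivisors (M := G) h1
    rw [mem_nonZeroDivisors_iff_right]
    intro g hg
    apply h2
    change x • g = x • (0 : G)
    rw [smul_zero, Algebra.smul_def, mul_comm]
    exact hg
  have hxmin : ∀ P ∈ minimalPrimes G, φ x ∉ P := fun P hP hxP =>
    Set.disjoint_left.mp (Ideal.disjoint_nonZeroDivisors_of_mem_minimalPrimes hP) hxP hxnzd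
  have hXmin : ∀ P ∈ minimalPrimes G, φ (x ^ M) ∉ P := fun P hP hxP => by
    have : P.IsPrime := hP.1.1
    rw [map_pow] at hxP
    exact hxmin P hP (this.mem_of_pow_mem _ hxP)
  -- decomposition
  have hXmem : φ (x ^ M) ∈ maximalIdeal G ^ M := by
    rw [map_pow]
    apply Ideal.pow_mem_pow
    rw [← hm]
    exact Ideal.mem_map_of_mem _ hxm
  obtain ⟨a, ha, b, hb, hab⟩ := Submodule.mem_sup.mp (hmM hXmem)
  have hI12' : ∀ s ∈ Q ^ (r + 1), ∀ t ∈ J ^ (r + 1), s * t = 0 := by
    intro s hs t ht
    have : s * t ∈ Q ^ (r + 1) * J ^ (r + 1) := Ideal.mul_mem_mul hs ht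
    rw [hI12] at this
    exact this
  have hsq : a * a = φ (x ^ M) * a := by
    rw [← hab, add_mul, mul_comm b a, hI12' a ha b hb, add_zero]
  have hcol : ∀ y ∈ maximalIdeal H ^ M, ∃ z : G, φ y * a = φ (x ^ M) * z := by
    intro y hy
    have hy' : φ y ∈ maximalIdeal G ^ M := by
      rw [← hm, ← Ideal.map_pow]
      exact Ideal.mem_map_of_mem _ hy
    obtain ⟨y₁, hy₁, y₂, hy₂, hy12⟩ := Submodule.mem_sup.mp (hmM hy')
    refine ⟨y₁, ?_⟩
    rw [← hy12, add_mul, mul_comm y₂ a, hI12' a ha y₂ hy₂, add_zero, ← hab, add_mul,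
      mul_comm b y₁, hI12' y₁ hy₁ b hb, add_zero, mul_comm]
  have hQle : Q ^ (r + 1) ≤ Q := Ideal.pow_le_self (Nat.succ_ne_zero r)
  have hJle : J ^ (r + 1) ≤ J := Ideal.pow_le_self (Nat.succ_ne_zero r)
  have hna : φ (x ^ M) ∉ Ideal.span {a} := by
    intro h
    have : Ideal.span {a} ≤ Q := by
      rw [Ideal.span_singleton_le_iff_mem]; exact hQle ha
    exact hXmin Q hQ (this h)
  have hmem := mem_span_of_sq_eq hm hres x hx0 M a hsq hcol hna
  obtain ⟨g, hg⟩ := Ideal.mem_span_singleton'.mp hmem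
  -- g idempotent
  have hreg : ∀ y : G, φ (x ^ M) * y = 0 → y = 0 := by
    intro y hy
    have h1 : φ (x ^ M) ∈ nonZeroDivisors G := by
      rw [map_pow]; exact pow_mem hxnzd M
    exact (mem_nonZeroDivisors_iff_right.mp h1) y (by rwa [mul_comm])
  have hgg : g * g = g := by
    have h1 : φ (x ^ M) * (φ (x ^ M) * (g * g - g)) = 0 := by
      rw [← hg] at hsq
      linear_combination hsq
    have := hreg _ (hreg _ h1)
    linear_combination this
  rcases IsLocalRing.isUnit_or_isUnit_one_sub_self g with hu | hu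
  · -- g = 1
    have h1 : g * (1 - g) = 0 := by rw [mul_sub, mul_one, hgg, sub_self]
    have h2 : 1 - g = 0 := hu.mul_right_eq_zero.mp h1
    have h3 : g = 1 := by linear_combination -h2
    rw [h3, one_mul] at hg
    exact hXmin Q hQ (hg ▸ hQle ha)
  · -- g = 0
    have h1 : (1 - g) * g = 0 := by rw [sub_mul, one_mul, hgg, sub_self]
    have h2 : g = 0 := hu.mul_right_eq_zero.mp h1
    rw [h2, zero_mul] at hg
    have h3 : φ (x ^ M) = b := by rw [← hab, ← hg, zero_add]
    exact hXmin Q' hQ' (h3 ▸ hJQ' (hJle hb))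

end Main


end Groth.Agent.Lib.Helper38.HensBranch
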