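import Groth.Agent.Lib.Helper56.FormalNagata

set_option autoImplicit false
set_option linter.unusedSectionVars false
set_option linter.style.haveILetI false
universe u

/-!
# Nagata property and henselization (helper38)

* `isN2_quotient_of_reduced_tensor`: descent of N-2 for `A ⧸ p` along a faithfully flat Nagata
  extension `A → C` whose fibre over `p` stays reduced after finite extensions of the fraction
  field of `A ⧸ p`.
* `exists_idempotent_of_krullDimLE_zero`: in a reduced zero-dimensional ring every principal ideal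
  is generated by an idempotent.
* `isReduced_tensor_of_zeroDim`: if `S ⊗[R] L` is reduced of dimension zero and `C ⊗[R] L` is
  reduced, then `C ⊗[S] L` is reduced (it is a direct factor-like quotient by idempotents).
* `isAlgebraic_of_integral_fibre`, `isReduced_tensor_cpl`: algebraicity of residue extensions of an
  algebra with integral fibres, and reducedness of `L ⊗[R] Cpl R` from geometrically reduced formal
  fibres.
-/

namespace Groth.Agent.Lib.Helper38.HensNagata
open TensorProduct IsLocalRing Groth.Agent.Lib.Helper56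

/-- Generalisation of helper56's `isN2_quotient_of_hasGeomReducedFormalFibres`: descent of N-2
along a faithfully flat Nagata extension whose fibre over `p` stays reduced after finite
extensions of the residue field. -/
theorem isN2_quotient_of_reduced_tensor (A C : Type u) [CommRing A] [IsNoetherianRing A] [IsLocalRing A]
    [CommRing C] [Algebra A C] [IsNoetherianRing C] [Module.FaithfullyFlat A C]
    (hNagC : CAlg.IsNagata C) (p : Ideal A) [p.IsPrime]
    (hred : ∀ (L : Type u) [Field L] [Algebra (A ⧸ p) L] [Algebra (FractionRing (A ⧸ p)) L]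
      [IsScalarTower (A ⧸ p) (FractionRing (A ⧸ p)) L] [Algebra A L] [IsScalarTower A (A ⧸ p) L],
      FiniteDimensional (FractionRing (A ⧸ p)) L → IsReduced (L ⊗[A] C)) :
    CAlg.IsN2 (A ⧸ p) := by
  intro L _ _ _ _ hfin
  let Ah := (A ⧸ p) ⊗[A] C
  have hsurj := includeRight_quot_surjective A p C
  have hNAh : IsNoetherianRing Ah :=
    isNoetherianRing_of_surjective C Ah
      (Algebra.TensorProduct.includeRight : C →ₐ[A] Ah).toRingHom hsurj
  have hNag : ∀ (q : Ideal Ah) [q.IsPrime], CAlg.IsN2 (Ah ⧸ q) := by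
    intro q _
    let g : C →+* Ah ⧸ q := (Ideal.Quotient.mk q).comp
      (Algebra.TensorProduct.includeRight : C →ₐ[A] Ah).toRingHom
    have hg : Function.Surjective g := Ideal.Quotient.mk_surjective.comp hsurj
    have hker : (RingHom.ker g).IsPrime := RingHom.ker_isPrime g
    exact Groth.Agent.Lib.Helper38.Tate.isN2_of_ringEquiv
      (RingHom.quotientKerEquivOfSurjective hg) (hNagC.2 (RingHom.ker g))
  have hinjL : Function.Injective (algebraMap (A ⧸ p) L) := by
    rw [IsScalarTower.algebraMap_eq (A ⧸ p) (FractionRing (A ⧸ p)) L]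
    exact (algebraMap (FractionRing (A ⧸ p)) L).injective.comp
      (IsFractionRing.injective (A ⧸ p) (FractionRing (A ⧸ p)))
  let _ : Algebra A L := ((algebraMap (A ⧸ p) L).comp (algebraMap A (A ⧸ p))).toAlgebra
  have hst1 : IsScalarTower A (A ⧸ p) L := IsScalarTower.of_algebraMap_eq (fun _ => rfl)
  have hred2 : IsReduced (L ⊗[A] C) := hred L hfin
  have hred3 : IsReduced (L ⊗[A ⧸ p] Ah) :=
    isReduced_of_injective (Algebra.TensorProduct.cancelBaseChange A (A ⧸ p) (A ⧸ p) L C)
      (Algebra.TensorProduct.cancelBaseChange A (A ⧸ p) (A ⧸ p) L C).injective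
  have hred4 : IsReduced (Ah ⊗[A ⧸ p] L) :=
    isReduced_of_injective (Algebra.TensorProduct.comm (A ⧸ p) Ah L)
      (Algebra.TensorProduct.comm (A ⧸ p) Ah L).injective
  have hredAh : IsReduced Ah :=
    isReduced_of_injective (Algebra.TensorProduct.includeLeft : Ah →ₐ[A ⧸ p] Ah ⊗[A ⧸ p] L)
      (Algebra.TensorProduct.includeLeft_injective hinjL)
  have hred5 : IsReduced (FractionRing Ah ⊗[A ⧸ p] L) :=
    isReduced_fractionRing_tensor (A ⧸ p) Ah L hred4
  exact Groth.Agent.Lib.Helper38.AnUnram.finite_integralClosure_of_tensor_reduced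
    (A ⧸ p) Ah L (FractionRing Ah) hNag hred5

/-- In a reduced zero-dimensional ring every principal ideal is generated by an idempotent. -/
theorem exists_idempotent_of_krullDimLE_zero (T : Type u) [CommRing T] [IsReduced T]
    [Ring.KrullDimLE 0 T] (t : T) :
    ∃ e : T, e * e = e ∧ e ∈ Ideal.span {t} ∧ e * t = t := by
  have htop : (⊥ : Ideal T).colon {t} ⊔ Ideal.span {t} = ⊤ := by
    by_contra hne
    obtain ⟨𝔪, h𝔪, hle⟩ := Ideal.exists_le_maximal _ hne
    have h𝔪p : 𝔪.IsPrime := h𝔪.isPrime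
    have hmin : 𝔪 ∈ minimalPrimes T :=
      Ring.KrullDimLE.mem_minimalPrimes_iff_le_of_isPrime.mpr bot_le
    have hK : Ring.KrullDimLE 0 (Localization.AtPrime 𝔪) :=
      Ring.KrullDimLE.of_isLocalization 𝔪 hmin _
    have hF : IsField (Localization.AtPrime 𝔪) := Ring.KrullDimLE.isField_of_isReduced
    have hbot : maximalIdeal (Localization.AtPrime 𝔪) = ⊥ :=
      IsLocalRing.isField_iff_maximalIdeal_eq.mp hF
    have ht𝔪 : t ∈ 𝔪 := hle (Ideal.mem_sup_right (Ideal.mem_span_singleton_self t))
    have h1 : algebraMap T (Localization.AtPrime 𝔪) t ∈ maximalIdeal (Localization.AtPrime 𝔪) :=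
      (IsLocalization.AtPrime.to_map_mem_maximal_iff (Localization.AtPrime 𝔪) 𝔪 t).mpr ht𝔪
    rw [hbot, Ideal.mem_bot] at h1
    obtain ⟨s, hs⟩ := (IsLocalization.map_eq_zero_iff 𝔪.primeCompl _ t).mp h1
    have hs' : (s : T) ∈ (⊥ : Ideal T).colon {t} := by
      rw [Submodule.mem_colon_singleton, smul_eq_mul, Ideal.mem_bot]
      exact hs
    exact s.2 (hle (Ideal.mem_sup_left hs'))
  have h1 : (1 : T) ∈ (⊥ : Ideal T).colon {t} ⊔ Ideal.span {t} := htop ▸ Submodule.mem_top
  obtain ⟨a, ha, c, hc, hac⟩ := Submodule.mem_sup.mp h1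
  obtain ⟨b, rfl⟩ := Ideal.mem_span_singleton'.mp hc
  have hat : a * t = 0 := by
    rw [Submodule.mem_colon_singleton, smul_eq_mul, Ideal.mem_bot] at ha
    exact ha
  have ht : t = b * t * t := by
    calc t = (a + b * t) * t := by rw [hac, one_mul]
      _ = a * t + b * t * t := by ring
      _ = b * t * t := by rw [hat, zero_add]
  refine ⟨b * t, ?_, Ideal.mem_span_singleton'.mpr ⟨b, rfl⟩, ht.symm⟩
  calc b * t * (b * t) = b * (b * t * t) := by ring
    _ = b * t := by rw [← ht]

theorem isReduced_tensor_of_zeroDim (R S C L : Type u) [CommRing R] [CommRing S] [Algebra R S]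
    [CommRing C] [Algebra S C] [Algebra R C] [IsScalarTower R S C] [Field L] [Algebra S L]
    [Algebra R L] [IsScalarTower R S L]
    (hT_red : IsReduced (S ⊗[R] L)) (hT_dim : Ring.KrullDimLE 0 (S ⊗[R] L))
    (hW : IsReduced (C ⊗[R] L)) : IsReduced (C ⊗[S] L) := by
  let μ' : S ⊗[R] L →ₐ[S] L :=
    Algebra.TensorProduct.lift (Algebra.ofId S L) (AlgHom.id R L) (fun _ _ => Commute.all _ _)
  have hμ'tmul : ∀ (s : S) (l : L), μ' (s ⊗ₜ l) = algebraMap S L s * l := by
    intro s l
    simp [μ', Algebra.ofId_apply]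
  have hsurj : Function.Surjective μ' := by
    intro l
    exact ⟨1 ⊗ₜ l, by rw [hμ'tmul, map_one, one_mul]⟩
  have hW' : IsReduced (C ⊗[S] (S ⊗[R] L)) :=
    isReduced_of_injective (Algebra.TensorProduct.cancelBaseChange R S S C L)
      (Algebra.TensorProduct.cancelBaseChange R S S C L).injective
  let Φ : C ⊗[S] (S ⊗[R] L) →ₐ[S] C ⊗[S] L := Algebra.TensorProduct.map (AlgHom.id S C) μ'
  have hker : RingHom.ker Φ = (RingHom.ker μ').map
      (Algebra.TensorProduct.includeRight : S ⊗[R] L →ₐ[S] C ⊗[S] (S ⊗[R] L)) :=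
    Algebra.TensorProduct.lTensor_ker (A := C) μ' hsurj
  have hΦsurj : Function.Surjective Φ :=
    Algebra.TensorProduct.map_surjective (AlgHom.id S C) μ' (fun x => ⟨x, rfl⟩) hsurj
  have hind : ∀ x ∈ (RingHom.ker μ').map
      (Algebra.TensorProduct.includeRight : S ⊗[R] L →ₐ[S] C ⊗[S] (S ⊗[R] L)),
      ∃ e : S ⊗[R] L, e * e = e ∧ μ' e = 0 ∧ ((1 : C) ⊗ₜ[S] e) * x = x := by
    intro x hx
    rw [Ideal.map] at hx
    induction hx using Submodule.span_induction with
    | mem y hy =>
      obtain ⟨t, ht, rfl⟩ := hy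
      obtain ⟨e, he1, he2, he3⟩ := exists_idempotent_of_krullDimLE_zero (S ⊗[R] L) t
      obtain ⟨b, rfl⟩ := Ideal.mem_span_singleton'.mp he2
      refine ⟨b * t, he1, ?_, ?_⟩
      · rw [map_mul, (RingHom.mem_ker).mp ht, mul_zero]
      · change ((1 : C) ⊗ₜ[S] (b * t)) * ((1 : C) ⊗ₜ[S] t) = (1 : C) ⊗ₜ[S] t
        rw [Algebra.TensorProduct.tmul_mul_tmul, one_mul, he3]
    | zero => exact ⟨0, by simp, by simp, by simp⟩
    | add y z _ _ hy hz =>
      obtain ⟨e₁, h11, h12, h13⟩ := hy
      obtain ⟨e₂, h21, h22, h23⟩ := hz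
      refine ⟨e₁ + e₂ - e₁ * e₂, ?_, ?_, ?_⟩
      · linear_combination (1 - e₂) ^ 2 * h11 + (1 - e₁) * h21
      · rw [map_sub, map_add, map_mul, h12, h22]; simp
      · have he₁ : (e₁ + e₂ - e₁ * e₂) * e₁ = e₁ := by
          linear_combination (1 - e₂) * h11
        have he₂ : (e₁ + e₂ - e₁ * e₂) * e₂ = e₂ := by
          linear_combination (1 - e₁) * h21
        rw [mul_add]
        conv_lhs => rw [← h13, ← h23]
        rw [← mul_assoc, ← mul_assoc, Algebra.TensorProduct.tmul_mul_tmul,
          Algebra.TensorProduct.tmul_mul_tmul, one_mul, he₁, he₂, h13, h23]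
    | smul a y _ hy =>
      obtain ⟨e, h1, h2, h3⟩ := hy
      refine ⟨e, h1, h2, ?_⟩
      rw [smul_eq_mul, mul_left_comm, h3]
  constructor
  intro z hz
  obtain ⟨n, hn⟩ := hz
  obtain ⟨w, rfl⟩ := hΦsurj z
  have hwn : w ^ n ∈ RingHom.ker Φ := by
    rw [RingHom.mem_ker, map_pow]; exact hn
  rw [hker] at hwn
  obtain ⟨e, he1, he2, he3⟩ := hind _ hwn
  rcases Nat.eq_zero_or_pos n with h0 | hpos
  · rw [h0, pow_zero] at hn
    calc Φ w = Φ w * 1 := (mul_one _).symm
      _ = 0 := by rw [hn, mul_zero]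
  set f : C ⊗[S] (S ⊗[R] L) := (1 : C) ⊗ₜ[S] (1 - e) with hf
  have hfe : f = 1 - (1 : C) ⊗ₜ[S] e := by
    rw [hf, TensorProduct.tmul_sub]; rfl
  have hff : f * f = f := by
    rw [hf, Algebra.TensorProduct.tmul_mul_tmul, one_mul]
    congr 1
    linear_combination he1
  have hfw : f * w ^ n = 0 := by
    rw [hfe, sub_mul, one_mul, he3, sub_self]
  have hfpow : f ^ n = f := by
    obtain ⟨m, rfl⟩ := Nat.exists_eq_succ_of_ne_zero hpos.ne'
    exact (IsIdempotentElem.pow_succ_eq m hff)
  have hnil : IsNilpotent (f * w) := ⟨n, by rw [mul_pow, hfpow, hfw]⟩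
  have hfw0 : f * w = 0 := hnil.eq_zero
  have hw : w = ((1 : C) ⊗ₜ[S] e) * w := by
    have : w = f * w + ((1 : C) ⊗ₜ[S] e) * w := by rw [hfe]; ring
    rw [hfw0, zero_add] at this
    exact this
  rw [hw, map_mul]
  have : Φ ((1 : C) ⊗ₜ[S] e) = 0 := by
    simp only [Φ, Algebra.TensorProduct.map_tmul, he2, TensorProduct.tmul_zero]
  rw [this, zero_mul]


/-- If `K ⊗[R] S` is integral over the field `K`, `D` is a quotient of `S` embedded in a field `L`
which is algebraic over `D`, then `L` is algebraic over `K`. -/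
theorem isAlgebraic_of_integral_fibre (R S K L : Type u) [CommRing R] [CommRing S] [Algebra R S]
    [Field K] [Algebra R K] [Field L] [Algebra S L] [Algebra R L] [IsScalarTower R S L]
    [Algebra K L] [IsScalarTower R K L]
    (hint : Algebra.IsIntegral K (K ⊗[R] S))
    (D : Type u) [CommRing D] [Algebra S D] [Algebra D L] [IsScalarTower S D L]
    (hsurj : Function.Surjective (algebraMap S D)) (hinj : Function.Injective (algebraMap D L))
    (halg : Algebra.IsAlgebraic D L) : Algebra.IsAlgebraic K L := by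
  let φ : K ⊗[R] S →ₐ[K] L :=
    Algebra.TensorProduct.lift (Algebra.ofId K L) (IsScalarTower.toAlgHom R S L)
      (fun _ _ => Commute.all _ _)
  let E : Subalgebra K L := φ.range
  have hE : ∀ d : D, algebraMap D L d ∈ E := by
    intro d
    obtain ⟨s, rfl⟩ := hsurj d
    refine ⟨1 ⊗ₜ s, ?_⟩
    simp [φ, ← IsScalarTower.algebraMap_apply]
  have hEint : Algebra.IsIntegral K E :=
    Algebra.IsIntegral.of_surjective φ.rangeRestrict φ.rangeRestrict_surjective
  letI : Algebra D E := ((algebraMap D L).codRestrict E hE).toAlgebra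
  haveI : IsScalarTower D E L := IsScalarTower.of_algebraMap_eq (fun _ => rfl)
  have hinjE : Function.Injective (algebraMap D E) := fun a b h => hinj (congrArg Subtype.val h)
  haveI : Algebra.IsAlgebraic E L := ⟨fun l => (halg.isAlgebraic l).extendScalars hinjE⟩
  haveI : Algebra.IsAlgebraic K E := hEint.isAlgebraic
  exact Algebra.IsAlgebraic.trans K E L

/-- If `R` has geometrically reduced formal fibres, `S` is an `R`-algebra with integral fibres
over fields and `L` is a finite extension of the fraction field of `S ⧸ q`, then `L ⊗[R] Cpl R`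
is reduced. -/
theorem isReduced_tensor_cpl (R S : Type u) [CommRing R] [IsLocalRing R] [CommRing S] [Algebra R S]
    (hG : EGA4.HasGeomReducedFormalFibres R)
    (hint : ∀ (K : Type u) [Field K] [Algebra R K], Algebra.IsIntegral K (K ⊗[R] S))
    (q : Ideal S) [q.IsPrime] (L : Type u) [Field L] [Algebra (S ⧸ q) L]
    [Algebra (FractionRing (S ⧸ q)) L] [IsScalarTower (S ⧸ q) (FractionRing (S ⧸ q)) L]
    [Algebra S L] [IsScalarTower S (S ⧸ q) L] [Algebra R L] [IsScalarTower R S L]
    (hfin : FiniteDimensional (FractionRing (S ⧸ q)) L) :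
    IsReduced (L ⊗[R] EGA4.Cpl R) := by
  let p : Ideal R := RingHom.ker (algebraMap R L)
  haveI hp : p.IsPrime := RingHom.ker_isPrime _
  let κ := p.ResidueField
  let _ : Algebra (R ⧸ p) L :=
    (Ideal.Quotient.lift p (algebraMap R L) (fun a ha => ha)).toAlgebra
  have hst1 : IsScalarTower R (R ⧸ p) L := IsScalarTower.of_algebraMap_eq (fun _ => rfl)
  have hinjL : Function.Injective (algebraMap (R ⧸ p) L) := by
    rw [injective_iff_map_eq_zero]
    intro x hx
    obtain ⟨a, rfl⟩ := Ideal.Quotient.mk_surjective x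
    exact Ideal.Quotient.eq_zero_iff_mem.mpr hx
  let _ : Algebra κ L := (IsFractionRing.lift (K := κ) hinjL).toAlgebra
  have hst2 : IsScalarTower (R ⧸ p) κ L :=
    IsScalarTower.of_algebraMap_eq (fun x => (IsFractionRing.lift_algebraMap hinjL x).symm)
  have hst3 : IsScalarTower R κ L := by
    refine IsScalarTower.of_algebraMap_eq (fun x => ?_)
    rw [IsScalarTower.algebraMap_apply R (R ⧸ p) L, IsScalarTower.algebraMap_apply (R ⧸ p) κ L,
      ← IsScalarTower.algebraMap_apply R (R ⧸ p) κ]
  have hinjD : Function.Injective (algebraMap (S ⧸ q) L) := by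
    rw [IsScalarTower.algebraMap_eq (S ⧸ q) (FractionRing (S ⧸ q)) L]
    exact (algebraMap (FractionRing (S ⧸ q)) L).injective.comp
      (IsFractionRing.injective (S ⧸ q) (FractionRing (S ⧸ q)))
  have halgK : Algebra.IsAlgebraic (FractionRing (S ⧸ q)) L := Algebra.IsAlgebraic.of_finite _ _
  have halgD : Algebra.IsAlgebraic (S ⧸ q) L :=
    (IsFractionRing.comap_isAlgebraic_iff (A := S ⧸ q) (K := FractionRing (S ⧸ q)) (C := L)).mpr
      halgK
  have halgκ : Algebra.IsAlgebraic κ L :=
    isAlgebraic_of_integral_fibre R S κ L (hint κ) (S ⧸ q) Ideal.Quotient.mk_surjective hinjD halgD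
  have hgr : Algebra.IsGeometricallyReduced κ (κ ⊗[R] EGA4.Cpl R) := hG p
  have hred1 : IsReduced (L ⊗[κ] (κ ⊗[R] EGA4.Cpl R)) := inferInstance
  exact isReduced_of_injective (Algebra.TensorProduct.cancelBaseChange R κ κ L (EGA4.Cpl R)).symm
    (Algebra.TensorProduct.cancelBaseChange R κ κ L (EGA4.Cpl R)).symm.injective

end Groth.Agent.Lib.Helper38.HensNagata
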