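import Groth.Agent.Lib.Helper35.ResProp3
import Groth.Agent.Lib.Helper35.TensorInv
import Groth.Agent.Lib.Lead.Inv6
import Groth.Agent.Lib.Lead.Ample1

/-!
# Finitely many global sections of a twist generate, with the twist an explicit (large) power
(variant of `Helper35.ResProp.exists_finite_locSpan` remembering the exponent)
-/

set_option autoImplicit false
universe u

open AlgebraicGeometry CategoryTheory Opposite TopologicalSpace MonoidalCategory Limits

namespace Groth.Agent.Lib.Helper38.LocSpanPow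

open Groth.Agent.Lib.Lead.QCohAff Groth.Agent.Lib.Helper35.GlobGen Groth.Agent.Lib.Lead.Inv
open Groth.Agent.Lib.Helper60.TensorLib Groth.Agent.Lib.Helper35.ResProp

variable {X : Scheme.{u}}

open Groth.Agent.Lib.Lead.CohAff in
/-- **Serre, finite form with explicit exponent**: for `L` ample, `M` quasi-coherent of finite type
and any bound `b` there are `m > 0` and `K ≥ b` such that `M ⊗ (L^m)^K` is generated by finitely
many global sections. -/
theorem exists_finite_locSpan_pow {L : X.Modules} (hL : CohB1.IsAmple L) (M : X.Modules)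
    (hM : Coh.IsCoh M) (b : ℕ) :
    ∃ (m K : ℕ) (_ : 0 < m) (_ : b ≤ K) (k : ℕ)
      (σ : Fin k → Γ(CohB1.tensorMod M (CohB1.tensorPow (CohB1.tensorPow L m) K), ⊤)),
      LocSpan (CohB1.tensorMod M (CohB1.tensorPow (CohB1.tensorPow L m) K)) σ := by
  obtain ⟨m, hm, ι, hfin, s, haff, hcov⟩ := exists_finite_cover_common_exponent hL
  have hInv := hL.1
  have := hL.2.1
  have : QuasiSeparatedSpace X :=
    Groth.Agent.Lib.Helper35.Ample.quasiSeparatedSpace_of_cover_genLocus hInv hL.2.2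
  have hInvm := isInvertible_tensorPow hInv m
  have := hM.1
  have fin : ∀ i, Module.Finite Γ(X, CohB1.genLocus _ (s i)) Γ(M, CohB1.genLocus _ (s i)) :=
    fun i => finite_sections_of_isFiniteType M hM.2 (haff i)
  choose T hT using (fun i => (fin i).fg_top)
  have h1 : ∀ i, ∃ n₀ : ℕ, ∀ n, n₀ ≤ n → ∀ τ ∈ T i,
      ∃ t' : Γ(CohB1.tensorMod M (CohB1.tensorPow (CohB1.tensorPow L m) n), ⊤),
      (CohB1.tensorMod M (CohB1.tensorPow (CohB1.tensorPow L m) n)).presheaf.map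
        (homOfLE (le_top : CohB1.genLocus _ (s i) ≤ ⊤)).op t' =
        tmul M (CohB1.tensorPow (CohB1.tensorPow L m) n) τ
          (genPow (val (s i) (CohB1.genLocus _ (s i))) n) :=
    fun i => exists_uniform_finset (T i) _ (fun τ _ => exists_twist_extends_ge hInvm (s i) M τ)
  obtain ⟨k₁, hk₁⟩ := exists_uniform_finite _ h1
  obtain ⟨k₀, hk₀b, hk₀k⟩ : ∃ k₀ : ℕ, b ≤ k₀ ∧ k₁ ≤ k₀ := ⟨max b k₁, le_max_left _ _, le_max_right _ _⟩
  have h2 := hk₁ k₀ hk₀k
  choose t' ht' using h2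
  let κ : Type u := Σ i : ι, {τ // τ ∈ T i}
  haveI : Finite κ := inferInstance
  let σ₀ : κ → Γ(CohB1.tensorMod M (CohB1.tensorPow (CohB1.tensorPow L m) k₀), ⊤) :=
    fun j => t' j.1 j.2.1 j.2.2
  have hσ₀ : LocSpan _ σ₀ := by
    intro U t x hxU
    obtain ⟨i, hi⟩ := hcov x
    have hTi : Submodule.span Γ(X, CohB1.genLocus _ (s i))
        (Set.range fun τ : {τ // τ ∈ T i} => (τ.1 : Γ(M, CohB1.genLocus _ (s i)))) = ⊤ := by
      rw [← hT i]
      congr 1
      ext z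
      simp
    obtain ⟨W, hW, hxW, hmem⟩ := spanGen_local_fin M (s i) (haff i) k₀
      (fun τ : {τ // τ ∈ T i} => (τ.1 : Γ(M, CohB1.genLocus _ (s i)))) hTi
      (fun τ => t' i τ.1 τ.2) (fun τ => ht' i τ.1 τ.2) U t x hxU hi
    refine ⟨W, hW, hxW, Submodule.span_mono ?_ hmem⟩
    rintro _ ⟨τ, rfl⟩
    exact ⟨⟨i, τ⟩, rfl⟩
  obtain ⟨k, ⟨e⟩⟩ := Finite.exists_equiv_fin κ
  refine ⟨m, k₀, hm, hk₀b, k, σ₀ ∘ e.symm, ?_⟩
  intro U t x hxU
  obtain ⟨W, hW, hxW, hmem⟩ := hσ₀ U t x hxU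
  refine ⟨W, hW, hxW, Submodule.span_mono ?_ hmem⟩
  rintro _ ⟨j, rfl⟩
  exact ⟨e j, by simp⟩

/-- For an ample `L` with tensor inverse `M'`, every coherent `F` is a quotient of a finite direct
sum of copies of `M'^{⊗ a}` with `a` as large as we like. -/
theorem exists_epi_sigma_tensorPow_inverse {L M' : X.Modules} (hL : CohB1.IsAmple L)
    (hM' : ClSub.IsInverseOf M' L) (F : X.Modules) (hF : Coh.IsCoh F) (b : ℕ) :
    ∃ (a : ℕ) (_ : b ≤ a) (k : ℕ) (π : (∐ fun _ : Fin k => CohB1.tensorPow M' a) ⟶ F), Epi π := by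
  obtain ⟨e₀⟩ := hM'
  have hInvL := hL.1
  have hInvM : PicF.IsInvertible M' :=
    Groth.Agent.Lib.Helper35.TensorInv.isInvertible_of_tensor_iso M' L e₀
  obtain ⟨m, K, hm, hK, k, σ, hσ⟩ := exists_finite_locSpan_pow hL F hF b
  -- L^a ⊗ M'^a ≅ O for a = m * K
  obtain ⟨c⟩ := nonempty_comm L M'
  obtain ⟨e1⟩ := nonempty_tensorPow_tensorMod hInvL hInvM (m * K)
  obtain ⟨e2⟩ := Groth.Agent.Lib.Lead.Inv.nonempty_tensorPow_congr (c ≪≫ e₀) (m * K)
  obtain ⟨e3⟩ := Groth.Agent.Lib.Lead.Inv.nonempty_tensorPow_unit (X := X) (m * K)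
  obtain ⟨e4⟩ := nonempty_tensorPow_mul hInvL m K
  let e : CohB1.tensorMod (CohB1.tensorPow (CohB1.tensorPow L m) K) (CohB1.tensorPow M' (m * K)) ≅
      Coh.structureModule X :=
    tensorModCongrLeft e4 _ ≪≫ e1.symm ≪≫ e2 ≪≫ e3
  obtain ⟨π, hπ⟩ := exists_epi_sigma_of_locSpan F _ (CohB1.tensorPow M' (m * K))
    (isInvertible_tensorPow (isInvertible_tensorPow hInvL m) K) (isInvertible_tensorPow hInvM (m * K))
    e k σ hσ
  refine ⟨m * K, ?_, k, π, hπ⟩
  calc b ≤ K := hK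
    _ = 1 * K := (one_mul K).symm
    _ ≤ m * K := Nat.mul_le_mul_right K hm

end Groth.Agent.Lib.Helper38.LocSpanPow
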