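import Mathlib

/-!
# Local finite subalgebras with prescribed fraction field (helper38)

`exists_local_subalgebra`: for a Noetherian local domain `Rb` (not a field) and a finite extension
`L` of its fraction field there is a subalgebra `S = Rb + t O ⊆ L`, finite over `Rb`, LOCAL, with
fraction field `L`, in which the elements of the maximal ideal of `Rb` stay non-units
(Stacks 0BI2 trick).
-/

set_option autoImplicit false
universe u

namespace Groth.Agent.Lib.Helper38.LocalSub

open IsLocalRing

/-- Construction of a LOCAL finite subalgebra with prescribed fraction field (Stacks 0BI2 trick):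
`S = R + t O` with `O` a finite subalgebra and `t` in the maximal ideal. -/
theorem exists_local_subalgebra (Rb : Type u) [CommRing Rb] [IsDomain Rb] [IsLocalRing Rb]
    [IsNoetherianRing Rb] (hnf : maximalIdeal Rb ≠ ⊥)
    (L : Type u) [Field L] [Algebra Rb L] [Algebra (FractionRing Rb) L]
    [IsScalarTower Rb (FractionRing Rb) L] [FiniteDimensional (FractionRing Rb) L] :
    ∃ S : Subalgebra Rb L, Module.Finite Rb S ∧ IsFractionRing S L ∧ IsLocalRing S ∧
      (∀ r ∈ maximalIdeal Rb, ¬ IsUnit (algebraMap Rb S r)) := by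
  classical
  let K := FractionRing Rb
  obtain ⟨s, b, hb⟩ := FiniteDimensional.exists_is_basis_integral Rb K L
  obtain ⟨t, htm, ht0⟩ := Submodule.exists_mem_ne_zero_of_ne_bot hnf
  have hinjL : Function.Injective (algebraMap Rb L) := by
    rw [IsScalarTower.algebraMap_eq Rb K L]
    exact (algebraMap K L).injective.comp (IsFractionRing.injective Rb K)
  let O : Subalgebra Rb L := Algebra.adjoin Rb (Set.range b)
  have hOfg : O.toSubmodule.FG :=
    fg_adjoin_of_finite (Set.finite_range b) (by rintro _ ⟨i, rfl⟩; exact hb i)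
  have hOfin : Module.Finite Rb O := Module.Finite.iff_fg.mpr hOfg
  have hOint : Algebra.IsIntegral Rb O := Algebra.IsIntegral.of_finite Rb O
  let t' : L := algebraMap Rb L t
  have ht'O : t' ∈ O := O.algebraMap_mem t
  let S : Subalgebra Rb L :=
    { carrier := {x | ∃ r : Rb, ∃ o ∈ O, x = algebraMap Rb L r + t' * o}
      mul_mem' := by
        rintro _ _ ⟨r₁, o₁, ho₁, rfl⟩ ⟨r₂, o₂, ho₂, rfl⟩
        refine ⟨r₁ * r₂, algebraMap Rb L r₁ * o₂ + algebraMap Rb L r₂ * o₁ + t' * o₁ * o₂, ?_, ?_⟩
        · exact O.add_mem (O.add_mem (O.mul_mem (O.algebraMap_mem _) ho₂)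
            (O.mul_mem (O.algebraMap_mem _) ho₁)) (O.mul_mem (O.mul_mem ht'O ho₁) ho₂)
        · rw [map_mul]; ring
      one_mem' := ⟨1, 0, O.zero_mem, by simp⟩
      add_mem' := by
        rintro _ _ ⟨r₁, o₁, ho₁, rfl⟩ ⟨r₂, o₂, ho₂, rfl⟩
        exact ⟨r₁ + r₂, o₁ + o₂, O.add_mem ho₁ ho₂, by rw [map_add]; ring⟩
      zero_mem' := ⟨0, 0, O.zero_mem, by simp⟩
      algebraMap_mem' := fun r => ⟨r, 0, O.zero_mem, by simp⟩ }
  have hSmem : ∀ x : L, x ∈ S ↔ ∃ r : Rb, ∃ o ∈ O, x = algebraMap Rb L r + t' * o := fun x => Iff.rfl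
  have hSO : S ≤ O := by
    rintro _ ⟨r, o, ho, rfl⟩
    exact O.add_mem (O.algebraMap_mem r) (O.mul_mem ht'O ho)
  -- finiteness
  have hSfin : Module.Finite Rb S := by
    have hN : IsNoetherian Rb O.toSubmodule := isNoetherian_of_fg_of_noetherian _ hOfg
    have hle : S.toSubmodule ≤ O.toSubmodule := hSO
    have hN' : IsNoetherian Rb S.toSubmodule := isNoetherian_of_le hle
    exact Module.IsNoetherian.finite Rb S.toSubmodule
  -- `t` lies in every maximal ideal of `O`
  have hO_nontriv : Nontrivial O := inferInstance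
  have hJ1 : ∀ r ∈ maximalIdeal Rb, ∀ (M : Ideal O), M.IsMaximal → algebraMap Rb O r ∈ M := by
    intro r hr M hM
    have h1 : (M.comap (algebraMap Rb O)).IsMaximal :=
      Ideal.isMaximal_comap_of_isIntegral_of_isMaximal M
    have h2 := IsLocalRing.eq_maximalIdeal h1
    have : r ∈ M.comap (algebraMap Rb O) := h2 ▸ hr
    exact this
  have hJ2 : ∀ o : O, IsUnit (algebraMap Rb O t * o + 1) := by
    have : algebraMap Rb O t ∈ Ideal.jacobson (⊥ : Ideal O) := by
      rw [Ideal.jacobson, Ideal.mem_sInf]
      rintro M ⟨-, hM⟩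
      exact hJ1 t htm M hM
    exact Ideal.mem_jacobson_bot.mp this
  -- units
  have hunit : ∀ (r : Rb), IsUnit r → ∀ o ∈ O, ∀ (h : algebraMap Rb L r + t' * o ∈ S),
      IsUnit (⟨algebraMap Rb L r + t' * o, h⟩ : S) := by
    intro r hr o ho h
    obtain ⟨u, hu⟩ := hr.exists_left_inv
    obtain ⟨v, hv⟩ := (hJ2 (algebraMap Rb O u * ⟨o, ho⟩)).exists_right_inv
    have hv' : (algebraMap Rb L t * (algebraMap Rb L u * o) + 1) * (v : L) = 1 := by
      have := congrArg Subtype.val hv
      simpa using this
    have huL : algebraMap Rb L u * algebraMap Rb L r = 1 := by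
      rw [← map_mul, hu, map_one]
    have hmem : algebraMap Rb L u * (v : L) ∈ S := by
      refine ⟨u, -(algebraMap Rb L u * (algebraMap Rb L u * o * (v : L))), ?_, ?_⟩
      · exact O.neg_mem (O.mul_mem (O.algebraMap_mem u)
          (O.mul_mem (O.mul_mem (O.algebraMap_mem u) ho) v.2))
      · have hv1 : (v : L) = 1 - algebraMap Rb L t * (algebraMap Rb L u * o) * (v : L) := by
          linear_combination hv'
        calc algebraMap Rb L u * (v : L)
            = algebraMap Rb L u * (1 - algebraMap Rb L t * (algebraMap Rb L u * o) * (v : L)) := by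
              rw [← hv1]
          _ = _ := by ring
    rw [isUnit_iff_exists_inv]
    refine ⟨⟨_, hmem⟩, Subtype.ext ?_⟩
    show (algebraMap Rb L r + t' * o) * (algebraMap Rb L u * (v : L)) = 1
    have hur : algebraMap Rb L r * algebraMap Rb L u = 1 := by rw [mul_comm]; exact huL
    linear_combination (v : L) * hur + hv'
  -- locality
  have hlocal : IsLocalRing S := by
    apply IsLocalRing.of_isUnit_or_isUnit_one_sub_self
    rintro ⟨x, hx⟩
    obtain ⟨r, o, ho, rfl⟩ := hx
    by_cases hr : IsUnit r
    · left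
      exact hunit r hr o ho _
    · right
      have hr1 : IsUnit (1 - r) := IsLocalRing.isUnit_one_sub_self_of_mem_nonunits r hr
      have hmem : algebraMap Rb L (1 - r) + t' * (-o) ∈ S := ⟨1 - r, -o, O.neg_mem ho, rfl⟩
      have := hunit (1 - r) hr1 (-o) (O.neg_mem ho) hmem
      convert this using 1
      apply Subtype.ext
      show (1 : L) - (algebraMap Rb L r + t' * o) = algebraMap Rb L (1 - r) + t' * (-o)
      rw [map_sub, map_one]; ring
  -- non-units
  have hnonunit : ∀ r ∈ maximalIdeal Rb, ¬ IsUnit (algebraMap Rb S r) := by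
    intro r hr hu
    have hu' : IsUnit (algebraMap Rb O r) := by
      have := hu.map (Subalgebra.inclusion hSO)
      convert this using 1
      exact ((Subalgebra.inclusion hSO).commutes r).symm
    obtain ⟨M, hM⟩ := Ideal.exists_maximal O
    exact hM.ne_top (Ideal.eq_top_of_isUnit_mem M (hJ1 r hr M hM) hu')
  -- fraction ring
  have hfrac : IsFractionRing S L := by
    rw [IsFractionRing, isLocalization_iff]
    refine ⟨?_, ?_, ?_⟩
    · rintro ⟨y, hy⟩
      have hy0 : y ≠ 0 := nonZeroDivisors.ne_zero hy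
      have : (y : L) ≠ 0 := fun h => hy0 (Subtype.ext h)
      exact this.isUnit
    · intro l
      obtain ⟨d, hd⟩ := IsLocalization.exist_integer_multiples (nonZeroDivisors Rb) Finset.univ
        (fun i => b.repr l i)
      have hdl : algebraMap Rb L (d : Rb) * l ∈ O := by
        have hl : l = ∑ i, b.repr l i • b i := (b.sum_repr l).symm
        rw [hl, Finset.mul_sum]
        refine O.sum_mem fun i _ => ?_
        obtain ⟨e, he⟩ := hd i (Finset.mem_univ i)
        have : algebraMap Rb L (d : Rb) * (b.repr l i • b i) = algebraMap Rb L e * b i := by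
          rw [IsScalarTower.algebraMap_apply Rb K L e, he, Algebra.smul_def, Algebra.smul_def,
            map_mul, IsScalarTower.algebraMap_apply Rb K L (d : Rb)]
          ring
        rw [this]
        exact O.mul_mem (O.algebraMap_mem e) (Algebra.subset_adjoin ⟨i, rfl⟩)
      have hd0 : (d : Rb) ≠ 0 := nonZeroDivisors.ne_zero d.2
      have htd : algebraMap Rb S (t * d) ∈ nonZeroDivisors S := by
        apply mem_nonZeroDivisors_of_ne_zero
        intro h
        have := congrArg Subtype.val h
        exact (mul_ne_zero ht0 hd0) (hinjL (by simpa using this))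
      refine ⟨(⟨t' * (algebraMap Rb L (d : Rb) * l), ⟨0, _, hdl, by simp⟩⟩, ⟨_, htd⟩), ?_⟩
      show l * algebraMap Rb L (t * d) = t' * (algebraMap Rb L (d : Rb) * l)
      rw [map_mul]; ring
    · intro x y hxy
      exact ⟨1, by rw [Subtype.ext hxy]⟩
  exact ⟨S, hSfin, hfrac, hlocal, hnonunit⟩

end Groth.Agent.Lib.Helper38.LocalSub
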