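import Mathlib
import Groth.Prelude
import Groth.Agent.S9397
import Groth.Agent.S2821
import Groth.Agent.S0571
import Groth.Agent.S4710
import Groth.Agent.Lib.Helper38.NagataFT7
import Groth.Agent.Lib.Helper38.NormalLocus
import Groth.Agent.Lib.Helper56.DimOneN2c

set_option autoImplicit false
set_option linter.unusedSectionVars false
universe u
open CAlg Polynomial

namespace Groth.Agent.Lib.Helper38.NagataFT8

open Groth.Agent.Lib.Helper38.NagataFT1 Groth.Agent.Lib.Helper38.NagataFT6
  Groth.Agent.Lib.Helper38.NagataFT7

theorem isN1_of_isN2 (D : Type u) [CommRing D] [IsDomain D] (h : CAlg.IsN2 D) : CAlg.IsN1 D :=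
  h (FractionRing D) inferInstance

theorem isIntegrallyClosed_away_of_forall {S : Type u} [CommRing S] [IsDomain S] (f : S)
    (hf : f ≠ 0)
    (h : ∀ (q : Ideal S) [q.IsPrime], f ∉ q → IsIntegrallyClosed (Localization.AtPrime q)) :
    IsIntegrallyClosed (Localization.Away f) := by
  let K := FractionRing S
  rw [Groth.Agent.Lib.Helper38.NormalLocus.isIntegrallyClosed_iff_of_isLocalization
    (Submonoid.powers f) (powers_le_nonZeroDivisors_of_noZeroDivisors hf) (Localization.Away f) K]
  intro x hx
  let I : Ideal S := (1 : Submodule S K).colon {x}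
  have hrad : f ∈ I.radical := by
    rw [Ideal.radical_eq_sInf, Ideal.mem_sInf]
    rintro q ⟨hIq, hq⟩
    by_contra hfq
    have hic := h q hfq
    have hx' : IsIntegral (Localization.AtPrime q) x := hx.tower_top
    obtain ⟨y, hy⟩ := IsIntegrallyClosed.isIntegral_iff.mp hx'
    obtain ⟨t, s, rfl⟩ := IsLocalization.exists_mk'_eq q.primeCompl y
    have hs : (s : S) ∈ I := by
      rw [Submodule.mem_colon_singleton, Submodule.mem_one]
      refine ⟨t, ?_⟩
      rw [← hy, Algebra.smul_def, IsScalarTower.algebraMap_apply S (Localization.AtPrime q) K,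
        IsScalarTower.algebraMap_apply S (Localization.AtPrime q) K (s : S), ← map_mul,
        IsLocalization.mk'_spec']
    exact s.2 (hIq hs)
  obtain ⟨n, hn⟩ := hrad
  exact ⟨f ^ n, ⟨n, rfl⟩, Submodule.mem_colon_singleton.mp hn⟩

theorem isRegularLocalRing_atPrime_bot (S : Type u) [CommRing S] [IsDomain S] [IsNoetherianRing S] :
    IsRegularLocalRing (Localization.AtPrime (⊥ : Ideal S)) := by
  apply IsRegularLocalRing.of_spanFinrank_maximalIdeal_le
  have h : IsLocalRing.maximalIdeal (Localization.AtPrime (⊥ : Ideal S)) = ⊥ := by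
    rw [← Localization.AtPrime.map_eq_maximalIdeal, Ideal.map_bot]
  rw [h, Submodule.spanFinrank_bot]
  exact ringKrullDim_nonneg_of_nontrivial

/-- EGA IV 7.7.2-type statement: geometrically reduced formal fibres at maximal ideals and J-2
imply universally Japanese. -/
theorem isUniversallyJapanese_of_geomReduced_of_isJ2 (A : Type u) [CommRing A]
    [IsNoetherianRing A]
    (h1 : ∀ (m : Ideal A) [m.IsMaximal], EGA4.HasGeomReducedFormalFibres (Localization.AtPrime m))
    (h2 : EGA4.IsJ2 A) : CAlg.IsUniversallyJapanese A := by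
  apply Groth.Agent.S9397.result
  intro S _ _ _ hft
  have hSN : IsNoetherianRing S := Algebra.FiniteType.isNoetherianRing A S
  rw [Groth.Agent.S0571.result S]
  constructor
  · have hopen := h2 S hft
    have hbot : (⟨⊥, Ideal.isPrime_bot⟩ : PrimeSpectrum S) ∈ EGA4.regLocus S :=
      isRegularLocalRing_atPrime_bot S
    obtain ⟨U, ⟨f, rfl⟩, hbotU, hU⟩ :=
      PrimeSpectrum.isTopologicalBasis_basic_opens.exists_subset_of_mem_open hbot hopen
    have hf0 : f ≠ 0 := by
      rintro rfl
      exact hbotU (Ideal.zero_mem _)
    refine ⟨f, hf0, isIntegrallyClosed_away_of_forall f hf0 (fun q hq hfq => ?_)⟩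
    have hreg : IsRegularLocalRing (Localization.AtPrime q) := hU (show (⟨q, hq⟩ : PrimeSpectrum S) ∈
      (PrimeSpectrum.basicOpen f : Set (PrimeSpectrum S)) from hfq)
    have hufd := (Groth.Agent.S2821.result (Localization.AtPrime q)).2
    infer_instance
  · intro P hP
    let p := P.comap (algebraMap A S)
    have hp : p.IsPrime := Ideal.comap_isPrime _ _
    obtain ⟨m, hm, hpm⟩ := Ideal.exists_le_maximal p hp.ne_top
    let Am := Localization.AtPrime m
    have hAm : IsNagata Am :=
      (Groth.Agent.Lib.Helper56.isNagata_iff_hasGeomReducedFormalFibres Am).mpr (h1 m)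
    let M := Algebra.algebraMapSubmonoid S m.primeCompl
    let T := Localization M
    have hMP : ∀ s ∈ M, s ∉ P := by
      rintro _ ⟨s, hs, rfl⟩ hsP
      exact hs (hpm hsP)
    have hM0 : M ≤ nonZeroDivisors S := by
      intro s hs
      apply mem_nonZeroDivisors_of_ne_zero
      rintro rfl
      exact hMP 0 hs P.zero_mem
    have hTdom : IsDomain T := IsLocalization.isDomain_localization hM0
    have e0 : Algebra.EssFiniteType S T := Algebra.EssFiniteType.of_isLocalization T M
    have e1 : Algebra.EssFiniteType A T := Algebra.EssFiniteType.comp A S T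
    have e2 : Algebra.EssFiniteType Am T := Algebra.EssFiniteType.of_comp A Am T
    have hT : IsNagata T := isNagata_of_essFiniteType Am hAm T
    have hdisj : Disjoint (M : Set S) (P : Set S) := by
      rw [Set.disjoint_left]
      exact hMP
    let P' := P.map (algebraMap S T)
    have hP'prime : P'.IsPrime :=
      IsLocalization.isPrime_of_isPrime_disjoint M T P hP.isPrime hdisj
    have hP'comap : P'.comap (algebraMap S T) = P :=
      IsLocalization.under_map_of_isPrime_disjoint M T hP.isPrime hdisj
    have hTP' : IsNagata (Localization.AtPrime P') := Groth.Agent.S4710.result T hT P'.primeCompl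
    have h2' : IsN2 (Localization.AtPrime P') := isN2_of_isNagata _ hTP'
    have h1' : IsN1 (Localization.AtPrime P') := isN1_of_isN2 _ h2'
    exact isN1_atPrime_of_localization S M T P' P hP'comap h1'

end Groth.Agent.Lib.Helper38.NagataFT8
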