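import Mathlib
import Groth.Agent.Lib.Helper38.HensBranch
import Groth.Agent.Lib.Helper56.QuotFlat
import Groth.Agent.Lib.Helper56.FibreRegular
import Groth.Agent.Lib.Helper69.HensFinite

/-!
# Disconnectedness of the punctured spectrum descends from a "completion-like" flat local
extension to a henselian Noetherian local ring (helper38)

* `PunctDisc R` : algebraic form of "the punctured spectrum of the local ring `R` is disconnected".
* `not_isPreconnected_iff` : comparison with the topological statement.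
* `punctDisc_of_faithfullyFlat` : ascent along a faithfully flat local map with `𝔪_H G = 𝔪_G`.
* `punctDisc_descent` : descent when `H` is henselian Noetherian, `G` Noetherian local flat with
  `𝔪_H G = 𝔪_G` and the same residue field.
-/

set_option autoImplicit false
universe u

namespace Groth.Agent.Lib.Helper38.PunctDisc


open IsLocalRing

/-- The punctured spectrum of the local ring `R` is disconnected (algebraic form). -/
def PunctDisc (R : Type u) [CommRing R] [IsLocalRing R] : Prop :=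
  ∃ I₁ I₂ : Ideal R,
    (∀ P : Ideal R, P.IsPrime → P ≠ maximalIdeal R → I₁ ≤ P ∨ I₂ ≤ P) ∧
    (∃ P : Ideal R, P.IsPrime ∧ P ≠ maximalIdeal R ∧ I₁ ≤ P) ∧
    (∃ P : Ideal R, P.IsPrime ∧ P ≠ maximalIdeal R ∧ I₂ ≤ P) ∧
    (∀ P : Ideal R, P.IsPrime → I₁ ≤ P → I₂ ≤ P → P = maximalIdeal R)

theorem not_isPreconnected_iff (R : Type u) [CommRing R] [IsLocalRing R] :
    ¬ IsPreconnected ({closedPoint R}ᶜ : Set (PrimeSpectrum R)) ↔ PunctDisc R := by
  have hmem : ∀ x : PrimeSpectrum R, x ∈ ({closedPoint R}ᶜ : Set (PrimeSpectrum R)) ↔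
      x.asIdeal ≠ maximalIdeal R := by
    intro x
    rw [Set.mem_compl_iff, Set.mem_singleton_iff, not_iff_not]
    constructor
    · intro h; rw [h]; rfl
    · intro h; exact PrimeSpectrum.ext h
  rw [isPreconnected_closed_iff]
  constructor
  · intro h
    push_neg at h
    obtain ⟨t, t', ht, ht', hsub, hne, hne', hdisj⟩ := h
    obtain ⟨I₁, rfl⟩ := (PrimeSpectrum.isClosed_iff_zeroLocus_ideal t).mp ht
    obtain ⟨I₂, rfl⟩ := (PrimeSpectrum.isClosed_iff_zeroLocus_ideal t').mp ht'
    refine ⟨I₁, I₂, ?_, ?_, ?_, ?_⟩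
    · intro P hP hPm
      have := hsub ((hmem ⟨P, hP⟩).mpr hPm)
      rcases this with h1 | h1
      · left; exact (PrimeSpectrum.mem_zeroLocus _ _).mp h1
      · right; exact (PrimeSpectrum.mem_zeroLocus _ _).mp h1
    · obtain ⟨x, hx1, hx2⟩ := hne
      exact ⟨x.asIdeal, x.2, (hmem x).mp hx1, (PrimeSpectrum.mem_zeroLocus _ _).mp hx2⟩
    · obtain ⟨x, hx1, hx2⟩ := hne'
      exact ⟨x.asIdeal, x.2, (hmem x).mp hx1, (PrimeSpectrum.mem_zeroLocus _ _).mp hx2⟩
    · intro P hP h1 h2
      by_contra hPm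
      have hmem' : (⟨P, hP⟩ : PrimeSpectrum R) ∈ ({closedPoint R}ᶜ ∩
          (PrimeSpectrum.zeroLocus ↑I₁ ∩ PrimeSpectrum.zeroLocus ↑I₂) : Set (PrimeSpectrum R)) :=
        ⟨(hmem _).mpr hPm, (PrimeSpectrum.mem_zeroLocus _ _).mpr h1,
          (PrimeSpectrum.mem_zeroLocus _ _).mpr h2⟩
      rw [hdisj] at hmem'
      exact hmem'
  · rintro ⟨I₁, I₂, hcov, ⟨P₁, hP₁, hP₁m, hP₁I⟩, ⟨P₂, hP₂, hP₂m, hP₂I⟩, hdisj⟩ h
    obtain ⟨x, hx, hx1, hx2⟩ := h (PrimeSpectrum.zeroLocus I₁) (PrimeSpectrum.zeroLocus I₂)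
      (PrimeSpectrum.isClosed_zeroLocus _) (PrimeSpectrum.isClosed_zeroLocus _)
      (by
        intro x hx
        rcases hcov x.asIdeal x.2 ((hmem x).mp hx) with h1 | h1
        · left; exact (PrimeSpectrum.mem_zeroLocus _ _).mpr h1
        · right; exact (PrimeSpectrum.mem_zeroLocus _ _).mpr h1)
      ⟨⟨P₁, hP₁⟩, (hmem _).mpr hP₁m, (PrimeSpectrum.mem_zeroLocus _ _).mpr hP₁I⟩
      ⟨⟨P₂, hP₂⟩, (hmem _).mpr hP₂m, (PrimeSpectrum.mem_zeroLocus _ _).mpr hP₂I⟩
    exact (hmem x).mp hx (hdisj x.asIdeal x.2 ((PrimeSpectrum.mem_zeroLocus _ _).mp hx1)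
      ((PrimeSpectrum.mem_zeroLocus _ _).mp hx2))

/-- Transfer along a surjection whose kernel lies in every non-maximal prime. -/
theorem punctDisc_iff_of_surjective {R R' : Type u} [CommRing R] [IsLocalRing R] [CommRing R']
    [IsLocalRing R'] (f : R →+* R') (hf : Function.Surjective f)
    (hker : ∀ P : Ideal R, P.IsPrime → P ≠ maximalIdeal R → RingHom.ker f ≤ P) :
    PunctDisc R ↔ PunctDisc R' := by
  have hloc : IsLocalHom f := hf.isLocalHom f
  have hcomap_max : (maximalIdeal R').comap f = maximalIdeal R :=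
    ((local_hom_TFAE f).out 0 4).mp hloc
  have hcomap_inj : ∀ I J : Ideal R', I.comap f = J.comap f → I = J :=
    fun I J h => Ideal.comap_injective_of_surjective f hf h
  -- primes of R' ↔ primes of R containing ker
  have hup : ∀ P : Ideal R, P.IsPrime → P ≠ maximalIdeal R →
      (P.map f).IsPrime ∧ (P.map f).comap f = P ∧ P.map f ≠ maximalIdeal R' := by
    intro P hP hPm
    have hk := hker P hP hPm
    have h1 : (P.map f).IsPrime := Ideal.map_isPrime_of_surjective hf hk
    have h2 : (P.map f).comap f = P := by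
      rw [Ideal.comap_map_of_surjective f hf, ← RingHom.ker_eq_comap_bot, sup_eq_left.mpr hk]
    refine ⟨h1, h2, ?_⟩
    intro h3
    rw [h3, hcomap_max] at h2
    exact hPm h2.symm
  have hdown : ∀ P' : Ideal R', P'.IsPrime → P' ≠ maximalIdeal R' →
      (P'.comap f).IsPrime ∧ P'.comap f ≠ maximalIdeal R := by
    intro P' hP' hP'm
    refine ⟨Ideal.comap_isPrime f P', ?_⟩
    intro h
    rw [← hcomap_max] at h
    exact hP'm (hcomap_inj _ _ h)
  constructor
  · rintro ⟨I₁, I₂, hcov, ⟨P₁, hP₁, hP₁m, hP₁I⟩, ⟨P₂, hP₂, hP₂m, hP₂I⟩, hdisj⟩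
    refine ⟨I₁.map f, I₂.map f, ?_, ?_, ?_, ?_⟩
    · intro P' hP' hP'm
      obtain ⟨h1, h2⟩ := hdown P' hP' hP'm
      rcases hcov _ h1 h2 with h | h
      · left; exact Ideal.map_le_iff_le_comap.mpr h
      · right; exact Ideal.map_le_iff_le_comap.mpr h
    · obtain ⟨h1, h2, h3⟩ := hup P₁ hP₁ hP₁m
      exact ⟨P₁.map f, h1, h3, Ideal.map_mono hP₁I⟩
    · obtain ⟨h1, h2, h3⟩ := hup P₂ hP₂ hP₂m
      exact ⟨P₂.map f, h1, h3, Ideal.map_mono hP₂I⟩
    · intro P' hP' h1 h2
      by_contra hP'm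
      obtain ⟨h3, h4⟩ := hdown P' hP' hP'm
      exact h4 (hdisj _ h3 (Ideal.map_le_iff_le_comap.mp h1) (Ideal.map_le_iff_le_comap.mp h2))
  · rintro ⟨I₁, I₂, hcov, ⟨P₁, hP₁, hP₁m, hP₁I⟩, ⟨P₂, hP₂, hP₂m, hP₂I⟩, hdisj⟩
    refine ⟨I₁.comap f, I₂.comap f, ?_, ?_, ?_, ?_⟩
    · intro P hP hPm
      obtain ⟨h1, h2, h3⟩ := hup P hP hPm
      rcases hcov _ h1 h3 with h | h
      · left; rw [← h2]; exact Ideal.comap_mono h
      · right; rw [← h2]; exact Ideal.comap_mono h
    · obtain ⟨h1, h2⟩ := hdown P₁ hP₁ hP₁m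
      exact ⟨_, h1, h2, Ideal.comap_mono hP₁I⟩
    · obtain ⟨h1, h2⟩ := hdown P₂ hP₂ hP₂m
      exact ⟨_, h1, h2, Ideal.comap_mono hP₂I⟩
    · intro P hP h1 h2
      by_contra hPm
      obtain ⟨h3, h4, h5⟩ := hup P hP hPm
      apply h5
      apply hdisj _ h3
      · have := Ideal.map_mono (f := f) h1
        rwa [Ideal.map_comap_of_surjective f hf] at this
      · have := Ideal.map_mono (f := f) h2
        rwa [Ideal.map_comap_of_surjective f hf] at this




theorem punctDisc_of_faithfullyFlat {H G : Type u} [CommRing H] [IsLocalRing H] [CommRing G]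
    [IsLocalRing G] [Algebra H G] [Module.FaithfullyFlat H G]
    (hm : (maximalIdeal H).map (algebraMap H G) = maximalIdeal G) (h : PunctDisc H) :
    PunctDisc G := by
  obtain ⟨I₁, I₂, hcov, ⟨P₁, hP₁, hP₁m, hP₁I⟩, ⟨P₂, hP₂, hP₂m, hP₂I⟩, hdisj⟩ := h
  have hdown : ∀ P' : Ideal G, P'.IsPrime → P' ≠ maximalIdeal G →
      P'.comap (algebraMap H G) ≠ maximalIdeal H := by
    intro P' hP' hP'm h
    apply hP'm
    have h1 : maximalIdeal G ≤ P' := by
      rw [← hm, Ideal.map_le_iff_le_comap, h]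
    exact ((maximalIdeal.isMaximal G).eq_of_le hP'.ne_top h1).symm
  have hup : ∀ P : Ideal H, P.IsPrime → P ≠ maximalIdeal H →
      ∃ P' : Ideal G, P'.IsPrime ∧ P' ≠ maximalIdeal G ∧ P.map (algebraMap H G) ≤ P' := by
    intro P hP hPm
    obtain ⟨Q, hQ, hQl⟩ := Ideal.exists_isPrime_liesOver_of_faithfullyFlat (B := G) P
    refine ⟨Q, hQ, ?_, ?_⟩
    · rintro rfl
      apply hPm
      rw [hQl.over]
      have hloc : IsLocalHom (algebraMap H G) := by
        constructor
        intro a ha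
        by_contra hna
        have h1 : a ∈ maximalIdeal H := hna
        have h2 : algebraMap H G a ∈ maximalIdeal G := by
          rw [← hm]; exact Ideal.mem_map_of_mem _ h1
        exact h2 ha
      exact ((local_hom_TFAE (algebraMap H G)).out 0 4).mp hloc
    · rw [Ideal.map_le_iff_le_comap, hQl.over]
  refine ⟨I₁.map (algebraMap H G), I₂.map (algebraMap H G), ?_, ?_, ?_, ?_⟩
  · intro P' hP' hP'm
    rcases hcov _ (Ideal.comap_isPrime _ P') (hdown P' hP' hP'm) with h | h
    · left; exact Ideal.map_le_iff_le_comap.mpr h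
    · right; exact Ideal.map_le_iff_le_comap.mpr h
  · obtain ⟨P', h1, h2, h3⟩ := hup P₁ hP₁ hP₁m
    exact ⟨P', h1, h2, (Ideal.map_mono hP₁I).trans h3⟩
  · obtain ⟨P', h1, h2, h3⟩ := hup P₂ hP₂ hP₂m
    exact ⟨P', h1, h2, (Ideal.map_mono hP₂I).trans h3⟩
  · intro P' hP' h1 h2
    by_contra hP'm
    exact hdown P' hP' hP'm (hdisj _ (Ideal.comap_isPrime _ P')
      (Ideal.map_le_iff_le_comap.mp h1) (Ideal.map_le_iff_le_comap.mp h2))


section CoreGen

variable {H G : Type u} [CommRing H] [HenselianLocalRing H] [IsNoetherianRing H]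
  [CommRing G] [IsLocalRing G] [IsNoetherianRing G] [Algebra H G]
  [Module.Flat H G] [IsLocalHom (algebraMap H G)]

open Groth.Agent.Lib.Helper38.HensBranch in
theorem mem_span_or_punctDisc
    (hm : (maximalIdeal H).map (algebraMap H G) = maximalIdeal G)
    (hres : ∀ x : G, ∃ y : H, x - algebraMap H G y ∈ maximalIdeal G)
    (x : H) (hxm : x ∈ maximalIdeal H) (hxreg : x ∈ nonZeroDivisors H) (M : ℕ) (a : G)
    (hsq : a * a = algebraMap H G (x ^ M) * a)
    (hcol : ∀ y ∈ maximalIdeal H ^ M, ∃ z : G, algebraMap H G y * a = algebraMap H G (x ^ M) * z)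
    (hna : algebraMap H G (x ^ M) ∉ Ideal.span {a}) :
    a ∈ Ideal.span {algebraMap H G (x ^ M)} ∨ PunctDisc H := by
  classical
  set φ := algebraMap H G with hφ
  set X : G := φ (x ^ M) with hX
  have hff : Module.FaithfullyFlat H G := Module.FaithfullyFlat.of_flat_of_isLocalHom
  -- regularity of X
  have hreg : ∀ g : G, X * g = 0 → g = 0 := by
    intro g hg
    have h1 : x ^ M ∈ nonZeroDivisors H := pow_mem hxreg M
    have h2 := Module.Flat.isSMulRegular_of_nonZeroDivisors (M := G) h1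
    apply h2
    change (x ^ M) • g = (x ^ M) • (0 : G)
    rw [smul_zero, Algebra.smul_def]
    exact hg
  -- generators of 𝔪^M
  obtain ⟨k, xs, hxs⟩ := (Submodule.fg_iff_exists_fin_generating_family).mp
    (IsNoetherian.noetherian (maximalIdeal H ^ M))
  have hxs_mem : ∀ i, xs i ∈ maximalIdeal H ^ M := fun i => by
    rw [← hxs]; exact Submodule.subset_span ⟨i, rfl⟩
  choose z hz using fun i => hcol (xs i) (hxs_mem i)
  have hmem := Groth.Agent.Lib.Helper38.WeakUnram.mem_map_colon_range_of_flat (x ^ M) xs a z hz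
  set W : Ideal H := (Ideal.span {x ^ M}).colon (Set.range xs) with hWdef
  have hW : ∀ w ∈ W, ∀ y ∈ maximalIdeal H ^ M, y * w ∈ Ideal.span {x ^ M} := by
    intro w hw y hy
    rw [← hxs] at hy
    induction hy using Submodule.span_induction with
    | mem y hy =>
      have := Submodule.mem_colon.mp hw y hy
      rwa [smul_eq_mul, mul_comm] at this
    | zero => simp
    | add y₁ y₂ _ _ h₁ h₂ => rw [add_mul]; exact Ideal.add_mem _ h₁ h₂
    | smul s y _ h => rw [smul_eq_mul, mul_assoc]; exact Ideal.mul_mem_left _ _ h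
  obtain ⟨a', ha'W, ha'⟩ := exists_sub_mem_span_of_mem_map_colon hm hres (x ^ M) M W hW a hmem
  obtain ⟨c, hc⟩ := Ideal.mem_span_singleton'.mp ha'
  -- a = φ a' + X c
  have hac : a = φ a' + X * c := by
    have : c * X = a - φ a' := hc
    linear_combination -this
  -- a'^2 ∈ (x^M a', x^(2M))
  have h1 : φ (a' * a') ∈ (Ideal.span {x ^ M * a', x ^ M * x ^ M}).map φ := by
    have e : φ (a' * a') = φ (x ^ M * a') * (1 - 2 * c) + φ (x ^ M * x ^ M) * (c - c * c) := by
      have hsq' := hsq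
      rw [hac] at hsq'
      simp only [map_mul]
      linear_combination hsq'
    rw [e]
    apply Ideal.add_mem
    · exact Ideal.mul_mem_right _ _ (Ideal.mem_map_of_mem _ (Ideal.subset_span (by simp)))
    · exact Ideal.mul_mem_right _ _ (Ideal.mem_map_of_mem _ (Ideal.subset_span (by simp)))
  have h2 : a' * a' ∈ Ideal.span {x ^ M * a', x ^ M * x ^ M} := by
    have := Ideal.comap_map_eq_self_of_faithfullyFlat (B := G)
      (Ideal.span {x ^ M * a', x ^ M * x ^ M})
    rw [← this]
    exact h1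
  obtain ⟨α, β, hαβ⟩ := Ideal.mem_span_pair.mp h2
  -- the key identity
  set u : G := 1 - 2 * c - φ α with hu
  set Pc : G := c * c + φ α * c - φ β with hPc
  have hkey : a * u + X * Pc = 0 := by
    apply hreg
    have h3 := congrArg φ hαβ
    simp only [map_add, map_mul] at h3
    have hφa' : φ a' = a - X * c := by rw [hac]; ring
    rw [hφa'] at h3
    rw [hu, hPc]
    linear_combination (-1 : G) * h3 - (1 : G) * hsq
  by_cases huu : IsUnit u
  · left
    obtain ⟨v, hv⟩ := huu
    rw [Ideal.mem_span_singleton']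
    refine ⟨-(Pc * ↑v⁻¹), ?_⟩
    have h4 : a * u = -(X * Pc) := by linear_combination hkey
    have h5 : a = a * u * ↑v⁻¹ := by rw [← hv, mul_assoc, Units.mul_inv, mul_one]
    rw [h5, h4]
    ring
  · -- u ∈ 𝔪
    have hPcm : ¬ IsUnit Pc := by
      intro hPu
      obtain ⟨v, hv⟩ := hPu
      apply hna
      rw [Ideal.mem_span_singleton']
      refine ⟨-(u * ↑v⁻¹), ?_⟩
      have h4 : X * Pc = -(a * u) := by linear_combination hkey
      have h5 : X = X * Pc * ↑v⁻¹ := by rw [← hv, mul_assoc, Units.mul_inv, mul_one]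
      rw [h5, h4]
      ring
    have hu1 : IsUnit (u - 1) := by
      have h6 : IsUnit (1 - u) :=
        (IsLocalRing.isUnit_or_isUnit_one_sub_self u).resolve_left huu
      have : u - 1 = -(1 - u) := by ring
      rw [this]
      exact h6.neg
    obtain ⟨r', hr'⟩ := hres (-c)
    set t : G := -c - φ r' with ht
    have hφr' : φ r' = -c - t := by rw [ht]; ring
    have htm : ¬ IsUnit t := hr'
    let P : Polynomial H := Polynomial.X ^ 2 - Polynomial.C α * Polynomial.X - Polynomial.C β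
    have hPmonic : P.Monic := by
      have hdeg : (Polynomial.C α * Polynomial.X + Polynomial.C β).degree < 2 := by
        refine lt_of_le_of_lt (Polynomial.degree_linear_le) ?_
        norm_num
      have : P = Polynomial.X ^ 2 - (Polynomial.C α * Polynomial.X + Polynomial.C β) := by
        simp only [P]; ring
      rw [this]
      exact Polynomial.monic_X_pow_sub hdeg
    have hPeval : ∀ r : H, P.eval r = r ^ 2 - α * r - β := by
      intro r; simp [P]
    have hPder : ∀ r : H, P.derivative.eval r = 2 * r - α := by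
      intro r
      simp only [P, Polynomial.derivative_sub, Polynomial.derivative_X_pow,
        Polynomial.derivative_mul, Polynomial.derivative_C, Polynomial.derivative_X, zero_mul,
        zero_add, mul_one, Polynomial.eval_sub, Polynomial.eval_mul, Polynomial.eval_C,
        Polynomial.eval_X, Polynomial.eval_pow, sub_zero]
      norm_num
    have hev : P.eval r' ∈ maximalIdeal H := by
      rw [mem_maximalIdeal, mem_nonunits_iff]
      intro hunit
      have h7 : IsUnit (φ (P.eval r')) := hunit.map φ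
      rw [hPeval] at h7
      simp only [map_sub, map_mul, map_pow, hφr'] at h7
      have h8 : (-c - t) ^ 2 - φ α * (-c - t) - φ β = Pc + t * (2 * c + t + φ α) := by
        rw [hPc]; ring
      rw [h8] at h7
      have h9 : Pc + t * (2 * c + t + φ α) ∈ maximalIdeal G := by
        apply Ideal.add_mem
        · exact hPcm
        · exact Ideal.mul_mem_right _ _ htm
      exact h9 h7
    have hder : IsUnit (P.derivative.eval r') := by
      rw [hPder]
      apply (isUnit_map_iff φ _).mp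
      simp only [map_sub, map_mul, map_ofNat, hφr']
      have h8 : 2 * (-c - t) - φ α = (u - 1) + t * (-2) := by rw [hu]; ring
      rw [h8]
      have h9 : t * (-2) ∈ maximalIdeal G := Ideal.mul_mem_right _ _ htm
      by_contra hcon
      have h10 : (u - 1) + t * (-2) ∈ maximalIdeal G := hcon
      have h11 : u - 1 ∈ maximalIdeal G := by
        have := Ideal.sub_mem _ h10 h9
        simpa using this
      exact h11 hu1
    obtain ⟨r₁, hr₁, hr₁m⟩ := HenselianLocalRing.is_henselian P hPmonic r' hev hder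
    rw [Polynomial.IsRoot.def, hPeval] at hr₁
    have hregH : ∀ h : H, x ^ M * h = 0 → h = 0 := by
      intro h hh
      have h1 : x ^ M ∈ nonZeroDivisors H := pow_mem hxreg M
      exact (mem_nonZeroDivisors_iff_right.mp h1) h (by rwa [mul_comm])
    set r₂ : H := α - r₁ with hr₂
    set d : H := r₁ - r₂ with hd
    have hdu : IsUnit d := by
      have h1 : d = (2 * r' - α) + 2 * (r₁ - r') := by rw [hd, hr₂]; ring
      rw [hPder] at hder
      by_contra hcon
      have h2 : d ∈ maximalIdeal H := hcon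
      have h3 : 2 * (r₁ - r') ∈ maximalIdeal H := Ideal.mul_mem_left _ _ hr₁m
      have h4 : 2 * r' - α ∈ maximalIdeal H := by
        have := Ideal.sub_mem _ h2 h3
        rw [h1] at this
        simpa using this
      exact h4 hder
    obtain ⟨dU, hdU⟩ := hdu
    set w : H := ↑dU⁻¹ with hw
    have hdw : d * w = 1 := by rw [← hdU, hw, Units.mul_inv]
    set s₁ : H := a' - x ^ M * r₁ with hs₁
    set s₂ : H := a' - x ^ M * r₂ with hs₂
    have hprod : s₁ * s₂ = 0 := by
      rw [hs₁, hs₂, hr₂]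
      linear_combination hαβ.symm - (x ^ M * x ^ M) * hr₁
    set t : H := s₂ * w with ht
    have htx : t - x ^ M = s₁ * w := by
      have h1 : s₂ - s₁ = x ^ M * d := by rw [hs₁, hs₂, hd]; ring
      have h2 : s₂ = s₁ + x ^ M * d := by linear_combination h1
      rw [ht, h2, add_mul, mul_assoc, hdw, mul_one]
      ring
    have ht0 : t * (t - x ^ M) = 0 := by
      rw [htx, ht]
      have : s₂ * w * (s₁ * w) = (s₁ * s₂) * (w * w) := by ring
      rw [this, hprod, zero_mul]
    have hcolt : ∀ y ∈ maximalIdeal H ^ M, ∃ ty : H, y * t = x ^ M * ty := by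
      intro y hy
      obtain ⟨v, hv⟩ := Ideal.mem_span_singleton'.mp (hW a' ha'W y hy)
      refine ⟨(v - y * r₂) * w, ?_⟩
      rw [ht, hs₂]
      linear_combination (-w) * hv
    have ha_of_a' : a' ∈ Ideal.span {x ^ M} → a ∈ Ideal.span {X} := by
      intro ha'x
      obtain ⟨d', hd'⟩ := Ideal.mem_span_singleton'.mp ha'x
      rw [Ideal.mem_span_singleton']
      refine ⟨φ d' + c, ?_⟩
      rw [hac, ← hd', map_mul]
      ring
    set K₁ : Ideal H := (⊥ : Ideal H).colon {t} with hK₁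
    set K₂ : Ideal H := (⊥ : Ideal H).colon {t - x ^ M} with hK₂
    have hmemK₁ : ∀ s : H, s ∈ K₁ ↔ s * t = 0 := by
      intro s; rw [hK₁, Submodule.mem_colon_singleton, smul_eq_mul, Ideal.mem_bot]
    have hmemK₂ : ∀ s : H, s ∈ K₂ ↔ s * (t - x ^ M) = 0 := by
      intro s; rw [hK₂, Submodule.mem_colon_singleton, smul_eq_mul, Ideal.mem_bot]
    by_cases hc₁ : ∃ P : Ideal H, P.IsPrime ∧ P ≠ maximalIdeal H ∧ K₁ ≤ P
    · by_cases hc₂ : ∃ P : Ideal H, P.IsPrime ∧ P ≠ maximalIdeal H ∧ K₂ ≤ P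
      · right
        have hK12 : K₁ * K₂ ≤ ⊥ := by
          rw [Ideal.mul_le]
          intro s hs k hk
          rw [Ideal.mem_bot]
          apply hregH
          have h1 := (hmemK₁ s).mp hs
          have h2 := (hmemK₂ k).mp hk
          linear_combination k * h1 - s * h2
        have hsup : maximalIdeal H ^ M ≤ K₁ ⊔ K₂ := by
          intro y hy
          obtain ⟨ty, hty⟩ := hcolt y hy
          have h1 : y - ty ∈ K₁ := by
            rw [hmemK₁]
            apply hregH
            linear_combination (-y) * ht0 + t * hty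
          have h2 : ty ∈ K₂ := by
            rw [hmemK₂]
            apply hregH
            linear_combination y * ht0 - (t - x ^ M) * hty
          have : y = (y - ty) + ty := by ring
          rw [this]
          exact Submodule.add_mem_sup h1 h2
        refine ⟨K₁, K₂, ?_, hc₁, hc₂, ?_⟩
        · intro P hP _
          exact (Ideal.IsPrime.mul_le hP).mp (hK12.trans bot_le)
        · intro P hP h1 h2
          have h3 : maximalIdeal H ^ M ≤ P := hsup.trans (sup_le h1 h2)
          have h4 : maximalIdeal H ≤ P := hP.le_of_pow_le h3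
          exact ((maximalIdeal.isMaximal H).eq_of_le hP.ne_top h4).symm
      · -- K₂ is primary to the maximal ideal: t = x^M
        left
        apply ha_of_a'
        have hrad : maximalIdeal H ≤ K₂.radical := by
          rw [Ideal.radical_eq_sInf]
          refine le_sInf ?_
          rintro P ⟨hP1, hP2⟩
          by_contra hle
          apply hc₂
          refine ⟨P, hP2, ?_, hP1⟩
          rintro rfl
          exact hle le_rfl
        obtain ⟨L, hL⟩ := Ideal.exists_pow_le_of_le_radical_of_fg hrad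
          (IsNoetherian.noetherian (maximalIdeal H))
        have h1 : x ^ L ∈ K₂ := hL (Ideal.pow_mem_pow hxm L)
        have h2 : x ^ L * (t - x ^ M) = 0 := (hmemK₂ _).mp h1
        have h3 : t - x ^ M = 0 := by
          have h4 : x ^ L ∈ nonZeroDivisors H := pow_mem hxreg L
          exact (mem_nonZeroDivisors_iff_right.mp h4) _ (by rwa [mul_comm])
        have h5 : s₁ = 0 := by
          have : s₁ * w * d = 0 := by rw [← htx, h3, zero_mul]
          have h6 : s₁ * (d * w) = 0 := by linear_combination this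
          rwa [hdw, mul_one] at h6
        rw [Ideal.mem_span_singleton']
        exact ⟨r₁, by rw [hs₁] at h5; linear_combination -h5⟩
    · -- K₁ is primary to the maximal ideal: t = 0
      left
      apply ha_of_a'
      have hrad : maximalIdeal H ≤ K₁.radical := by
        rw [Ideal.radical_eq_sInf]
        refine le_sInf ?_
        rintro P ⟨hP1, hP2⟩
        by_contra hle
        apply hc₁
        refine ⟨P, hP2, ?_, hP1⟩
        rintro rfl
        exact hle le_rfl
      obtain ⟨L, hL⟩ := Ideal.exists_pow_le_of_le_radical_of_fg hrad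
        (IsNoetherian.noetherian (maximalIdeal H))
      have h1 : x ^ L ∈ K₁ := hL (Ideal.pow_mem_pow hxm L)
      have h2 : x ^ L * t = 0 := (hmemK₁ _).mp h1
      have h3 : t = 0 := by
        have h4 : x ^ L ∈ nonZeroDivisors H := pow_mem hxreg L
        exact (mem_nonZeroDivisors_iff_right.mp h4) _ (by rwa [mul_comm])
      have h5 : s₂ = 0 := by
        have : s₂ * w * d = 0 := by rw [← ht, h3, zero_mul]
        have h6 : s₂ * (d * w) = 0 := by linear_combination this
        rwa [hdw, mul_one] at h6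
      rw [Ideal.mem_span_singleton']
      exact ⟨r₂, by rw [hs₂] at h5; linear_combination -h5⟩

end CoreGen


section ThmB

variable {H G : Type u} [CommRing H] [HenselianLocalRing H] [IsNoetherianRing H]
  [CommRing G] [IsLocalRing G] [IsNoetherianRing G] [Algebra H G]
  [Module.Flat H G] [IsLocalHom (algebraMap H G)]

/-- Descent of disconnectedness of the punctured spectrum, when `𝔪_H` contains a regular
element. -/
theorem punctDisc_descent_of_regular
    (hm : (maximalIdeal H).map (algebraMap H G) = maximalIdeal G)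
    (hres : ∀ x : G, ∃ y : H, x - algebraMap H G y ∈ maximalIdeal G)
    (x : H) (hxm : x ∈ maximalIdeal H) (hxreg : x ∈ nonZeroDivisors H)
    (hG : PunctDisc G) : PunctDisc H := by
  classical
  obtain ⟨I₁, I₂, hcov, ⟨P₁, hP₁, hP₁m, hP₁I⟩, ⟨P₂, hP₂, hP₂m, hP₂I⟩, hdisj⟩ := hG
  set φ := algebraMap H G with hφ
  -- minimal primes are not maximal
  have hminne : ∀ P ∈ minimalPrimes G, P ≠ maximalIdeal G := by
    rintro P hP rfl
    have h1 : P₁ ≤ maximalIdeal G := IsLocalRing.le_maximalIdeal hP₁.ne_top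
    have h2 : maximalIdeal G ≤ P₁ := hP.2 ⟨hP₁, bot_le⟩ h1
    exact hP₁m (le_antisymm h1 h2)
  have hI12 : I₁ * I₂ ≤ nilradical G := by
    rw [nilradical, ← Ideal.sInf_minimalPrimes]
    refine le_sInf (fun P hP => ?_)
    have hPp : P.IsPrime := hP.1.1
    rcases hcov P hPp (hminne P hP) with h | h
    · exact (Ideal.mul_le_inf.trans inf_le_left).trans h
    · exact (Ideal.mul_le_inf.trans inf_le_right).trans h
  have hrad : maximalIdeal G ≤ (I₁ ⊔ I₂).radical := by
    rw [Ideal.radical_eq_sInf]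
    refine le_sInf ?_
    rintro P ⟨hP1, hP2⟩
    exact (hdisj P hP2 (le_sup_left.trans hP1) (le_sup_right.trans hP1)).ge
  obtain ⟨n, hn⟩ := Ideal.exists_pow_le_of_le_radical_of_fg hrad
    (IsNoetherian.noetherian (maximalIdeal G))
  obtain ⟨r, hr⟩ := IsNoetherianRing.isNilpotent_nilradical G
  have hI12' : I₁ ^ (r + 1) * I₂ ^ (r + 1) = ⊥ := by
    rw [← mul_pow]
    have h2 : (I₁ * I₂) ^ (r + 1) ≤ nilradical G ^ (r + 1) := Ideal.pow_right_mono hI12 _
    have h3 : nilradical G ^ (r + 1) = ⊥ := by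
      rw [pow_succ, hr, Ideal.zero_eq_bot, Ideal.bot_mul]
    rw [h3] at h2
    exact le_bot_iff.mp h2
  set M : ℕ := n * ((r + 1) + (r + 1)) with hM
  have hmM : maximalIdeal G ^ M ≤ I₁ ^ (r + 1) ⊔ I₂ ^ (r + 1) := by
    rw [hM, pow_mul]
    exact (Ideal.pow_right_mono hn _).trans Ideal.sup_pow_add_le_pow_sup_pow
  have hxnzd : φ x ∈ nonZeroDivisors G := by
    have h2 := Module.Flat.isSMulRegular_of_nonZeroDivisors (M := G) hxreg
    rw [mem_nonZeroDivisors_iff_right]
    intro g hg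
    apply h2
    change x • g = x • (0 : G)
    rw [smul_zero, Algebra.smul_def, mul_comm]
    exact hg
  have hXmin : ∀ P ∈ minimalPrimes G, φ (x ^ M) ∉ P := fun P hP hxP => by
    have hPp : P.IsPrime := hP.1.1
    rw [map_pow] at hxP
    have := hPp.mem_of_pow_mem _ hxP
    exact Set.disjoint_left.mp (Ideal.disjoint_nonZeroDivisors_of_mem_minimalPrimes hP) this hxnzd
  -- X is in neither I₁ nor I₂
  have hXI : ∀ (I I' : Ideal G) (P : Ideal G), P.IsPrime → P ≠ maximalIdeal G → I ≤ P →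
      (∀ P₀ : Ideal G, P₀.IsPrime → P₀ ≠ maximalIdeal G → I ≤ P₀ ∨ I' ≤ P₀) →
      (∀ P₀ : Ideal G, P₀.IsPrime → I ≤ P₀ → I' ≤ P₀ → P₀ = maximalIdeal G) →
      φ (x ^ M) ∉ I := by
    intro I I' P hP hPm hIP hc hd hX
    obtain ⟨P₀, hP₀, hP₀P⟩ := Ideal.exists_minimalPrimes_le (I := ⊥) (J := P) bot_le
    have hP₀p : P₀.IsPrime := hP₀.1.1
    rcases hc P₀ hP₀p (hminne P₀ hP₀) with h | h
    · exact hXmin P₀ hP₀ (h hX)
    · exact hPm (hd P hP hIP (h.trans hP₀P))
  have hXI₁ : φ (x ^ M) ∉ I₁ := hXI I₁ I₂ P₁ hP₁ hP₁m hP₁I hcov hdisj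
  have hXI₂ : φ (x ^ M) ∉ I₂ := hXI I₂ I₁ P₂ hP₂ hP₂m hP₂I
    (fun P₀ h1 h2 => (hcov P₀ h1 h2).symm) (fun P₀ h1 h2 h3 => hdisj P₀ h1 h3 h2)
  have hXmem : φ (x ^ M) ∈ maximalIdeal G ^ M := by
    rw [map_pow]
    apply Ideal.pow_mem_pow
    rw [← hm]
    exact Ideal.mem_map_of_mem _ hxm
  obtain ⟨a, ha, b, hb, hab⟩ := Submodule.mem_sup.mp (hmM hXmem)
  have hzero : ∀ s ∈ I₁ ^ (r + 1), ∀ t ∈ I₂ ^ (r + 1), s * t = 0 := by
    intro s hs t ht
    have : s * t ∈ I₁ ^ (r + 1) * I₂ ^ (r + 1) := Ideal.mul_mem_mul hs ht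
    rw [hI12'] at this
    exact this
  have hsq : a * a = φ (x ^ M) * a := by
    rw [← hab, add_mul, mul_comm b a, hzero a ha b hb, add_zero]
  have hcol : ∀ y ∈ maximalIdeal H ^ M, ∃ z : G, φ y * a = φ (x ^ M) * z := by
    intro y hy
    have hy' : φ y ∈ maximalIdeal G ^ M := by
      rw [← hm, ← Ideal.map_pow]
      exact Ideal.mem_map_of_mem _ hy
    obtain ⟨y₁, hy₁, y₂, hy₂, hy12⟩ := Submodule.mem_sup.mp (hmM hy')
    refine ⟨y₁, ?_⟩
    rw [← hy12, add_mul, mul_comm y₂ a, hzero a ha y₂ hy₂, add_zero, ← hab, add_mul,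
      mul_comm b y₁, hzero y₁ hy₁ b hb, add_zero, mul_comm]
  have hI₁le : I₁ ^ (r + 1) ≤ I₁ := Ideal.pow_le_self (Nat.succ_ne_zero r)
  have hI₂le : I₂ ^ (r + 1) ≤ I₂ := Ideal.pow_le_self (Nat.succ_ne_zero r)
  have hna : φ (x ^ M) ∉ Ideal.span {a} := by
    intro h
    have : Ideal.span {a} ≤ I₁ := by
      rw [Ideal.span_singleton_le_iff_mem]; exact hI₁le ha
    exact hXI₁ (this h)
  rcases mem_span_or_punctDisc hm hres x hxm hxreg M a hsq hcol hna with hmem | hH
  swap
  · exact hH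
  exfalso
  obtain ⟨g, hg⟩ := Ideal.mem_span_singleton'.mp hmem
  have hreg : ∀ y : G, φ (x ^ M) * y = 0 → y = 0 := by
    intro y hy
    have h1 : φ (x ^ M) ∈ nonZeroDivisors G := by
      rw [map_pow]; exact pow_mem hxnzd M
    exact (mem_nonZeroDivisors_iff_right.mp h1) y (by rwa [mul_comm])
  have hgg : g * g = g := by
    have h1 : φ (x ^ M) * (φ (x ^ M) * (g * g - g)) = 0 := by
      rw [← hg] at hsq
      linear_combination hsq
    have := hreg _ (hreg _ h1)
    linear_combination this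
  rcases IsLocalRing.isUnit_or_isUnit_one_sub_self g with hu | hu
  · have h1 : g * (1 - g) = 0 := by rw [mul_sub, mul_one, hgg, sub_self]
    have h2 : 1 - g = 0 := hu.mul_right_eq_zero.mp h1
    have h3 : g = 1 := by linear_combination -h2
    rw [h3, one_mul] at hg
    exact hXI₁ (hg ▸ hI₁le ha)
  · have h1 : (1 - g) * g = 0 := by rw [sub_mul, one_mul, hgg, sub_self]
    have h2 : g = 0 := hu.mul_right_eq_zero.mp h1
    rw [h2, zero_mul] at hg
    have h3 : φ (x ^ M) = b := by rw [← hab, ← hg, zero_add]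
    exact hXI₂ (h3 ▸ hI₂le hb)

end ThmB




/-- In a Noetherian local ring with no socle, the maximal ideal contains a regular element. -/
theorem exists_regular_of_no_socle (R : Type u) [CommRing R] [IsLocalRing R] [IsNoetherianRing R]
    (hsoc : ∀ h : R, (∀ y ∈ maximalIdeal R, y * h = 0) → h = 0) :
    ∃ x ∈ maximalIdeal R, x ∈ nonZeroDivisors R := by
  classical
  by_contra hcon
  push_neg at hcon
  have hsub : (maximalIdeal R : Set R) ⊆ ⋃ p ∈ associatedPrimes R R, (p : Set R) := by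
    rw [biUnion_associatedPrimes_eq_compl_nonZeroDivisors]
    intro x hx
    exact hcon x hx
  have hfin : (associatedPrimes R R).Finite := associatedPrimes.finite R R
  have hsub' : (maximalIdeal R : Set R) ⊆
      ⋃ p ∈ (hfin.toFinset : Set (Ideal R)), ((fun p : Ideal R => p) p : Set R) := by
    intro x hx
    obtain ⟨p, hp, hxp⟩ := Set.mem_iUnion₂.mp (hsub hx)
    exact Set.mem_iUnion₂.mpr ⟨p, by simpa using hp, hxp⟩
  obtain ⟨p, hp, hle⟩ := (Ideal.subset_union_prime (f := fun p : Ideal R => p)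
    (⊥ : Ideal R) ⊥ (fun p hp _ _ => by
      have hp' : p ∈ associatedPrimes R R := by simpa using hp
      exact hp'.isPrime)).mp hsub'
  have hp' : p ∈ associatedPrimes R R := by simpa using hp
  obtain ⟨hpp, h, hph⟩ := (isAssociatedPrime_iff.mp hp')
  have hh0 : h = 0 := by
    apply hsoc
    intro y hy
    have h1 : y ∈ p := hle hy
    rw [hph, Submodule.mem_colon_singleton] at h1
    simpa using h1
  apply hpp.ne_top
  rw [hph, hh0, Ideal.eq_top_iff_one, Submodule.mem_colon_singleton]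
  simp


section Descent

variable {H G : Type u} [CommRing H] [HenselianLocalRing H] [IsNoetherianRing H]
  [CommRing G] [IsLocalRing G] [IsNoetherianRing G] [Algebra H G]
  [Module.Flat H G] [IsLocalHom (algebraMap H G)]

open Groth.Agent.Lib.Helper56 in
theorem punctDisc_descent
    (hm : (maximalIdeal H).map (algebraMap H G) = maximalIdeal G)
    (hres : ∀ x : G, ∃ y : H, x - algebraMap H G y ∈ maximalIdeal G)
    (hG : PunctDisc G) : PunctDisc H := by
  classical
  set φ := algebraMap H G with hφ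
  -- the stabilised m-torsion ideal
  let f : ℕ →o Submodule H H :=
    ⟨fun n => (⊥ : Ideal H).colon ((maximalIdeal H ^ n : Ideal H) : Set H), by
      intro n k hnk h hh
      rw [Submodule.mem_colon] at hh ⊢
      intro y hy
      exact hh y (Ideal.pow_le_pow_right hnk hy)⟩
  obtain ⟨N, hN⟩ := (monotone_stabilizes_iff_noetherian (R := H) (M := H)).mpr inferInstance f
  set Γ : Ideal H := f N with hΓ
  have hmemΓ : ∀ (n : ℕ) (h : H), h ∈ f n ↔ ∀ y ∈ maximalIdeal H ^ n, h * y = 0 := by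
    intro n h
    change h ∈ (⊥ : Ideal H).colon ((maximalIdeal H ^ n : Ideal H) : Set H) ↔ _
    rw [Submodule.mem_colon]
    simp only [smul_eq_mul, Ideal.mem_bot, SetLike.mem_coe]
  -- (P1)
  have hP1 : ∀ P : Ideal H, P.IsPrime → P ≠ maximalIdeal H → Γ ≤ P := by
    intro P hP hPm h hh
    have hlt : P < maximalIdeal H := lt_of_le_of_ne (IsLocalRing.le_maximalIdeal hP.ne_top) hPm
    obtain ⟨y, hym, hyP⟩ := SetLike.exists_of_lt hlt
    have h1 : h * y ^ N = 0 := (hmemΓ N h).mp hh _ (Ideal.pow_mem_pow hym N)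
    have h2 : h * y ^ N ∈ P := h1 ▸ P.zero_mem
    rcases hP.mem_or_mem h2 with h3 | h3
    · exact h3
    · exact absurd (hP.mem_of_pow_mem _ h3) hyP
  -- (P2)
  have hP2 : ∀ h : H, (∀ y ∈ maximalIdeal H, y * h ∈ Γ) → h ∈ Γ := by
    intro h hh
    have h1 : h ∈ f (N + 1) := by
      rw [hmemΓ]
      intro z hz
      rw [pow_succ'] at hz
      induction hz using Submodule.mul_induction_on' with
      | mem_mul_mem y hy u hu =>
        have := (hmemΓ N (y * h)).mp (hh y hy) u hu
        linear_combination this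
      | add z₁ _ z₂ _ h₁ h₂ => rw [mul_add, h₁, h₂, add_zero]
    rw [hN (N + 1) (Nat.le_succ N)]
    exact h1
  obtain ⟨I₁, I₂, hcov, ⟨P₁, hP₁, hP₁m, hP₁I⟩, hrest⟩ := hG
  have hG' : PunctDisc G := ⟨I₁, I₂, hcov, ⟨P₁, hP₁, hP₁m, hP₁I⟩, hrest⟩
  have hΓne : Γ ≠ ⊤ := by
    intro htop
    have h1 : (1 : H) ∈ Γ := htop ▸ Submodule.mem_top
    have h2 : maximalIdeal H ^ N = ⊥ := by
      rw [eq_bot_iff]
      intro y hy
      have := (hmemΓ N 1).mp h1 y hy
      rw [one_mul] at this
      exact this ▸ Ideal.zero_mem _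
    have h3 : maximalIdeal G ^ N ≤ P₁ := by
      rw [← hm, ← Ideal.map_pow, h2, Ideal.map_bot]
      exact bot_le
    have h4 : maximalIdeal G ≤ P₁ := hP₁.le_of_pow_le h3
    exact hP₁m ((maximalIdeal.isMaximal G).eq_of_le hP₁.ne_top h4).symm
  -- quotients
  have hΓG : Γ.map φ ≠ ⊤ := by
    intro htop
    have h1 : Γ.map φ ≤ maximalIdeal G := by
      rw [← hm]
      exact Ideal.map_mono (IsLocalRing.le_maximalIdeal hΓne)
    exact (maximalIdeal.isMaximal G).ne_top (top_le_iff.mp (htop ▸ h1))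
  haveI : Nontrivial (G ⧸ Γ.map φ) := Ideal.Quotient.nontrivial_iff.mpr hΓG
  haveI : IsLocalRing (G ⧸ Γ.map φ) :=
    IsLocalRing.of_surjective' (Ideal.Quotient.mk _) Ideal.Quotient.mk_surjective
  haveI : Nontrivial (H ⧸ Γ) := Ideal.Quotient.nontrivial_iff.mpr hΓne
  haveI : IsLocalRing (H ⧸ Γ) :=
    IsLocalRing.of_surjective' (Ideal.Quotient.mk _) Ideal.Quotient.mk_surjective
  haveI : Algebra.IsIntegral H (H ⧸ Γ) :=
    Algebra.IsIntegral.of_surjective (Ideal.Quotient.mkₐ H Γ) (Ideal.Quotient.mkₐ_surjective H Γ)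
  haveI : HenselianLocalRing (H ⧸ Γ) :=
    Groth.Agent.Lib.Helper69.HensFinite.henselianLocalRing_of_isIntegral H (H ⧸ Γ)
  haveI : Module.Flat (H ⧸ Γ) (G ⧸ Γ.map φ) := flat_quotient_map H G Γ
  haveI : IsLocalHom (algebraMap (H ⧸ Γ) (G ⧸ Γ.map φ)) := isLocalHom_quotient_map H G Γ
  have hm' : (maximalIdeal (H ⧸ Γ)).map (algebraMap (H ⧸ Γ) (G ⧸ Γ.map φ)) =
      maximalIdeal (G ⧸ Γ.map φ) := by
    rw [map_maximalIdeal_quotient_eq, hm, map_quotientMk_maximalIdeal]
  have hres' : ∀ x : G ⧸ Γ.map φ, ∃ y : H ⧸ Γ,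
      x - algebraMap (H ⧸ Γ) (G ⧸ Γ.map φ) y ∈ maximalIdeal (G ⧸ Γ.map φ) := by
    intro x
    obtain ⟨x, rfl⟩ := Ideal.Quotient.mk_surjective x
    obtain ⟨y, hy⟩ := hres x
    refine ⟨Ideal.Quotient.mk Γ y, ?_⟩
    have e : algebraMap (H ⧸ Γ) (G ⧸ Γ.map φ) (Ideal.Quotient.mk Γ y) =
        Ideal.Quotient.mk (Γ.map φ) (φ y) := rfl
    rw [e, ← map_sub, ← map_quotientMk_maximalIdeal]
    exact Ideal.mem_map_of_mem _ hy
  -- regular element in H/Γ
  have hsoc : ∀ h : H ⧸ Γ, (∀ y ∈ maximalIdeal (H ⧸ Γ), y * h = 0) → h = 0 := by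
    intro h hh
    obtain ⟨h, rfl⟩ := Ideal.Quotient.mk_surjective h
    rw [Ideal.Quotient.eq_zero_iff_mem]
    apply hP2
    intro y hy
    rw [← Ideal.Quotient.eq_zero_iff_mem, map_mul]
    apply hh
    rw [← map_quotientMk_maximalIdeal]
    exact Ideal.mem_map_of_mem _ hy
  obtain ⟨x, hxm, hxreg⟩ := exists_regular_of_no_socle (H ⧸ Γ) hsoc
  -- transfer
  have hkerG : ∀ P : Ideal G, P.IsPrime → P ≠ maximalIdeal G →
      RingHom.ker (Ideal.Quotient.mk (Γ.map φ)) ≤ P := by
    intro P hP hPm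
    rw [Ideal.mk_ker, Ideal.map_le_iff_le_comap]
    apply hP1 _ (Ideal.comap_isPrime _ P)
    intro h
    apply hPm
    have h1 : maximalIdeal G ≤ P := by
      rw [← hm, Ideal.map_le_iff_le_comap, h]
    exact ((maximalIdeal.isMaximal G).eq_of_le hP.ne_top h1).symm
  have hkerH : ∀ P : Ideal H, P.IsPrime → P ≠ maximalIdeal H →
      RingHom.ker (Ideal.Quotient.mk Γ) ≤ P := by
    intro P hP hPm
    rw [Ideal.mk_ker]
    exact hP1 P hP hPm
  have h1 : PunctDisc (G ⧸ Γ.map φ) :=
    (punctDisc_iff_of_surjective (Ideal.Quotient.mk (Γ.map φ)) Ideal.Quotient.mk_surjective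
      hkerG).mp hG'
  have h2 : PunctDisc (H ⧸ Γ) := punctDisc_descent_of_regular hm' hres' x hxm hxreg h1
  exact (punctDisc_iff_of_surjective (Ideal.Quotient.mk Γ) Ideal.Quotient.mk_surjective
    hkerH).mpr h2

end Descent

end Groth.Agent.Lib.Helper38.PunctDisc
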