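import Mathlib

/-!
# Topological skeleton for connectedness of complements (helper38)

* `exists_specializes_of_mem_closure`: in a quasi-sober space in which every point has an open
  neighbourhood which is a Noetherian space, every point of the closure of an open set `V` is a
  specialization of a point of `V`.
* `isConnected_compl_of_local`: if `α` is connected, closures of open sets are given by
  specializations, and for every `x` the set of generizations of `x` not in `T` is connected,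
  then `Tᶜ` is connected.
-/

set_option autoImplicit false

namespace Groth.Agent.Lib.Helper38.SchConn

open TopologicalSpace Set

theorem exists_specializes_of_mem_closure_noetherian {α : Type*} [TopologicalSpace α]
    [QuasiSober α] [NoetherianSpace α] (V : Set α) (hV : IsOpen V) (x : α) (hx : x ∈ closure V) :
    ∃ v ∈ V, v ⤳ x := by
  have hfin : (irreducibleComponents α).Finite := NoetherianSpace.finite_irreducibleComponents
  have hV' : V = ⋃ Z ∈ irreducibleComponents α, V ∩ Z := by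
    rw [← Set.inter_iUnion₂, ← Set.sUnion_eq_biUnion, sUnion_irreducibleComponents, Set.inter_univ]
  rw [hV', hfin.closure_biUnion] at hx
  obtain ⟨Z, hZ, hxZ⟩ := Set.mem_iUnion₂.mp hx
  have hZc : IsClosed Z := isClosed_of_mem_irreducibleComponents Z hZ
  have hZi : IsIrreducible Z := hZ.1
  have hgen : IsGenericPoint hZi.genericPoint Z := hZi.isGenericPoint_genericPoint hZc
  have hne : (V ∩ Z).Nonempty := by
    by_contra hempty
    rw [Set.not_nonempty_iff_eq_empty] at hempty
    rw [hempty, closure_empty] at hxZ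
    exact hxZ
  refine ⟨hZi.genericPoint, ?_, ?_⟩
  · rw [hgen.mem_open_set_iff hV, Set.inter_comm]
    exact hne
  · have h1 : x ∈ Z := hZc.closure_subset_iff.mpr Set.inter_subset_right hxZ
    rw [specializes_iff_mem_closure, hgen.def]
    exact h1

theorem exists_specializes_of_mem_closure {α : Type*} [TopologicalSpace α] [QuasiSober α]
    (hloc : ∀ x : α, ∃ W : Set α, IsOpen W ∧ x ∈ W ∧ NoetherianSpace ↥W)
    (V : Set α) (hV : IsOpen V) (x : α) (hx : x ∈ closure V) :
    ∃ v ∈ V, v ⤳ x := by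
  obtain ⟨W, hWo, hxW, hWn⟩ := hloc x
  haveI := hWn
  haveI : QuasiSober ↥W := hWo.isOpenEmbedding_subtypeVal.quasiSober
  let V' : Set ↥W := Subtype.val ⁻¹' V
  have hV'o : IsOpen V' := hV.preimage continuous_subtype_val
  have hx' : (⟨x, hxW⟩ : ↥W) ∈ closure V' := by
    rw [mem_closure_iff]
    intro O hO hxO
    obtain ⟨O', hO'o, rfl⟩ := isOpen_induced_iff.mp hO
    have h1 : (O' ∩ W) ∈ nhds x := (hO'o.inter hWo).mem_nhds ⟨hxO, hxW⟩
    obtain ⟨z, hz1, hz2⟩ := mem_closure_iff_nhds.mp hx (O' ∩ W) h1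
    exact ⟨⟨z, hz1.2⟩, hz1.1, hz2⟩
  obtain ⟨v, hvV, hvx⟩ := exists_specializes_of_mem_closure_noetherian V' hV'o ⟨x, hxW⟩ hx'
  exact ⟨v.1, hvV, hvx.map continuous_subtype_val⟩

theorem isConnected_compl_of_local {α : Type*} [TopologicalSpace α] [ConnectedSpace α]
    (hF : ∀ V : Set α, IsOpen V → ∀ x ∈ closure V, ∃ v ∈ V, v ⤳ x)
    (T : Set α) (hT : IsClosed T)
    (hL : ∀ x : α, IsConnected ({x' | x' ⤳ x} \ T)) : IsConnected Tᶜ := by
  have hgen : ∀ x : α, ∃ x' ∈ Tᶜ, x' ⤳ x := fun x => by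
    obtain ⟨x', hx'⟩ := (hL x).nonempty
    exact ⟨x', hx'.2, hx'.1⟩
  refine ⟨?_, ?_⟩
  · obtain ⟨x⟩ : Nonempty α := inferInstance
    obtain ⟨x', hx', -⟩ := hgen x
    exact ⟨x', hx'⟩
  · intro u v hu hv huv hTu hTv
    by_contra hcon
    rw [Set.not_nonempty_iff_eq_empty] at hcon
    let U₁ := Tᶜ ∩ u
    let U₂ := Tᶜ ∩ v
    have hU₁o : IsOpen U₁ := hT.isOpen_compl.inter hu
    have hU₂o : IsOpen U₂ := hT.isOpen_compl.inter hv
    have hcover : ∀ x : α, x ∈ closure U₁ ∪ closure U₂ := by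
      intro x
      obtain ⟨x', hx'T, hx'x⟩ := hgen x
      rcases huv hx'T with h | h
      · left
        exact hx'x.mem_closed isClosed_closure (subset_closure ⟨hx'T, h⟩)
      · right
        exact hx'x.mem_closed isClosed_closure (subset_closure ⟨hx'T, h⟩)
    have hpre : IsPreconnected (Set.univ : Set α) := isPreconnected_univ
    rw [isPreconnected_closed_iff] at hpre
    obtain ⟨x, -, hx1, hx2⟩ := hpre (closure U₁) (closure U₂) isClosed_closure isClosed_closure
      (fun x _ => hcover x)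
      (by
        obtain ⟨z, hz⟩ := hTu
        exact ⟨z, Set.mem_univ _, subset_closure hz⟩)
      (by
        obtain ⟨z, hz⟩ := hTv
        exact ⟨z, Set.mem_univ _, subset_closure hz⟩)
    obtain ⟨v₁, hv₁, hv₁x⟩ := hF U₁ hU₁o x hx1
    obtain ⟨v₂, hv₂, hv₂x⟩ := hF U₂ hU₂o x hx2
    have hSx := (hL x).isPreconnected
    obtain ⟨z, hz, hzu, hzv⟩ := hSx u v hu hv
      (fun z hz => huv hz.2)
      ⟨v₁, ⟨hv₁x, hv₁.1⟩, hv₁.2⟩ ⟨v₂, ⟨hv₂x, hv₂.1⟩, hv₂.2⟩
    have : z ∈ Tᶜ ∩ (u ∩ v) := ⟨hz.2, hzu, hzv⟩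
    rw [hcon] at this
    exact this

end Groth.Agent.Lib.Helper38.SchConn
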