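import Mathlib

/-!
# Geometric reducedness at stalks (helper38)

`isReduced_tensor_stalk`: if `f : X ⟶ Y` is geometrically reduced then for every `x : X` and every
field `K` over `𝒪_{Y, f x}`, the ring `K ⊗ 𝒪_{X, x}` is reduced.
-/

set_option autoImplicit false
set_option linter.unusedSectionVars false
set_option linter.style.haveILetI false
universe u

namespace Groth.Agent.Lib.Helper38.SchConn

open TensorProduct AlgebraicGeometry CategoryTheory CategoryTheory.Limits

theorem isReduced_tensor_localization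
    (R S A B K : Type u) [CommRing R] [CommRing S] [CommRing A] [CommRing B] [Field K]
    [Algebra R S] [Algebra R A] [Algebra S B] [Algebra A B] [Algebra R B]
    [IsScalarTower R A B] [IsScalarTower R S B]
    (p : Ideal R) [p.IsPrime] [IsLocalization.AtPrime A p]
    (q : Ideal S) [q.IsPrime] [IsLocalization.AtPrime B q]
    [Algebra A K] [Algebra R K] [IsScalarTower R A K]
    (h : _root_.IsReduced (K ⊗[R] S)) : _root_.IsReduced (K ⊗[A] B) := by
  let e₁ : K ⊗[A] B ≃ₐ[A] K ⊗[R] B := IsLocalization.algebraTensorEquiv p.primeCompl A K B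
  let M' : Submonoid (K ⊗[R] S) :=
    q.primeCompl.map (Algebra.TensorProduct.includeRight (R := R) (A := K))
  let e₂ : K ⊗[R] B ≃ₐ[K] Localization M' :=
    IsLocalization.tensorProductEquivOfMapIncludeRight R K q.primeCompl B (Localization M')
  haveI : _root_.IsReduced (Localization M') := isReduced_localizationPreserves M' _ h
  haveI : _root_.IsReduced (K ⊗[R] B) := isReduced_of_injective e₂ e₂.injective
  exact isReduced_of_injective e₁ e₁.injective

theorem isReduced_tensor_sections {X Y : Scheme.{u}} (f : X ⟶ Y) [GeometricallyReduced f]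
    {V : Y.Opens} (hV : IsAffineOpen V) {W : X.Opens} (hW : IsAffineOpen W) (e : W ≤ f ⁻¹ᵁ V)
    [Algebra Γ(Y, V) Γ(X, W)] (halg : algebraMap Γ(Y, V) Γ(X, W) = (f.appLE V W e).hom)
    (K : Type u) [Field K] [Algebra Γ(Y, V) K] :
    _root_.IsReduced (K ⊗[Γ(Y, V)] Γ(X, W)) := by
  let gK' : Spec (.of K) ⟶ Spec Γ(Y, V) := Spec.map (CommRingCat.ofHom (algebraMap Γ(Y, V) K))
  let gK : Spec (.of K) ⟶ Y := gK' ≫ hV.fromSpec
  haveI : AlgebraicGeometry.IsReduced (pullback f gK) :=
    GeometricallyReduced.geometrically_isReduced _ _ _ (.of_hasPullback _ _)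
  have e₁ : Spec.map (f.appLE V W e) ≫ hV.fromSpec = hW.fromSpec ≫ f :=
    IsAffineOpen.SpecMap_appLE_fromSpec f hV hW e
  have e₂ : gK' ≫ hV.fromSpec = 𝟙 _ ≫ gK := by simp [gK]
  let m := pullback.map (Spec.map (f.appLE V W e)) gK' f gK hW.fromSpec (𝟙 _) hV.fromSpec e₁ e₂
  haveI : IsOpenImmersion m := inferInstance
  haveI h1 : AlgebraicGeometry.IsReduced (pullback (Spec.map (f.appLE V W e)) gK') :=
    isReduced_of_isOpenImmersion m
  have hmap : Spec.map (CommRingCat.ofHom (algebraMap Γ(Y, V) Γ(X, W))) =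
      Spec.map (f.appLE V W e) := by
    rw [halg]
    rfl
  haveI h1' : AlgebraicGeometry.IsReduced
      (pullback (Spec.map (CommRingCat.ofHom (algebraMap Γ(Y, V) Γ(X, W))))
        (Spec.map (CommRingCat.ofHom (algebraMap Γ(Y, V) K)))) := by
    rw [hmap]
    exact h1
  have h2 : AlgebraicGeometry.IsReduced (Spec (.of (Γ(X, W) ⊗[Γ(Y, V)] K))) :=
    isReduced_of_isOpenImmersion (pullbackSpecIso Γ(Y, V) Γ(X, W) K).inv
  haveI h3 : _root_.IsReduced (Γ(X, W) ⊗[Γ(Y, V)] K) :=
    (affine_isReduced_iff (CommRingCat.of (Γ(X, W) ⊗[Γ(Y, V)] K))).mp h2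
  exact isReduced_of_injective (Algebra.TensorProduct.comm Γ(Y, V) K Γ(X, W))
    (Algebra.TensorProduct.comm Γ(Y, V) K Γ(X, W)).injective

end Groth.Agent.Lib.Helper38.SchConn
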