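import Mathlib
import Groth.Agent.Lib.Helper38.SchConn2

/-!
# Geometric reducedness at stalks, continued (helper38)
-/

set_option autoImplicit false
set_option linter.unusedSectionVars false
set_option linter.style.haveILetI false
universe u

namespace Groth.Agent.Lib.Helper38.SchConn

open TensorProduct AlgebraicGeometry CategoryTheory CategoryTheory.Limits

theorem isReduced_tensor_stalk {X Y : Scheme.{u}} (f : X ⟶ Y) [GeometricallyReduced f] (x : X)
    [Algebra (Y.presheaf.stalk (f x)) (X.presheaf.stalk x)]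
    (halg : algebraMap (Y.presheaf.stalk (f x)) (X.presheaf.stalk x) = (f.stalkMap x).hom)
    (K : Type u) [Field K] [Algebra (Y.presheaf.stalk (f x)) K] :
    _root_.IsReduced (K ⊗[Y.presheaf.stalk (f x)] X.presheaf.stalk x) := by
  obtain ⟨V, hV, hyV, -⟩ := exists_isAffineOpen_mem_and_subset (x := f x) (U := ⊤) trivial
  have hxV : x ∈ f ⁻¹ᵁ V := hyV
  obtain ⟨W, hW, hxW, hWV⟩ := exists_isAffineOpen_mem_and_subset (x := x) (U := f ⁻¹ᵁ V) hxV
  have e : W ≤ f ⁻¹ᵁ V := hWV
  let R := Γ(Y, V)
  let S := Γ(X, W)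
  let A := Y.presheaf.stalk (f x)
  let B := X.presheaf.stalk x
  letI : Algebra R S := (f.appLE V W e).hom.toAlgebra
  letI : Algebra R A := TopCat.Presheaf.algebra_section_stalk Y.presheaf (⟨f x, hyV⟩ : V)
  letI : Algebra S B := TopCat.Presheaf.algebra_section_stalk X.presheaf (⟨x, hxW⟩ : W)
  letI : Algebra R B := ((algebraMap A B).comp (algebraMap R A)).toAlgebra
  haveI : IsScalarTower R A B := IsScalarTower.of_algebraMap_eq (fun _ => rfl)
  haveI : IsScalarTower R S B := IsScalarTower.of_algebraMap_eq (fun r => by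
    show algebraMap A B (Y.presheaf.germ V (f x) hyV r) =
      X.presheaf.germ W x hxW (f.appLE V W e r)
    rw [halg]
    show (f.stalkMap x) (Y.presheaf.germ V (f x) hyV r) = _
    rw [Scheme.Hom.germ_stalkMap_apply, Scheme.Hom.appLE]
    exact (TopCat.Presheaf.germ_res_apply X.presheaf (homOfLE e) x hxW _).symm)
  letI : Algebra R K := ((algebraMap A K).comp (algebraMap R A)).toAlgebra
  haveI : IsScalarTower R A K := IsScalarTower.of_algebraMap_eq (fun _ => rfl)
  haveI hlocA : IsLocalization.AtPrime A (hV.primeIdealOf ⟨f x, hyV⟩).asIdeal :=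
    hV.isLocalization_stalk ⟨f x, hyV⟩
  haveI hlocB : IsLocalization.AtPrime B (hW.primeIdealOf ⟨x, hxW⟩).asIdeal :=
    hW.isLocalization_stalk ⟨x, hxW⟩
  have h1 : _root_.IsReduced (K ⊗[R] S) := isReduced_tensor_sections f hV hW e rfl K
  exact isReduced_tensor_localization R S A B K (hV.primeIdealOf ⟨f x, hyV⟩).asIdeal
    (hW.primeIdealOf ⟨x, hxW⟩).asIdeal h1

end Groth.Agent.Lib.Helper38.SchConn
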