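import Mathlib
import Groth.Agent.Lib.Helper38.SchConn1
import Groth.Agent.Lib.Helper38.SchConn3
import Groth.Agent.Lib.Helper38.GUConn2

/-!
# Connectedness of the complement of a closed set with nowhere dense image, for flat morphisms with
geometrically reduced fibres to a geometrically unibranch base (helper38)
-/

set_option autoImplicit false
set_option linter.unusedSectionVars false
set_option linter.style.haveILetI false
universe u

namespace Groth.Agent.Lib.Helper38.SchConn

open TensorProduct AlgebraicGeometry CategoryTheory CategoryTheory.Limits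

theorem isConnected_generizations_diff {X Y : Scheme.{u}} [IsLocallyNoetherian X]
    [IsLocallyNoetherian Y]
    (hY : ∀ y : Y, CAlg2.IsGeomUnibranch (Y.presheaf.stalk y))
    (f : X ⟶ Y) [Flat f] [GeometricallyReduced f]
    (hFY : ∀ V : Set Y, IsOpen V → ∀ y ∈ closure V, ∃ v ∈ V, v ⤳ y)
    (T : Set X) (hT' : interior (closure (f.base '' T)) = ∅) (x : X) :
    IsConnected ({x' | x' ⤳ x} \ T) := by
  let A := Y.presheaf.stalk (f x)
  let B := X.presheaf.stalk x
  letI : Algebra A B := (f.stalkMap x).hom.toAlgebra
  haveI : IsLocalHom (algebraMap A B) := (inferInstance : IsLocalHom (f.stalkMap x).hom)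
  haveI : Module.Flat A B := Flat.stalkMap f x
  have hred : ∀ (K : Type u) [Field K] [Algebra A K], _root_.IsReduced (K ⊗[A] B) :=
    fun K _ _ => isReduced_tensor_stalk f x rfl K
  let jX := X.fromSpecStalk x
  let jY := Y.fromSpecStalk (f x)
  let g : PrimeSpectrum B → PrimeSpectrum A := PrimeSpectrum.comap (algebraMap A B)
  let Tx : Set (PrimeSpectrum B) := jX ⁻¹' T
  have hsq : Spec.map (f.stalkMap x) ≫ jY = jX ≫ f := Scheme.SpecMap_stalkMap_fromSpecStalk f
  have hsq' : ∀ P : PrimeSpectrum B, jY (g P) = f (jX P) := by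
    intro P
    have h1 : (Spec.map (f.stalkMap x) ≫ jY) P = (jX ≫ f) P := by rw [hsq]
    exact h1
  have hTx' : interior (closure (g '' Tx)) = ∅ := by
    have hd : IsDomain (CAlg2.red A) := (hY (f x)).1.1
    have hnilprime : (nilradical A).IsPrime := (Ideal.Quotient.isDomain_iff_prime _).mp hd
    let η : PrimeSpectrum A := ⟨nilradical A, hnilprime⟩
    have hη : ∀ q : PrimeSpectrum A, η ⤳ q := fun q =>
      (PrimeSpectrum.le_iff_specializes η q).mp (nilradical_le_prime q.asIdeal)
    let Z : Set Y := closure (f.base '' T)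
    have hsub : closure (g '' Tx) ⊆ jY ⁻¹' Z := by
      apply closure_minimal _ (isClosed_closure.preimage jY.continuous)
      rintro _ ⟨P, hP, rfl⟩
      show jY (g P) ∈ Z
      rw [hsq']
      exact subset_closure ⟨_, hP, rfl⟩
    have hηZ : η ∉ closure (g '' Tx) := by
      intro hmem
      have hξZ : jY η ∈ Z := hsub hmem
      have hξ : ∀ v : Y, v ⤳ jY η → v = jY η := by
        intro v hv
        have hξy : jY η ⤳ f x := by
          have h2 : jY η ∈ Set.range jY := ⟨η, rfl⟩
          rw [Scheme.range_fromSpecStalk] at h2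
          exact h2
        have hv' : v ∈ Set.range jY := by
          rw [Scheme.range_fromSpecStalk]
          exact hv.trans hξy
        obtain ⟨q', rfl⟩ := hv'
        let q : PrimeSpectrum A := q'
        have hq : q ⤳ η := (jY.isEmbedding.isInducing.specializes_iff).mp hv
        have h3 : q = η := le_antisymm ((PrimeSpectrum.le_iff_specializes q η).mpr hq)
          ((PrimeSpectrum.le_iff_specializes η q).mpr (hη q))
        show jY q = jY η
        rw [h3]
      have hdense : jY η ∈ closure Zᶜ := by
        rw [closure_compl, hT']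
        exact Set.mem_compl (Set.notMem_empty _)
      obtain ⟨v, hvZ, hvξ⟩ := hFY Zᶜ isClosed_closure.isOpen_compl (jY η) hdense
      rw [hξ v hvξ] at hvZ
      exact hvZ hξZ
    by_contra hne
    obtain ⟨q, hq⟩ := Set.nonempty_iff_ne_empty.mpr hne
    have h4 : η ∈ interior (closure (g '' Tx)) := (hη q).mem_open isOpen_interior hq
    exact hηZ (interior_subset h4)
  have hconn : IsConnected (Txᶜ) :=
    Groth.Agent.Lib.Helper38.GUConn.isConnected_compl A B hred (hY (f x)) Tx hTx'
  have himg : jX '' Txᶜ = {x' | x' ⤳ x} \ T := by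
    ext z
    constructor
    · rintro ⟨P, hP, rfl⟩
      refine ⟨?_, hP⟩
      have h5 : jX P ∈ Set.range jX := ⟨P, rfl⟩
      rw [Scheme.range_fromSpecStalk] at h5
      exact h5
    · rintro ⟨hz, hzT⟩
      have h6 : z ∈ Set.range jX := by
        rw [Scheme.range_fromSpecStalk]
        exact hz
      obtain ⟨P, rfl⟩ := h6
      exact ⟨P, hzT, rfl⟩
  rw [← himg]
  exact hconn.image _ jX.continuous.continuousOn

theorem exists_noetherian_nhd {X : Scheme.{u}} [IsLocallyNoetherian X] (x : X) :
    ∃ W : Set X, IsOpen W ∧ x ∈ W ∧ TopologicalSpace.NoetherianSpace ↥W := by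
  obtain ⟨W, hW, hxW, -⟩ := exists_isAffineOpen_mem_and_subset (x := x) (U := ⊤) trivial
  haveI : IsNoetherianRing Γ(X, W) := IsLocallyNoetherian.component_noetherian ⟨W, hW⟩
  exact ⟨W.1, W.2, hxW, noetherianSpace_of_isAffineOpen W hW⟩

theorem isConnected_compl_scheme {X Y : Scheme.{u}} [IsLocallyNoetherian X]
    [IsLocallyNoetherian Y] [ConnectedSpace ↥X]
    (hY : ∀ y : Y, CAlg2.IsGeomUnibranch (Y.presheaf.stalk y))
    (f : X ⟶ Y) [Flat f] [GeometricallyReduced f]
    (T : Set ↥X) (hT : IsClosed T) (hT' : interior (closure (f.base '' T)) = ∅) :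
    IsConnected Tᶜ := by
  have hFX := exists_specializes_of_mem_closure (α := ↥X) exists_noetherian_nhd
  have hFY := exists_specializes_of_mem_closure (α := ↥Y) exists_noetherian_nhd
  exact isConnected_compl_of_local hFX T hT
    (fun x => isConnected_generizations_diff hY f hFY T hT' x)

end Groth.Agent.Lib.Helper38.SchConn
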