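import Mathlib
import Groth.Agent.Lib.Helper38.IntClosMax

/-!
# The integral closure of a Noetherian local ring in its total ring of fractions is semilocal
(helper38)

* `finite_maximal_of_integral_family` : abstract finiteness of the maximal spectrum along a finite
  jointly "nil-injective" family of integral ring homomorphisms.
* `finite_maximal_integralClosure` : for a Noetherian local ring `E`, the integral closure of `E`
  in `FractionRing E` (as an `A`-subalgebra) has finitely many maximal ideals.
* `maximal_iff_of_units` : abstract description of the maximal ideals of a subring `C ⊆ R`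
  with `C ∩ Rˣ = Cˣ`, `R` semilocal with residue fields integral over a base `A`.
-/

set_option autoImplicit false
universe u

namespace Groth.Agent.Lib.Helper38.SemilocalNorm

/-- Abstract finiteness of the maximal spectrum. -/
theorem finite_maximal_of_integral_family (R : Type u) [CommRing R] {ι : Type u} [Finite ι]
    (S : ι → Type u) [∀ i, CommRing (S i)] (φ : ∀ i, R →+* S i) (hφ : ∀ i, (φ i).IsIntegral)
    (hS : ∀ i, {M : Ideal (S i) | M.IsMaximal}.Finite)
    (hker : ∀ x : R, (∀ i, φ i x = 0) → IsNilpotent x) :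
    {M : Ideal R | M.IsMaximal}.Finite := by
  classical
  have := Fintype.ofFinite ι
  have hsub : {M : Ideal R | M.IsMaximal} ⊆
      ⋃ i, (fun N : Ideal (S i) => N.comap (φ i)) '' {N : Ideal (S i) | N.IsMaximal} := by
    intro M hM
    have hM' : M.IsMaximal := hM
    have hprime := hM'.isPrime
    have h1 : ∃ i, RingHom.ker (φ i) ≤ M := by
      by_contra hcon
      push_neg at hcon
      have h2 : ∀ i, ∃ x, x ∈ RingHom.ker (φ i) ∧ x ∉ M :=
        fun i => SetLike.not_le_iff_exists.mp (hcon i)
      choose x hx hxM using h2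
      have h3 : ∏ i, x i ∉ M := by
        intro h
        obtain ⟨i, -, hi⟩ := Ideal.IsPrime.prod_mem_iff.mp h
        exact hxM i hi
      have h4 : IsNilpotent (∏ i, x i) := by
        apply hker
        intro i
        rw [map_prod]
        exact Finset.prod_eq_zero (Finset.mem_univ i) ((RingHom.mem_ker).mp (hx i))
      obtain ⟨n, hn⟩ := h4
      exact h3 (hprime.mem_of_pow_mem n (hn ▸ M.zero_mem))
    obtain ⟨i, hi⟩ := h1
    letI := (φ i).toAlgebra
    have hint : Algebra.IsIntegral R (S i) := ⟨hφ i⟩
    obtain ⟨Q, hQ, hQM⟩ := Ideal.exists_ideal_over_maximal_of_isIntegral M hi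
    exact Set.mem_iUnion.mpr ⟨i, Q, hQ, hQM⟩
  exact (Set.finite_iUnion (fun i => (hS i).image _)).subset hsub

section Concrete

variable (E : Type u) [CommRing E]

/-- The canonical map from the total ring of fractions of `E` to the fraction field of `E ⧸ q`
for a minimal prime `q`. -/
noncomputable def toFrac (q : Ideal E) [q.IsPrime] (hq : q ∈ minimalPrimes E) :
    FractionRing E →+* FractionRing (E ⧸ q) :=
  IsLocalization.lift (M := nonZeroDivisors E)
    (g := (algebraMap (E ⧸ q) (FractionRing (E ⧸ q))).comp (Ideal.Quotient.mk q))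
    (fun y => by
      have hy : (y : E) ∉ q := fun h =>
        Set.disjoint_left.mp (Ideal.disjoint_nonZeroDivisors_of_mem_minimalPrimes hq) h y.2
      have h0 : Ideal.Quotient.mk q (y : E) ≠ 0 := by
        rwa [Ne, Ideal.Quotient.eq_zero_iff_mem]
      exact IsUnit.mk0 _
        ((map_ne_zero_iff _ (IsFractionRing.injective (E ⧸ q) (FractionRing (E ⧸ q)))).mpr h0))

theorem toFrac_algebraMap (q : Ideal E) [q.IsPrime] (hq : q ∈ minimalPrimes E) (e : E) :
    toFrac E q hq (algebraMap E (FractionRing E) e) =
      algebraMap (E ⧸ q) (FractionRing (E ⧸ q)) (Ideal.Quotient.mk q e) := by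
  unfold toFrac
  rw [IsLocalization.lift_eq]
  rfl

theorem toFrac_comp (q : Ideal E) [q.IsPrime] (hq : q ∈ minimalPrimes E) :
    (toFrac E q hq).comp (algebraMap E (FractionRing E)) =
      (algebraMap (E ⧸ q) (FractionRing (E ⧸ q))).comp (Ideal.Quotient.mk q) :=
  RingHom.ext (toFrac_algebraMap E q hq)

end Concrete



section Concrete2

variable (A : Type u) [CommRing A] (E : Type u) [CommRing E] [Algebra A E]

/-- The integral closure of `E` in its total ring of fractions, as an `A`-subalgebra. -/
abbrev IC : Subalgebra A (FractionRing E) :=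
  (integralClosure E (FractionRing E)).restrictScalars A

/-- `E → E'`. -/
noncomputable def toIC : E →+* IC A E :=
  RingHom.codRestrict (algebraMap E (FractionRing E)) (IC A E) (fun _ => isIntegral_algebraMap)

theorem toIC_isIntegral : (toIC A E).IsIntegral := by
  intro x
  obtain ⟨p, hp, hpx⟩ := (x.2 : IsIntegral E x.1)
  refine ⟨p, hp, ?_⟩
  apply Subtype.ext
  have h := Polynomial.hom_eval₂ p (toIC A E) (IC A E).val.toRingHom x
  change (IC A E).val.toRingHom (Polynomial.eval₂ (toIC A E) x p) = 0
  rw [h]
  exact hpx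

/-- `E' → (E/q)'` for a minimal prime `q`. -/
noncomputable def icMap (q : Ideal E) [q.IsPrime] (hq : q ∈ minimalPrimes E) :
    IC A E →+* integralClosure (E ⧸ q) (FractionRing (E ⧸ q)) :=
  RingHom.codRestrict ((toFrac E q hq).comp (IC A E).val.toRingHom)
    (integralClosure (E ⧸ q) (FractionRing (E ⧸ q)))
    (fun x => IsIntegral.map_of_comp_eq (Ideal.Quotient.mk q) (toFrac E q hq)
      (toFrac_comp E q hq).symm (x.2 : IsIntegral E x.1))

theorem icMap_comp (q : Ideal E) [q.IsPrime] (hq : q ∈ minimalPrimes E) :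
    (icMap A E q hq).comp (toIC A E) =
      (algebraMap (E ⧸ q) (integralClosure (E ⧸ q) (FractionRing (E ⧸ q)))).comp
        (Ideal.Quotient.mk q) := by
  ext e
  exact toFrac_algebraMap E q hq e

theorem icMap_isIntegral (q : Ideal E) [q.IsPrime] (hq : q ∈ minimalPrimes E) :
    (icMap A E q hq).IsIntegral := by
  apply RingHom.IsIntegral.tower_top (toIC A E)
  rw [icMap_comp]
  exact RingHom.IsIntegral.trans _ _
    (RingHom.isIntegral_of_surjective _ Ideal.Quotient.mk_surjective)
    (algebraMap_isIntegral_iff.mpr inferInstance)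

theorem isNilpotent_of_icMap_eq_zero (x : IC A E)
    (hx : ∀ (q : Ideal E) (_ : q.IsPrime) (hq : q ∈ minimalPrimes E), icMap A E q hq x = 0) :
    IsNilpotent x := by
  obtain ⟨⟨e, s⟩, hes⟩ := IsLocalization.surj (nonZeroDivisors E) x.1
  simp only at hes
  have he : e ∈ nilradical E := by
    rw [nilradical, ← Ideal.sInf_minimalPrimes, Ideal.mem_sInf]
    intro q hq
    have hqp : q.IsPrime := hq.1.1
    have h1 := congrArg Subtype.val (hx q hqp hq)
    have h2 : toFrac E q hq x.1 = 0 := h1
    have h3 := congrArg (toFrac E q hq) hes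
    rw [map_mul, h2, zero_mul, toFrac_algebraMap] at h3
    have h4 : Ideal.Quotient.mk q e = 0 :=
      (IsFractionRing.injective (E ⧸ q) (FractionRing (E ⧸ q))) (by rw [← h3, map_zero])
    exact Ideal.Quotient.eq_zero_iff_mem.mp h4
  obtain ⟨n, hn⟩ := he
  refine ⟨n, Subtype.ext ?_⟩
  have h5 : x.1 ^ n * (algebraMap E (FractionRing E) s) ^ n = 0 := by
    rw [← mul_pow, hes, ← map_pow, hn, map_zero]
  have hu : IsUnit ((algebraMap E (FractionRing E) s) ^ n) :=
    (IsLocalization.map_units (FractionRing E) s).pow n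
  have h6 : x.1 ^ n = 0 := by
    have := hu.mul_left_eq_zero.mp h5
    exact this
  simpa using h6

theorem finite_maximal_integralClosure [IsLocalRing E] [IsNoetherianRing E] :
    {M : Ideal (IC A E) | M.IsMaximal}.Finite := by
  let ι := {q : Ideal E // q ∈ minimalPrimes E}
  have hfin : Finite ι := (minimalPrimes.finite_of_isNoetherianRing E).to_subtype
  have hprime : ∀ i : ι, i.1.IsPrime := fun i => i.2.1.1
  refine finite_maximal_of_integral_family (IC A E) (ι := ι)
    (fun i => integralClosure (E ⧸ i.1) (FractionRing (E ⧸ i.1)))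
    (fun i => icMap A E i.1 i.2) (fun i => icMap_isIntegral A E i.1 i.2) ?_ ?_
  · intro i
    have : Nontrivial (E ⧸ i.1) := Ideal.Quotient.nontrivial_iff.mpr (hprime i).ne_top
    exact Groth.Agent.Lib.Helper38.IntClosMax.finite_maximal (E ⧸ i.1) (FractionRing (E ⧸ i.1))
  · intro x hx
    exact isNilpotent_of_icMap_eq_zero A E x (fun q _ hq => hx ⟨q, hq⟩)

end Concrete2


section Residue

variable (A : Type u) [CommRing A] (E : Type u) [CommRing E] [Algebra A E]
  [IsLocalRing A] [IsLocalRing E] [IsLocalHom (algebraMap A E)] [Algebra.QuasiFinite A E]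

theorem residue_isIntegral :
    ((Ideal.Quotient.mk (IsLocalRing.maximalIdeal E)).comp (algebraMap A E)).IsIntegral := by
  have h1 : Algebra.QuasiFinite A (IsLocalRing.ResidueField E) :=
    inferInstanceAs (Algebra.QuasiFinite A (E ⧸ IsLocalRing.maximalIdeal E))
  have h2 : Algebra.QuasiFinite (IsLocalRing.ResidueField A) (IsLocalRing.ResidueField E) :=
    Algebra.QuasiFinite.of_restrictScalars A _ _
  have h3 : Module.Finite (IsLocalRing.ResidueField A) (IsLocalRing.ResidueField E) :=
    Module.Finite.of_quasiFinite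
  have h4 : Module.Finite A (IsLocalRing.ResidueField E) :=
    Module.Finite.trans (IsLocalRing.ResidueField A) (IsLocalRing.ResidueField E)
  have h5 : Algebra.IsIntegral A (IsLocalRing.ResidueField E) := Algebra.IsIntegral.of_finite A _
  have h6 : (algebraMap A (IsLocalRing.ResidueField E)).IsIntegral :=
    algebraMap_isIntegral_iff.mpr h5
  exact h6

theorem quotient_isIntegral (M : Ideal (IC A E)) (hM : M.IsMaximal) :
    ((Ideal.Quotient.mk M).comp (algebraMap A (IC A E))).IsIntegral := by
  have hh0 : (Ideal.Quotient.mk M).IsIntegral :=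
    RingHom.isIntegral_of_surjective _ Ideal.Quotient.mk_surjective
  have hh : ((Ideal.Quotient.mk M).comp (toIC A E)).IsIntegral :=
    @RingHom.IsIntegral.trans E (IC A E) (IC A E ⧸ M) _ _ _ (toIC A E) (Ideal.Quotient.mk M)
      (toIC_isIntegral A E) hh0
  have hmax : (M.comap (toIC A E)).IsMaximal :=
    Ideal.isMaximal_comap_of_isIntegral_of_isMaximal' (toIC A E) (toIC_isIntegral A E) M
  have hm : M.comap (toIC A E) = IsLocalRing.maximalIdeal E := IsLocalRing.eq_maximalIdeal hmax
  have hker : ∀ a ∈ IsLocalRing.maximalIdeal E,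
      ((Ideal.Quotient.mk M).comp (toIC A E)) a = 0 := by
    intro a ha
    rw [← hm] at ha
    exact Ideal.Quotient.eq_zero_iff_mem.mpr ha
  have hg₂ : (Ideal.Quotient.lift (IsLocalRing.maximalIdeal E)
      ((Ideal.Quotient.mk M).comp (toIC A E)) hker).IsIntegral := by
    have hcomp : (Ideal.Quotient.lift (IsLocalRing.maximalIdeal E)
        ((Ideal.Quotient.mk M).comp (toIC A E)) hker).comp
        (Ideal.Quotient.mk (IsLocalRing.maximalIdeal E)) =
        (Ideal.Quotient.mk M).comp (toIC A E) := by
      ext a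
      simp
    refine @RingHom.IsIntegral.tower_top E (E ⧸ IsLocalRing.maximalIdeal E) (IC A E ⧸ M) _ _ _
      (Ideal.Quotient.mk (IsLocalRing.maximalIdeal E)) _ ?_
    rw [hcomp]
    exact hh
  have h7 := @RingHom.IsIntegral.trans A (E ⧸ IsLocalRing.maximalIdeal E) (IC A E ⧸ M) _ _ _
    ((Ideal.Quotient.mk (IsLocalRing.maximalIdeal E)).comp (algebraMap A E))
    (Ideal.Quotient.lift (IsLocalRing.maximalIdeal E)
      ((Ideal.Quotient.mk M).comp (toIC A E)) hker) (residue_isIntegral A E) hg₂
  have h8 : (Ideal.Quotient.lift (IsLocalRing.maximalIdeal E)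
      ((Ideal.Quotient.mk M).comp (toIC A E)) hker).comp
      ((Ideal.Quotient.mk (IsLocalRing.maximalIdeal E)).comp (algebraMap A E)) =
      (Ideal.Quotient.mk M).comp (algebraMap A (IC A E)) := by
    ext a
    simp only [RingHom.comp_apply, Ideal.Quotient.lift_mk]
    congr 1
  rwa [h8] at h7

end Residue



theorem maximal_iff_of_units (A : Type u) [CommRing A] (R : Type u) [CommRing R] [Algebra A R]
    (C : Type u) [CommRing C] [Algebra A C] (ι : C →ₐ[A] R)
    (hfin : {M : Ideal R | M.IsMaximal}.Finite)
    (hint : ∀ M : Ideal R, M.IsMaximal →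
      ((Ideal.Quotient.mk M).comp (algebraMap A R)).IsIntegral)
    (hunit : ∀ c : C, IsUnit (ι c) → IsUnit c) :
    {N : Ideal C | N.IsMaximal}.Finite ∧
      ∀ N : Ideal C, N.IsMaximal ↔ ∃ M : Ideal R, M.IsMaximal ∧ N = M.comap ι := by
  have hiff : ∀ N : Ideal C, N.IsMaximal ↔ ∃ M : Ideal R, M.IsMaximal ∧ N = M.comap ι := by
    intro N
    constructor
    · intro hN
      classical
      have hsub : (N : Set C) ⊆ ⋃ M ∈ (hfin.toFinset : Set (Ideal R)), (M.comap ι : Ideal C) := by
        intro c hc
        have hnu : ¬ IsUnit c := fun hu => hN.ne_top (Ideal.eq_top_of_isUnit_mem _ hc hu)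
        have hnu' : ι c ∈ nonunits R := fun hu => hnu (hunit c hu)
        obtain ⟨M, hM, hcM⟩ := exists_max_ideal_of_mem_nonunits hnu'
        refine Set.mem_biUnion (x := M) ?_ ?_
        · simpa using hM
        · exact hcM
      obtain ⟨M, hMs, hle⟩ := (Ideal.subset_union_prime (f := fun M : Ideal R => M.comap ι)
        (⊥ : Ideal R) ⊥ (fun M hM _ _ => by
          have hM' : M.IsMaximal := by simpa using hM
          have := hM'.isPrime
          exact Ideal.comap_isPrime ι M)).mp hsub
      have hM' : M.IsMaximal := by simpa using hMs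
      have := hM'.isPrime
      have hne : M.comap ι ≠ ⊤ := (Ideal.comap_isPrime ι M).ne_top
      exact ⟨M, hM', hN.eq_of_le hne hle⟩
    · rintro ⟨M, hM, rfl⟩
      let g : C →+* R ⧸ M := (Ideal.Quotient.mk M).comp ι.toRingHom
      have hg : g.IsIntegral := by
        apply RingHom.IsIntegral.tower_top (algebraMap A C)
        have : g.comp (algebraMap A C) = (Ideal.Quotient.mk M).comp (algebraMap A R) := by
          ext a
          simp [g]
        rw [this]
        exact hint M hM
      have hbot : (⊥ : Ideal (R ⧸ M)).IsMaximal := (Ideal.bot_quotient_isMaximal_iff M).mpr hM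
      have h1 := Ideal.isMaximal_comap_of_isIntegral_of_isMaximal' g hg ⊥
      have h2 : (⊥ : Ideal (R ⧸ M)).comap g = M.comap ι := by
        ext c
        simp [g, Ideal.Quotient.eq_zero_iff_mem]
      rwa [h2] at h1
  refine ⟨?_, hiff⟩
  refine (hfin.image (fun M : Ideal R => M.comap ι)).subset ?_
  intro N hN
  obtain ⟨M, hM, rfl⟩ := (hiff N).mp hN
  exact ⟨M, hM, rfl⟩

end Groth.Agent.Lib.Helper38.SemilocalNorm
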